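import Groth.Agent.StMod.K908.Desc

/-!
# Sections and morphisms of quasi-coherent modules in terms of a dense class of affine objects
-/

set_option autoImplicit false
set_option linter.unusedVariables false
set_option linter.style.haveILetI false
set_option backward.isDefEq.respectTransparency false
set_option backward.isDefEq.respectTransparency.types false
set_option linter.dupNamespace false
set_option linter.unusedSectionVars false

universe v' w' v w u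

open CategoryTheory CategoryTheory.Limits AlgebraicGeometry Opposite TopologicalSpace StMod
open Groth.Agent.CohqA.BaseChangeMod

namespace K908.Dense

open K908.AMod K908.Fam K908.Ext K908.QSec K908.QHom K907.Sec K908.Desc

variable {S : Scheme.{u}} {𝒳 : BasedCategory.{v, w} (Over S)} [hX : FibCat.IsFibGrpd 𝒳.p] {C : ASieve 𝒳}

/-- Sections over an affine object are determined on a dense class. -/
theorem ext_aff (hC : Dense C) (F : QCoh 𝒳) {ξ : 𝒳.obj} (hξ : IsAffine (sch 𝒳 ξ)) (x y : Γ(F.obj.obj ξ, ⊤))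
    (h : ∀ (ζ : C.cat.obj) (ψ : ζ.obj ⟶ ξ), F.obj.mapTop ψ x = F.obj.mapTop ψ y) : x = y := by
  obtain ⟨ζ, c, hc⟩ := hC ξ hξ
  exact map_injective (C := ASieve.all 𝒳) (rest F.obj (ASieve.all 𝒳)) (rest_isCart F _)
    (ζ' := ⟨ζ.obj, C.aff ζ.property⟩) (ζ := ⟨ξ, hξ⟩) (ObjectProperty.homMk c) hc (h ζ c)

/-- Gluing of sections over an affine object from a dense class. -/
theorem glue_aff (hC : Dense C) (F : QCoh 𝒳) {ξ : 𝒳.obj} (hξ : IsAffine (sch 𝒳 ξ))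
    (s : ∀ (ζ : C.cat.obj) (_ : ζ.obj ⟶ ξ), Γ(F.obj.obj ζ.obj, ⊤))
    (hs : ∀ (ζ' ζ : C.cat.obj) (χ : ζ' ⟶ ζ) (ψ : ζ.obj ⟶ ξ), F.obj.mapTop χ.hom (s ζ ψ) = s ζ' (χ.hom ≫ ψ)) :
    ∃ x : Γ(F.obj.obj ξ, ⊤), ∀ (ζ : C.cat.obj) (ψ : ζ.obj ⟶ ξ), F.obj.mapTop ψ x = s ζ ψ := by
  obtain ⟨ζ, c, hc⟩ := hC ξ hξ
  let ξ₁ : (ASieve.all 𝒳).cat.obj := ⟨ξ, hξ⟩
  let up : C.cat.obj → (ASieve.all 𝒳).cat.obj := fun ζ => ⟨ζ.obj, C.aff ζ.property⟩
  have hR : FCovS ξ₁ (fun ζ' ψ => C.P ζ'.obj) := by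
    constructor
    · intro ζ'' ζ' χ ψ h
      exact C.down χ.hom h ζ''.property
    · exact ⟨up ζ, ObjectProperty.homMk c, hc, ζ.property⟩
  obtain ⟨x, hx, -⟩ := fglue (rest F.obj (ASieve.all 𝒳)) (rest_isCart F _) hR
    (fun ζ' ψ h => s ⟨ζ'.obj, h⟩ ψ.hom) (fun ζ'' ζ' χ ψ h => by
      exact hs ⟨ζ''.obj, C.down χ.hom h ζ''.property⟩ ⟨ζ'.obj, h⟩ (ObjectProperty.homMk χ.hom) ψ.hom)
  exact ⟨x, fun ζ ψ => hx (up ζ) (ObjectProperty.homMk ψ) ζ.property⟩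

/-- Sections over an object are determined on a dense class. -/
theorem sec_ext (hC : Dense C) (F : QCoh 𝒳) {ξ : 𝒳.obj} (x y : Γ(F.obj.obj ξ, ⊤))
    (h : ∀ (ζ : C.cat.obj) (ψ : ζ.obj ⟶ ξ), F.obj.mapTop ψ x = F.obj.mapTop ψ y) : x = y := by
  refine QSec.sec_ext F (zloc_all ξ) _ _ fun c => ?_
  refine (secX_top F.obj c.1.2 x).trans (Eq.trans ?_ (secX_top F.obj c.1.2 y).symm)
  refine ext_aff hC F c.1.1.property _ _ fun ζ ψ => ?_
  rw [← Mod.mapTop_comp, ← Mod.mapTop_comp, h]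

/-- Gluing of sections over an object from a dense class. -/
theorem sec_glue (hC : Dense C) (F : QCoh 𝒳) {ξ : 𝒳.obj}
    (s : ∀ (ζ : C.cat.obj) (_ : ζ.obj ⟶ ξ), Γ(F.obj.obj ζ.obj, ⊤))
    (hs : ∀ (ζ' ζ : C.cat.obj) (χ : ζ' ⟶ ζ) (ψ : ζ.obj ⟶ ξ), F.obj.mapTop χ.hom (s ζ ψ) = s ζ' (χ.hom ≫ ψ)) :
    ∃ x : Γ(F.obj.obj ξ, ⊤), ∀ (ζ : C.cat.obj) (ψ : ζ.obj ⟶ ξ), F.obj.mapTop ψ x = s ζ ψ := by
  have key : ∀ (η : (ASieve.all 𝒳).cat.obj) (φ : η.obj ⟶ ξ), ∃ x : Γ(F.obj.obj η.obj, ⊤),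
      ∀ (ζ : C.cat.obj) (ψ : ζ.obj ⟶ η.obj), F.obj.mapTop ψ x = s ζ (ψ ≫ φ) := by
    intro η φ
    refine glue_aff hC F η.property (fun ζ ψ => s ζ (ψ ≫ φ)) ?_
    intro ζ' ζ χ ψ
    rw [hs, Category.assoc]
  choose t ht using key
  obtain ⟨x, hx⟩ := (toFam_bijective F (zloc_all ξ) ⊤).2 (BFam.mk (fun η φ _ => t η φ) (fun η' η χ φ h => by
    refine ext_aff hC F η'.property _ _ fun ζ ψ => ?_
    rw [ht]
    change F.obj.mapTop ψ (F.obj.mapTop χ.hom (t η φ)) = _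
    rw [← Mod.mapTop_comp, ht, Category.assoc]))
  have hx' : ∀ (η : (ASieve.all 𝒳).cat.obj) (φ : η.obj ⟶ ξ), F.obj.mapTop φ x = t η φ := by
    intro η φ
    have h1 := congrArg (fun s : BFam (rest F.obj (ASieve.all 𝒳)) ξ ⊤ => s.v η φ (inOp_top φ)) hx
    exact (secX_top F.obj φ x).symm.trans h1
  refine ⟨x, fun ζ ψ => ?_⟩
  have h1 := hx' ⟨ζ.obj, C.aff ζ.property⟩ ψ
  refine h1.trans ?_
  have h2 := ht ⟨ζ.obj, C.aff ζ.property⟩ ψ ζ (𝟙 _)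
  rw [Mod.mapTop_id, Category.id_comp] at h2
  exact h2

/-- Morphisms are determined on a dense class. -/
theorem hom_ext (hC : Dense C) {F : Mod 𝒳} {G : QCoh 𝒳} {u u' : F ⟶ G.obj}
    (h : ∀ (ζ : C.cat.obj) (x : Γ(F.obj ζ.obj, ⊤)), (u.app ζ.obj).app ⊤ x = (u'.app ζ.obj).app ⊤ x) : u = u' := by
  refine hom_ext_of_top (C := ASieve.all 𝒳) zloc_all fun η x => ?_
  refine ext_aff hC G η.property _ _ fun ζ ψ => ?_
  rw [Mod.mapTop_app, Mod.mapTop_app, h]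

/-- Morphisms of families on a dense class extend to morphisms of quasi-coherent modules. -/
theorem exists_hom (hC : Dense C) {F G : QCoh 𝒳} (t : AHom (rest F.obj C) (rest G.obj C)) :
    ∃ u : F.obj ⟶ G.obj, ∀ (ζ : C.cat.obj) (x : Γ(F.obj.obj ζ.obj, ⊤)), (u.app ζ.obj).app ⊤ x = t.app ζ x := by
  have key : ∀ (η : (ASieve.all 𝒳).cat.obj) (x : Γ(F.obj.obj η.obj, ⊤)), ∃ y : Γ(G.obj.obj η.obj, ⊤),
      ∀ (ζ : C.cat.obj) (ψ : ζ.obj ⟶ η.obj), G.obj.mapTop ψ y = t.app ζ (F.obj.mapTop ψ x) := by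
    intro η x
    refine glue_aff hC G η.property (fun ζ ψ => t.app ζ (F.obj.mapTop ψ x)) ?_
    intro ζ' ζ χ ψ
    refine (t.comm χ (F.obj.mapTop ψ x)).symm.trans ?_
    exact congrArg (t.app ζ') (F.obj.mapTop_comp χ.hom ψ x).symm
  choose f hf using key
  let t' : AHom (rest F.obj (ASieve.all 𝒳)) (rest G.obj (ASieve.all 𝒳)) :=
    { app := fun η =>
        { toFun := f η
          map_add' := fun x y => by
            refine ext_aff hC G η.property _ _ fun ζ ψ => ?_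
            rw [hf, Mod.mapTop_add, Mod.mapTop_add, hf, hf]
            exact map_add (t.app ζ) _ _
          map_smul' := fun r x => by
            refine ext_aff hC G η.property _ _ fun ζ ψ => ?_
            refine (hf η _ ζ ψ).trans ?_
            refine (congrArg (t.app ζ) (F.obj.mapTop_smul ψ r x)).trans ?_
            refine ((t.app ζ).map_smul _ _).trans ?_
            refine Eq.trans ?_ (G.obj.mapTop_smul ψ r (f η x)).symm
            rw [hf] }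
      comm := fun {η' η} χ x => by
        refine ext_aff hC G η'.property _ _ fun ζ ψ => ?_
        refine (hf η' _ ζ ψ).trans ?_
        change t.app ζ (F.obj.mapTop ψ (F.obj.mapTop χ.hom x)) = G.obj.mapTop ψ (G.obj.mapTop χ.hom (f η x))
        rw [← Mod.mapTop_comp, ← Mod.mapTop_comp, hf] }
  refine ⟨homMk zloc_all t', fun ζ x => ?_⟩
  refine (homMk_app zloc_all t' ⟨ζ.obj, C.aff ζ.property⟩ x).trans ?_
  have h1 := hf ⟨ζ.obj, C.aff ζ.property⟩ x ζ (𝟙 _)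
  rw [Mod.mapTop_id, Mod.mapTop_id] at h1
  exact h1

/-- A morphism which is bijective on global sections over a dense class is an isomorphism. -/
theorem isIso_of_bijective (hC : Dense C) {F G : QCoh 𝒳} (u : F.obj ⟶ G.obj)
    (h : ∀ ζ : C.cat.obj, Function.Bijective (fun x : Γ(F.obj.obj ζ.obj, ⊤) => (u.app ζ.obj).app ⊤ x)) :
    ∃ v : G.obj ⟶ F.obj, u ≫ v = 𝟙 _ ∧ v ≫ u = 𝟙 _ := by
  let t : AHom (rest G.obj C) (rest F.obj C) :=
    { app := fun ζ => (LinearEquiv.ofBijective (restMap u C |>.app ζ) (h ζ)).symm.toLinearMap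
      comm := fun {ζ' ζ} φ x => by
        obtain ⟨y, rfl⟩ := (h ζ).2 x
        have e1 : ∀ (ζ : C.cat.obj) (y : Γ(F.obj.obj ζ.obj, ⊤)),
            (LinearEquiv.ofBijective (restMap u C |>.app ζ) (h ζ)).symm ((u.app ζ.obj).app ⊤ y) = y := by
          intro ζ y
          rw [LinearEquiv.symm_apply_eq]
          rfl
        refine (congrArg (LinearEquiv.ofBijective (restMap u C |>.app ζ') (h ζ')).symm
          ((restMap u C).comm φ y).symm).trans ?_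
        refine (e1 ζ' _).trans ?_
        exact congrArg ((rest F.obj C).map φ) (e1 ζ y).symm }
  obtain ⟨v, hv⟩ := exists_hom hC t
  have e2 : ∀ (ζ : C.cat.obj) (y : Γ(G.obj.obj ζ.obj, ⊤)), (u.app ζ.obj).app ⊤ ((v.app ζ.obj).app ⊤ y) = y := by
    intro ζ y
    rw [hv]
    exact (LinearEquiv.ofBijective (restMap u C |>.app ζ) (h ζ)).apply_symm_apply y
  refine ⟨v, ?_, ?_⟩
  · refine hom_ext hC fun ζ x => (h ζ).1 ?_
    exact e2 ζ ((u.app ζ.obj).app ⊤ x)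
  · refine hom_ext hC fun ζ x => ?_
    exact e2 ζ x

section Sections

variable {𝒴 : BasedCategory.{v', w'} (Over S)}

/-- Sections of the pushforward are determined on a dense class. -/
theorem relSect_ext (hC : Dense C) (π : 𝒳 ⥤ᵇ 𝒴) (F : QCoh 𝒳) (η : 𝒴.obj) {s t : Mod.RelSect π F.obj η}
    (h : ∀ (ζ : C.cat.obj) (α : π.obj ζ.obj ⟶ η), s.1 ζ.obj α = t.1 ζ.obj α) : s = t := by
  apply Mod.RelSect.ext
  intro ξ α
  refine sec_ext hC F _ _ fun ζ ψ => ?_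
  rw [s.2, t.2]
  exact h ζ _

/-- Sections of the pushforward from families over a dense class. -/
theorem exists_relSect (hC : Dense C) (π : 𝒳 ⥤ᵇ 𝒴) (F : QCoh 𝒳) (η : 𝒴.obj)
    (s : ∀ (ζ : C.cat.obj) (_ : π.obj ζ.obj ⟶ η), Γ(F.obj.obj ζ.obj, ⊤))
    (hs : ∀ ⦃ζ' ζ : C.cat.obj⦄ (φ : ζ' ⟶ ζ) (α : π.obj ζ.obj ⟶ η),
      F.obj.mapTop φ.hom (s ζ α) = s ζ' (π.map φ.hom ≫ α)) :
    ∃ t : Mod.RelSect π F.obj η, ∀ (ζ : C.cat.obj) (α : π.obj ζ.obj ⟶ η), t.1 ζ.obj α = s ζ α := by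
  have key : ∀ (ξ : 𝒳.obj) (α : π.obj ξ ⟶ η), ∃ x : Γ(F.obj.obj ξ, ⊤), ∀ (ζ : C.cat.obj) (φ : ζ.obj ⟶ ξ),
      F.obj.mapTop φ x = s ζ (π.map φ ≫ α) := by
    intro ξ α
    refine sec_glue hC F (fun ζ φ => s ζ (π.map φ ≫ α)) ?_
    intro ζ' ζ χ ψ
    rw [hs, Functor.map_comp, Category.assoc]
  choose x hx using key
  refine ⟨⟨x, ?_⟩, ?_⟩
  · intro ξ' ξ φ α
    refine sec_ext hC F _ _ fun ζ ψ => ?_
    rw [← Mod.mapTop_comp, hx, hx, Functor.map_comp, Category.assoc]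
  · intro ζ α
    have h1 := hx ζ.obj α ζ (𝟙 _)
    rw [Mod.mapTop_id] at h1
    refine h1.trans ?_
    rw [CategoryTheory.Functor.map_id, Category.id_comp]

/-- Global sections are determined on a dense class. -/
theorem globSect_ext (hC : Dense C) (F : QCoh 𝒳) {s t : F.obj.GlobSect}
    (h : ∀ (ζ : C.cat.obj), s.1 ζ.obj = t.1 ζ.obj) : s = t := by
  apply Mod.GlobSect.ext
  intro ξ
  refine sec_ext hC F _ _ fun ζ ψ => ?_
  rw [s.2, t.2]
  exact h ζ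

/-- Global sections from families over a dense class. -/
theorem exists_globSect (hC : Dense C) (F : QCoh 𝒳)
    (s : ∀ (ζ : C.cat.obj), Γ(F.obj.obj ζ.obj, ⊤))
    (hs : ∀ ⦃ζ' ζ : C.cat.obj⦄ (φ : ζ' ⟶ ζ), F.obj.mapTop φ.hom (s ζ) = s ζ') :
    ∃ t : F.obj.GlobSect, ∀ (ζ : C.cat.obj), t.1 ζ.obj = s ζ := by
  have key : ∀ (ξ : 𝒳.obj), ∃ x : Γ(F.obj.obj ξ, ⊤), ∀ (ζ : C.cat.obj) (φ : ζ.obj ⟶ ξ),
      F.obj.mapTop φ x = s ζ := fun ξ => sec_glue hC F (fun ζ _ => s ζ) (fun ζ' ζ χ ψ => hs χ)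
  choose x hx using key
  refine ⟨⟨x, ?_⟩, ?_⟩
  · intro ξ' ξ φ
    refine sec_ext hC F _ _ fun ζ ψ => ?_
    rw [← Mod.mapTop_comp, hx, hx]
  · intro ζ
    have h1 := hx ζ.obj ζ (𝟙 _)
    rw [Mod.mapTop_id] at h1
    exact h1

end Sections

end K908.Dense
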