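import Groth.Agent.StMod.K908.QSec

/-!
# Morphisms and sections of quasi-coherent modules on `𝒳` in terms of the affine objects

`homMk`: a family of linear maps on the global sections over the objects of `C` comes from a unique morphism.
`globOf`/`relOf`: global sections and sections of the pushforward are families over the objects of `C`.
-/

set_option autoImplicit false
set_option linter.unusedVariables false
set_option linter.style.haveILetI false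
set_option backward.isDefEq.respectTransparency false
set_option backward.isDefEq.respectTransparency.types false
set_option linter.dupNamespace false
set_option linter.unusedSectionVars false

universe v' w' v w u

open CategoryTheory CategoryTheory.Limits AlgebraicGeometry Opposite TopologicalSpace StMod
open Groth.Agent.CohqA.BaseChangeMod

namespace K908.QHom

open K908.AMod K908.Fam K908.Ext K908.QSec

variable {S : Scheme.{u}} {𝒳 : BasedCategory.{v, w} (Over S)}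

/-- Morphisms of families of modules. -/
structure AHom {𝒞 : BasedCategory.{v, w} (Over S)} (M N : AMod 𝒞) where
  app : ∀ ξ : 𝒞.obj, M.obj ξ →ₗ[Γ(sch 𝒞 ξ, ⊤)] N.obj ξ
  comm : ∀ {ξ' ξ : 𝒞.obj} (φ : ξ' ⟶ ξ) (x : M.obj ξ), app ξ' (M.map φ x) = N.map φ (app ξ x)

variable {C : ASieve 𝒳}

/-- The map on families induced by a morphism. -/
def AHom.fam {M N : AMod C.cat} (t : AHom M N) (ξ : 𝒳.obj) (U : (sch 𝒳 ξ).Opens) :
    BFam M ξ U →ₗ[Γ(sch 𝒳 ξ, U)] BFam N ξ U where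
  toFun s := BFam.mk (fun ζ φ h => t.app ζ (s.v ζ φ h)) (fun ζ' ζ ψ φ h => by
    rw [← t.comm, s.comm])
  map_add' a b := BFam.ext fun ζ φ h => map_add _ _ _
  map_smul' r a := BFam.ext fun ζ φ h => map_smul (t.app ζ) _ _

@[simp] theorem AHom.fam_v {M N : AMod C.cat} (t : AHom M N) (ξ : 𝒳.obj) (U : (sch 𝒳 ξ).Opens)
    (s : BFam M ξ U) (ζ : C.cat.obj) (φ : ζ.obj ⟶ ξ) (h : InOp φ U) :
    (t.fam ξ U s).v ζ φ h = t.app ζ (s.v ζ φ h) := rfl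

/-- The comparison maps and restrictions along arrows. -/
theorem secX_map (F : Mod 𝒳) {ζ ξ' ξ : 𝒳.obj} (χ : ξ' ⟶ ξ) (φ : ζ ⟶ ξ') (U : (sch 𝒳 ξ).Opens)
    (h : InOp φ ((bmap 𝒳 χ) ⁻¹ᵁ U)) (x : Γ(F.obj ξ, U)) :
    secX F φ ((bmap 𝒳 χ) ⁻¹ᵁ U) h ((F.map χ rfl).app U x) =
      secX F (φ ≫ χ) U ((inOp_comp_iff φ χ U).2 h) x := by
  have key : ∀ (g : sch 𝒳 ζ ⟶ sch 𝒳 ξ) (hg : bmap 𝒳 (φ ≫ χ) = g) (h' : ⊤ ≤ g ⁻¹ᵁ U),
      secX F (φ ≫ χ) U ((inOp_comp_iff φ χ U).2 h) x =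
        (F.obj ζ).presheaf.map (homOfLE h').op ((F.map (φ ≫ χ) hg).app U x) := by
    rintro _ rfl h'
    rfl
  rw [key (bmap 𝒳 φ ≫ bmap 𝒳 χ) (bmap_comp φ χ) h, Mod.map_comp_app F φ χ rfl rfl U]
  rfl

section

variable [hX : FibCat.IsFibGrpd 𝒳.p]

/-- The linear maps on sections given by a morphism of families. -/
noncomputable def homLin (hZ : ∀ ξ, ZLoc C ξ) {F G : QCoh 𝒳} (t : AHom (rest F.obj C) (rest G.obj C))
    (ξ : 𝒳.obj) (U : (sch 𝒳 ξ).Opens) : Γ(F.obj.obj ξ, U) →ₗ[Γ(sch 𝒳 ξ, U)] Γ(G.obj.obj ξ, U) :=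
  (famEquiv G (hZ ξ) U).symm.toLinearMap.comp ((t.fam ξ U).comp (famEquiv F (hZ ξ) U).toLinearMap)

theorem secX_homLin (hZ : ∀ ξ, ZLoc C ξ) {F G : QCoh 𝒳} (t : AHom (rest F.obj C) (rest G.obj C))
    (ξ : 𝒳.obj) (U : (sch 𝒳 ξ).Opens) (x : Γ(F.obj.obj ξ, U)) (ζ : C.cat.obj) (φ : ζ.obj ⟶ ξ) (h : InOp φ U) :
    secX G.obj φ U h (homLin hZ t ξ U x) = t.app ζ (secX F.obj φ U h x) :=
  congrArg (fun s : BFam (rest G.obj C) ξ U => s.v ζ φ h)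
    ((famEquiv G (hZ ξ) U).apply_symm_apply (t.fam ξ U (famEquiv F (hZ ξ) U x)))

theorem eq_homLin (hZ : ∀ ξ, ZLoc C ξ) {F G : QCoh 𝒳} (t : AHom (rest F.obj C) (rest G.obj C))
    (ξ : 𝒳.obj) (U : (sch 𝒳 ξ).Opens) (x : Γ(F.obj.obj ξ, U)) (y : Γ(G.obj.obj ξ, U))
    (h : ∀ (ζ : C.cat.obj) (φ : ζ.obj ⟶ ξ) (h : InOp φ U), secX G.obj φ U h y = t.app ζ (secX F.obj φ U h x)) :
    homLin hZ t ξ U x = y := by
  refine QSec.sec_ext G (hZ ξ) _ _ fun c => ?_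
  rw [h, secX_homLin]

/-- A morphism of quasi-coherent modules from its values on the global sections over the objects of `C`. -/
noncomputable def homMk (hZ : ∀ ξ, ZLoc C ξ) {F G : QCoh 𝒳} (t : AHom (rest F.obj C) (rest G.obj C)) :
    F.obj ⟶ G.obj where
  app ξ := MkMod.homMk (fun U => (homLin hZ t ξ U).toAddMonoidHom)
    (fun U r x => (homLin hZ t ξ U).map_smul r x) (fun {U V} h x => by
      change homLin hZ t ξ V _ = _
      refine eq_homLin hZ t ξ V _ _ fun ζ φ hφ => ?_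
      refine (secX_res G.obj φ h hφ _).trans ?_
      rw [secX_res]
      exact secX_homLin hZ t ξ U x ζ φ _)
  comm {ξ' ξ} χ g hg := by
    subst hg
    apply Scheme.Modules.hom_ext
    intro U
    ext x
    change homLin hZ t ξ' ((bmap 𝒳 χ) ⁻¹ᵁ U) ((F.obj.map χ rfl).app U x) =
      (G.obj.map χ rfl).app U (homLin hZ t ξ U x)
    refine eq_homLin hZ t ξ' _ _ _ fun ζ φ hφ => ?_
    rw [secX_map, secX_map, secX_homLin]

theorem homMk_app (hZ : ∀ ξ, ZLoc C ξ) {F G : QCoh 𝒳} (t : AHom (rest F.obj C) (rest G.obj C)) (ζ : C.cat.obj)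
    (x : Γ(F.obj.obj ζ.obj, ⊤)) : ((homMk hZ t).app ζ.obj).app ⊤ x = t.app ζ x := by
  have h1 := secX_homLin hZ t ζ.obj ⊤ x ζ (𝟙 ζ.obj) (inOp_top _)
  rw [secX_top, secX_top, Mod.mapTop_id] at h1
  refine h1.trans ?_
  rw [Mod.mapTop_id]

/-- Morphisms are determined by the global sections over the objects of `C`. -/
theorem hom_ext_of_top (hZ : ∀ ξ, ZLoc C ξ) {F : Mod 𝒳} {G : QCoh 𝒳} {u u' : F ⟶ G.obj}
    (h : ∀ (ζ : C.cat.obj) (x : Γ(F.obj ζ.obj, ⊤)), (u.app ζ.obj).app ⊤ x = (u'.app ζ.obj).app ⊤ x) : u = u' := by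
  apply Mod.hom_ext
  intro ξ
  apply Scheme.Modules.hom_ext
  intro U
  ext x
  refine QSec.sec_ext G (hZ ξ) _ _ fun c => ?_
  rw [secX_hom, secX_hom, h]

/-- The morphism of families on `C` underlying a morphism. -/
noncomputable def restMap {F G : Mod 𝒳} (u : F ⟶ G) (C : ASieve 𝒳) : AHom (rest F C) (rest G C) where
  app ζ := { ((u.app ζ.obj).app ⊤).hom with map_smul' := fun r x => Scheme.Modules.Hom.app_smul (u.app ζ.obj) r x }
  comm φ x := (Mod.mapTop_app u φ.hom x).symm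

end

section Sections

variable [hX : FibCat.IsFibGrpd 𝒳.p] {𝒴 : BasedCategory.{v', w'} (Over S)}

omit hX in
/-- Values of a section of the pushforward on smaller objects. -/
theorem RelSect_map (π : 𝒳 ⥤ᵇ 𝒴) (F : Mod 𝒳) (η : 𝒴.obj) (s : Mod.RelSect π F η) {ξ' ξ : 𝒳.obj} (φ : ξ' ⟶ ξ)
    (α : π.obj ξ ⟶ η) (α' : π.obj ξ' ⟶ η) (h : π.map φ ≫ α = α') : F.mapTop φ (s.1 ξ α) = s.1 ξ' α' := by
  subst h
  exact s.2 φ α

/-- Sections of the pushforward are determined on the objects of `C`. -/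
theorem relSect_ext (hZ : ∀ ξ, ZLoc C ξ) (π : 𝒳 ⥤ᵇ 𝒴) (F : QCoh 𝒳) (η : 𝒴.obj) {s t : Mod.RelSect π F.obj η}
    (h : ∀ (ζ : C.cat.obj) (α : π.obj ζ.obj ⟶ η), s.1 ζ.obj α = t.1 ζ.obj α) : s = t := by
  apply Mod.RelSect.ext
  intro ξ α
  refine QSec.sec_ext F (hZ ξ) _ _ fun c => ?_
  have e : ∀ x, secX F.obj c.1.2 ⊤ c.2.2 x = F.obj.mapTop c.1.2 x := fun x => secX_top F.obj c.1.2 x
  rw [e, e, s.2, t.2]
  exact h c.1.1 _

/-- Sections of the pushforward from families over the objects of `C`. -/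
theorem exists_relSect (hZ : ∀ ξ, ZLoc C ξ) (π : 𝒳 ⥤ᵇ 𝒴) (F : QCoh 𝒳) (η : 𝒴.obj)
    (s : ∀ (ζ : C.cat.obj) (_ : π.obj ζ.obj ⟶ η), Γ(F.obj.obj ζ.obj, ⊤))
    (hs : ∀ ⦃ζ' ζ : C.cat.obj⦄ (φ : ζ' ⟶ ζ) (α : π.obj ζ.obj ⟶ η),
      F.obj.mapTop φ.hom (s ζ α) = s ζ' (π.map φ.hom ≫ α)) :
    ∃ t : Mod.RelSect π F.obj η, ∀ (ζ : C.cat.obj) (α : π.obj ζ.obj ⟶ η), t.1 ζ.obj α = s ζ α := by
  have hs' : ∀ ⦃ζ' ζ : C.cat.obj⦄ (φ : ζ' ⟶ ζ) (α : π.obj ζ.obj ⟶ η) (α' : π.obj ζ'.obj ⟶ η),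
      π.map φ.hom ≫ α = α' → F.obj.mapTop φ.hom (s ζ α) = s ζ' α' := by
    rintro ζ' ζ φ α _ rfl
    exact hs φ α
  have key : ∀ (ξ : 𝒳.obj) (α : π.obj ξ ⟶ η), ∃ x : Γ(F.obj.obj ξ, ⊤), ∀ (ζ : C.cat.obj) (φ : ζ.obj ⟶ ξ),
      F.obj.mapTop φ x = s ζ (π.map φ ≫ α) := by
    intro ξ α
    obtain ⟨x, hx⟩ := (toFam_bijective F (hZ ξ) ⊤).2 (BFam.mk (fun ζ φ _ => s ζ (π.map φ ≫ α))
      (fun ζ' ζ ψ φ h => hs' ψ _ _ (by rw [Functor.map_comp, Category.assoc])))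
    refine ⟨x, fun ζ φ => ?_⟩
    have h1 := congrArg (fun t : BFam (rest F.obj C) ξ ⊤ => t.v ζ φ (inOp_top φ)) hx
    exact (secX_top F.obj φ x).symm.trans h1
  choose x hx using key
  refine ⟨⟨x, ?_⟩, ?_⟩
  · intro ξ' ξ φ α
    refine QSec.sec_ext F (hZ ξ') _ _ fun c => ?_
    have e : ∀ y, secX F.obj c.1.2 ⊤ c.2.2 y = F.obj.mapTop c.1.2 y := fun y => secX_top F.obj c.1.2 y
    rw [e, e, hx, ← Mod.mapTop_comp, hx, Functor.map_comp, Category.assoc]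
  · intro ζ α
    have h1 := hx ζ.obj α ζ (𝟙 _)
    rw [Mod.mapTop_id] at h1
    refine h1.trans ?_
    rw [CategoryTheory.Functor.map_id, Category.id_comp]

/-- Global sections are determined on the objects of `C`. -/
theorem globSect_ext (hZ : ∀ ξ, ZLoc C ξ) (F : QCoh 𝒳) {s t : F.obj.GlobSect}
    (h : ∀ (ζ : C.cat.obj), s.1 ζ.obj = t.1 ζ.obj) : s = t := by
  apply Mod.GlobSect.ext
  intro ξ
  refine QSec.sec_ext F (hZ ξ) _ _ fun c => ?_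
  have e : ∀ x, secX F.obj c.1.2 ⊤ c.2.2 x = F.obj.mapTop c.1.2 x := fun x => secX_top F.obj c.1.2 x
  rw [e, e, s.2, t.2]
  exact h c.1.1

/-- Global sections from families over the objects of `C`. -/
theorem exists_globSect (hZ : ∀ ξ, ZLoc C ξ) (F : QCoh 𝒳)
    (s : ∀ (ζ : C.cat.obj), Γ(F.obj.obj ζ.obj, ⊤))
    (hs : ∀ ⦃ζ' ζ : C.cat.obj⦄ (φ : ζ' ⟶ ζ), F.obj.mapTop φ.hom (s ζ) = s ζ') :
    ∃ t : F.obj.GlobSect, ∀ (ζ : C.cat.obj), t.1 ζ.obj = s ζ := by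
  have key : ∀ (ξ : 𝒳.obj), ∃ x : Γ(F.obj.obj ξ, ⊤), ∀ (ζ : C.cat.obj) (φ : ζ.obj ⟶ ξ),
      F.obj.mapTop φ x = s ζ := by
    intro ξ
    obtain ⟨x, hx⟩ := (toFam_bijective F (hZ ξ) ⊤).2 (BFam.mk (fun ζ φ _ => s ζ)
      (fun ζ' ζ ψ φ h => hs ψ))
    refine ⟨x, fun ζ φ => ?_⟩
    have h1 := congrArg (fun t : BFam (rest F.obj C) ξ ⊤ => t.v ζ φ (inOp_top φ)) hx
    exact (secX_top F.obj φ x).symm.trans h1
  choose x hx using key
  refine ⟨⟨x, ?_⟩, ?_⟩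
  · intro ξ' ξ φ
    refine QSec.sec_ext F (hZ ξ') _ _ fun c => ?_
    have e : ∀ y, secX F.obj c.1.2 ⊤ c.2.2 y = F.obj.mapTop c.1.2 y := fun y => secX_top F.obj c.1.2 y
    rw [e, e, hx, ← Mod.mapTop_comp, hx]
  · intro ζ
    have h1 := hx ζ.obj ζ (𝟙 _)
    rw [Mod.mapTop_id] at h1
    exact h1

end Sections

end K908.QHom
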