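import Groth.Agent.StMod.K908.DescAlg
import Groth.Agent.StMod.K908.QHom
import Groth.Agent.StMod.K907.Sec
import Groth.Agent.StMod.K906.Grpd

/-!
# Faithfully flat descent for families of modules on affine objects

`Dense C`: every affine object has a faithfully flat covering by an object of `C`.
`fglue`: elements of a cartesian family glue along faithfully flat coverings.
`exists_qcoh`: a cartesian family on a dense class of affine objects comes from a quasi-coherent module on `𝒳`.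
`exists_hom`: morphisms on a dense class extend.
-/

set_option autoImplicit false
set_option linter.unusedVariables false
set_option linter.style.haveILetI false
set_option backward.isDefEq.respectTransparency false
set_option backward.isDefEq.respectTransparency.types false
set_option linter.dupNamespace false
set_option linter.unusedSectionVars false

universe v' w' v w u

open CategoryTheory CategoryTheory.Limits AlgebraicGeometry Opposite TopologicalSpace StMod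
open Groth.Agent.CohqA.BaseChangeMod

namespace K908.Desc

open K908.AMod K908.Fam K908.Ext K908.QSec K908.QHom K907.Sec

variable {S : Scheme.{u}} {𝒳 : BasedCategory.{v, w} (Over S)}

/-- Every affine object has a faithfully flat covering by an object of `C`. -/
def Dense (C : ASieve 𝒳) : Prop :=
  ∀ ξ : 𝒳.obj, IsAffine (sch 𝒳 ξ) → ∃ (ζ : C.cat.obj) (c : ζ.obj ⟶ ξ), IsFCov c

theorem dense_all : Dense (ASieve.all 𝒳) := fun ξ h => ⟨⟨ξ, h⟩, 𝟙 ξ, isFCov_id ξ⟩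

section

variable [hX : FibCat.IsFibGrpd 𝒳.p] {C : ASieve 𝒳}

/-- Fibre products with an object of `C`. -/
theorem exists_fp {ζ : C.cat.obj} {ξ' ξ : 𝒳.obj} (hξ : IsAffine (sch 𝒳 ξ)) (hξ' : IsAffine (sch 𝒳 ξ'))
    (φ : ξ' ⟶ ξ) (c : ζ.obj ⟶ ξ) :
    ∃ (ζ' : C.cat.obj) (k : ζ'.obj ⟶ ξ') (l : ζ' ⟶ ζ), IsPullback k l.hom φ c := by
  obtain ⟨w, k, l, h⟩ := K906.Grpd.exists_isPullback hX φ c
  have h1 := K906.Grpd.isPullback_bmap hX h
  have h2 : IsAffine (sch 𝒳 ζ.obj) := C.aff ζ.property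
  have h3 : IsAffine (sch 𝒳 w) := K907.Sec.isAffine_of_isPullback h1
  exact ⟨⟨w, C.down l ζ.property h3⟩, k, ObjectProperty.homMk l, h⟩

theorem fcov_fst {w y z x : 𝒳.obj} {k : w ⟶ y} {l : w ⟶ z} {f : y ⟶ x} {g : z ⟶ x} (h : IsPullback k l f g)
    (hg : IsFCov g) : IsFCov k :=
  IsFCov.of_isPullback (K906.Grpd.isPullback_bmap hX h).flip hg

theorem fcov_snd {w y z x : 𝒳.obj} {k : w ⟶ y} {l : w ⟶ z} {f : y ⟶ x} {g : z ⟶ x} (h : IsPullback k l f g)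
    (hf : IsFCov f) : IsFCov l :=
  IsFCov.of_isPullback (K906.Grpd.isPullback_bmap hX h) hf

omit hX in
theorem ff_of_fcov {ξ' ξ : 𝒳.obj} (hξ : IsAffine (sch 𝒳 ξ)) (hξ' : IsAffine (sch 𝒳 ξ')) {φ : ξ' ⟶ ξ}
    (h : IsFCov φ) : (bmap 𝒳 φ).appTop.hom.FaithfullyFlat := ringMap_faithfullyFlat φ h

theorem isPushout_of_isPullback {w y z x : 𝒳.obj} {k : w ⟶ y} {l : w ⟶ z} {f : y ⟶ x} {g : z ⟶ x}
    (h : IsPullback k l f g) (hx : IsAffine (sch 𝒳 x)) (hy : IsAffine (sch 𝒳 y)) (hz : IsAffine (sch 𝒳 z)) :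
    IsPushout (bmap 𝒳 f).appTop (bmap 𝒳 g).appTop (bmap 𝒳 k).appTop (bmap 𝒳 l).appTop :=
  isPushout_appTop_of_isPullback (K906.Grpd.isPullback_bmap hX h)

variable (N : AMod C.cat) (hN : N.IsCart)

omit hX in
include hN in
/-- Restriction along a covering is injective. -/
theorem map_injective {ζ' ζ : C.cat.obj} (ψ : ζ' ⟶ ζ) (h : IsFCov ψ.hom) : Function.Injective (N.map ψ) :=
  BC.injective_of_faithfullyFlat (φ := (bmap C.cat ψ).appTop.hom)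
    (ff_of_fcov (𝒳 := 𝒳) (C.aff ζ.property) (C.aff ζ'.property) h) (hN ψ)

include hN in
/-- Descent of elements along a covering in `C`. -/
theorem exists_of_eq {ζ₂ ζ' ζ : C.cat.obj} (ψ : ζ' ⟶ ζ) (h : IsFCov ψ.hom) (p q : ζ₂ ⟶ ζ')
    (H : IsPullback p.hom q.hom ψ.hom ψ.hom) (n : N.obj ζ') (hn : N.map p n = N.map q n) :
    ∃ m, N.map ψ m = n := by
  have e : p ≫ ψ = q ≫ ψ := ObjectProperty.hom_ext _ H.w
  have hP : IsPushout (bmap C.cat ψ).appTop (bmap C.cat ψ).appTop (bmap C.cat p).appTop (bmap C.cat q).appTop :=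
    isPushout_of_isPullback (𝒳 := 𝒳) H (C.aff ζ.property) (C.aff ζ'.property) (C.aff ζ'.property)
  have hf : (bmap C.cat ψ).appTop.hom.FaithfullyFlat :=
    ff_of_fcov (𝒳 := 𝒳) (C.aff ζ.property) (C.aff ζ'.property) h
  refine DescAlg.exists_of_eq hP hf (hN ψ) (g1 := N.map p) (g2 := N.map q) (fun b x => N.map_smul p b x)
    (hN q) (fun m => ?_) n hn
  rw [← N.map_comp, ← N.map_comp, e]

/-- A covering sieve of arrows of `C`. -/
structure FCovS (ζ : C.cat.obj) (R : ∀ ⦃ζ' : C.cat.obj⦄, (ζ' ⟶ ζ) → Prop) : Prop where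
  precomp : ∀ ⦃ζ'' ζ' : C.cat.obj⦄ (χ : ζ'' ⟶ ζ') (ψ : ζ' ⟶ ζ), R ψ → R (χ ≫ ψ)
  exists_cov : ∃ (ζ' : C.cat.obj) (ψ : ζ' ⟶ ζ), IsFCov ψ.hom ∧ R ψ

include hN in
/-- Gluing along coverings in `C`. -/
theorem fglue {ζ : C.cat.obj} {R : ∀ ⦃ζ' : C.cat.obj⦄, (ζ' ⟶ ζ) → Prop} (h : FCovS ζ R)
    (s : ∀ (ζ' : C.cat.obj) (ψ : ζ' ⟶ ζ), R ψ → N.obj ζ')
    (hs : ∀ (ζ'' ζ' : C.cat.obj) (χ : ζ'' ⟶ ζ') (ψ : ζ' ⟶ ζ) (hψ : R ψ),
      N.map χ (s ζ' ψ hψ) = s ζ'' (χ ≫ ψ) (h.precomp χ ψ hψ)) :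
    ∃! m : N.obj ζ, ∀ (ζ' : C.cat.obj) (ψ : ζ' ⟶ ζ) (hψ : R ψ), N.map ψ m = s ζ' ψ hψ := by
  obtain ⟨ζ', ψ, hψ, hR⟩ := h.exists_cov
  have hs' : ∀ (ζ'' ζ' : C.cat.obj) (χ : ζ'' ⟶ ζ') (ψ : ζ' ⟶ ζ) (hψ : R ψ) (ρ : ζ'' ⟶ ζ) (e : χ ≫ ψ = ρ)
      (hρ : R ρ), N.map χ (s ζ' ψ hψ) = s ζ'' ρ hρ := by
    rintro ζ'' ζ' χ ψ hψ ρ rfl hρ
    exact hs _ _ _ _ _
  have hA := C.aff ζ.property
  obtain ⟨ζ₂, p, q, H⟩ := exists_fp (C := C) hA (C.aff ζ'.property) ψ.hom ψ.hom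
  let p' : ζ₂ ⟶ ζ' := ObjectProperty.homMk p
  have e : p' ≫ ψ = q ≫ ψ := ObjectProperty.hom_ext _ H.w
  obtain ⟨m, hm⟩ := exists_of_eq N hN ψ hψ p' q H (s ζ' ψ hR) (by
    rw [hs' _ _ p' ψ hR (q ≫ ψ) e (h.precomp _ _ hR), hs])
  refine ⟨m, fun η χ hχ => ?_, fun m' hm' => ?_⟩
  · obtain ⟨η', k, l, H'⟩ := exists_fp (C := C) hA (C.aff η.property) χ.hom ψ.hom
    let k' : η' ⟶ η := ObjectProperty.homMk k
    have e' : k' ≫ χ = l ≫ ψ := ObjectProperty.hom_ext _ H'.w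
    apply map_injective N hN k' (fcov_fst H' hψ)
    rw [← N.map_comp, e', N.map_comp, hm, hs, hs' _ _ k' χ hχ (l ≫ ψ) e' (h.precomp _ _ hR)]
  · apply map_injective N hN ψ hψ
    rw [hm, hm' _ _ hR]

/-! ### Families over an affine object -/

variable {N}

/-- Value of a family at an arrow from `C`. -/
def evC {ζ : C.cat.obj} {ξ : 𝒳.obj} (c : ζ.obj ⟶ ξ) : BFam N ξ ⊤ →+ N.obj ζ where
  toFun s := s.v ζ c (inOp_top c)
  map_zero' := rfl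
  map_add' _ _ := rfl

omit hX in
theorem evC_apply {ζ : C.cat.obj} {ξ : 𝒳.obj} (c : ζ.obj ⟶ ξ) (s : BFam N ξ ⊤) :
    evC c s = s.v ζ c (inOp_top c) := rfl

omit hX in
theorem appLE_top {Y Z : Scheme.{u}} (g : Y ⟶ Z) (h : ⊤ ≤ g ⁻¹ᵁ ⊤) (r : Γ(Z, ⊤)) :
    g.appLE ⊤ ⊤ h r = g.appTop r := by
  rw [Scheme.Hom.appLE, Scheme.Hom.appTop]
  simp

omit hX in
theorem evC_smul {ζ : C.cat.obj} {ξ : 𝒳.obj} (c : ζ.obj ⟶ ξ) (r : Γ(sch 𝒳 ξ, ⊤)) (s : BFam N ξ ⊤) :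
    evC c (r • s) = (show Γ(sch C.cat ζ, ⊤) from (bmap 𝒳 c).appTop.hom r) • evC c s := by
  rw [evC_apply, BFam.smul_val]
  exact congrArg (fun (r' : Γ(sch C.cat ζ, ⊤)) => r' • s.v ζ c (inOp_top c)) (appLE_top _ _ r)

include hN in
theorem evC_injective {ζ : C.cat.obj} {ξ : 𝒳.obj} (hξ : IsAffine (sch 𝒳 ξ)) (c : ζ.obj ⟶ ξ) (hc : IsFCov c) :
    Function.Injective (evC (N := N) c) := by
  intro s t hst
  ext η φ h
  obtain ⟨η', k, l, H⟩ := exists_fp (C := C) hξ (C.aff η.property) φ c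
  let k' : η' ⟶ η := ObjectProperty.homMk k
  apply map_injective N hN k' (fcov_fst H hc)
  rw [s.map_eq k' φ h (l.hom ≫ c) (inOp_top _) H.w, t.map_eq k' φ h (l.hom ≫ c) (inOp_top _) H.w,
    ← s.comm l c (inOp_top _), ← t.comm l c (inOp_top _)]
  exact congrArg (N.map l) hst

include hN in
theorem exists_evC {ζ ζ₂ : C.cat.obj} {ξ : 𝒳.obj} (hξ : IsAffine (sch 𝒳 ξ)) (c : ζ.obj ⟶ ξ) (hc : IsFCov c)
    (p q : ζ₂ ⟶ ζ) (H : IsPullback p.hom q.hom c c) (n : N.obj ζ) (hn : N.map p n = N.map q n) :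
    ∃ s, evC (N := N) c s = n := by
  -- independence of the lift
  have ind : ∀ (η : C.cat.obj) (a b : η ⟶ ζ), a.hom ≫ c = b.hom ≫ c → N.map a n = N.map b n := by
    intro η a b hab
    let t : η ⟶ ζ₂ := ObjectProperty.homMk (H.lift a.hom b.hom hab)
    have e1 : t ≫ p = a := ObjectProperty.hom_ext _ (H.lift_fst _ _ _)
    have e2 : t ≫ q = b := ObjectProperty.hom_ext _ (H.lift_snd _ _ _)
    rw [← e1, ← e2, N.map_comp, N.map_comp, hn]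
  have key : ∀ (η : C.cat.obj) (φ : η.obj ⟶ ξ), ∃! m : N.obj η, ∀ (η' : C.cat.obj) (ψ : η' ⟶ η)
      (a : η' ⟶ ζ), a.hom ≫ c = ψ.hom ≫ φ → N.map ψ m = N.map a n := by
    intro η φ
    obtain ⟨η₁, k, l, H1⟩ := exists_fp (C := C) hξ (C.aff η.property) φ c
    have hR : FCovS η (fun η' ψ => ∃ a : η' ⟶ ζ, a.hom ≫ c = ψ.hom ≫ φ) := by
      constructor
      · rintro η'' η' χ ψ ⟨a, ha⟩
        refine ⟨χ ≫ a, ?_⟩
        change (χ.hom ≫ a.hom) ≫ c = (χ.hom ≫ ψ.hom) ≫ φ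
        rw [Category.assoc, ha, Category.assoc]
      · exact ⟨η₁, ObjectProperty.homMk k, fcov_fst H1 hc, l, H1.w.symm⟩
    obtain ⟨m, hm, hu⟩ := fglue N hN hR (fun η' ψ hψ => N.map hψ.choose n) (by
      intro η'' η' χ ψ hψ
      rw [← N.map_comp]
      refine ind _ _ _ ?_
      rw [(hR.precomp χ ψ hψ).choose_spec]
      change (χ.hom ≫ hψ.choose.hom) ≫ c = (χ.hom ≫ ψ.hom) ≫ φ
      rw [Category.assoc, hψ.choose_spec, Category.assoc])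
    refine ⟨m, ?_, ?_⟩
    · intro η' ψ a ha
      have h1 := hm η' ψ ⟨a, ha⟩
      refine h1.trans (ind _ _ _ ?_)
      rw [ha]
      exact (⟨a, ha⟩ : ∃ a : η' ⟶ ζ, a.hom ≫ c = ψ.hom ≫ φ).choose_spec
    · intro m' hm'
      refine hu m' fun η' ψ hψ => ?_
      exact hm' η' ψ _ hψ.choose_spec
  choose m hm hu using key
  refine ⟨BFam.mk (fun η φ _ => m η φ) ?_, ?_⟩
  · intro η' η ψ φ h
    refine hu η' (ψ.hom ≫ φ) _ fun η'' χ a ha => ?_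
    rw [← N.map_comp]
    refine hm η φ η'' (χ ≫ ψ) a ?_
    rw [ha]
    exact (Category.assoc _ _ _).symm
  · change m ζ c = n
    refine (hu ζ c n fun η' ψ a ha => ind _ _ _ ha.symm).symm

include hN in
theorem small_bfam_of_fcov {ζ : C.cat.obj} {ξ : 𝒳.obj} (hξ : IsAffine (sch 𝒳 ξ)) (c : ζ.obj ⟶ ξ)
    (hc : IsFCov c) : Small.{u} (BFam N ξ ⊤) :=
  small_of_injective (evC_injective hN hξ c hc)

/-- The identification of the small model with families. -/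
noncomputable def shr (N : AMod C.cat) (ξ : 𝒳.obj) [Small.{u} (BFam N ξ ⊤)] :
    Shrink.{u} (BFam N ξ ⊤) ≃ₗ[Γ(sch 𝒳 ξ, ⊤)] BFam N ξ ⊤ :=
  Shrink.linearEquiv.{u} Γ(sch 𝒳 ξ, ⊤) (BFam N ξ ⊤)

/-- Evaluation on the small model. -/
noncomputable def evS {ζ : C.cat.obj} {ξ : 𝒳.obj} [Small.{u} (BFam N ξ ⊤)] (c : ζ.obj ⟶ ξ) :
    Shrink.{u} (BFam N ξ ⊤) →+ N.obj ζ :=
  (evC c).comp (shr N ξ).toAddEquiv.toAddMonoidHom

omit hX in
theorem evS_apply {ζ : C.cat.obj} {ξ : 𝒳.obj} [Small.{u} (BFam N ξ ⊤)] (c : ζ.obj ⟶ ξ)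
    (s : Shrink.{u} (BFam N ξ ⊤)) : evS c s = (shr N ξ s).v ζ c (inOp_top c) := rfl

include hN in
/-- Evaluation of families at a covering is a base change. -/
theorem isBC_evS {ζ : C.cat.obj} {ξ : 𝒳.obj} [Small.{u} (BFam N ξ ⊤)] (hξ : IsAffine (sch 𝒳 ξ)) (c : ζ.obj ⟶ ξ)
    (hc : IsFCov c) :
    IsBC (A := Γ(sch 𝒳 ξ, ⊤)) (B := Γ(sch C.cat ζ, ⊤)) (bmap 𝒳 c).appTop.hom (evS (N := N) c) := by
  have hζ : IsAffine (sch 𝒳 ζ.obj) := C.aff ζ.property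
  obtain ⟨ζ₂, p0, q, H⟩ := exists_fp (C := C) hξ hζ c c
  let p : ζ₂ ⟶ ζ := ObjectProperty.homMk p0
  have hζ₂ : IsAffine (sch 𝒳 ζ₂.obj) := C.aff ζ₂.property
  obtain ⟨ζ₃, r0, s, H3⟩ := exists_fp (C := C) hξ hζ c (p.hom ≫ c)
  let r : ζ₃ ⟶ ζ := ObjectProperty.homMk r0
  let k12 : ζ₃ ⟶ ζ₂ := ObjectProperty.homMk (H.lift r.hom (s.hom ≫ p.hom) (by
    rw [Category.assoc]; exact H3.w))
  let k13 : ζ₃ ⟶ ζ₂ := ObjectProperty.homMk (H.lift r.hom (s.hom ≫ q.hom) (by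
    rw [Category.assoc, ← H.w]; exact H3.w))
  let δ : ζ ⟶ ζ₂ := ObjectProperty.homMk (H.lift (𝟙 _) (𝟙 _) rfl)
  have a1 : k12 ≫ p = r := ObjectProperty.hom_ext _ (H.lift_fst _ _ _)
  have a2 : k12 ≫ q = s ≫ p := ObjectProperty.hom_ext _ (H.lift_snd _ _ _)
  have a3 : k13 ≫ p = r := ObjectProperty.hom_ext _ (H.lift_fst _ _ _)
  have a4 : k13 ≫ q = s ≫ q := ObjectProperty.hom_ext _ (H.lift_snd _ _ _)
  have a5 : δ ≫ p = 𝟙 ζ := ObjectProperty.hom_ext _ (H.lift_fst _ _ _)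
  have a6 : δ ≫ q = 𝟙 ζ := ObjectProperty.hom_ext _ (H.lift_snd _ _ _)
  have top : ∀ {a b d : C.cat.obj} (f : a ⟶ b) (g : b ⟶ d),
      (bmap C.cat g).appTop ≫ (bmap C.cat f).appTop = (bmap C.cat (f ≫ g)).appTop := by
    intro a b d f g
    rw [bmap_comp, Scheme.Hom.comp_appTop]
  have hP2 : IsPushout (bmap 𝒳 c).appTop (bmap 𝒳 c).appTop (bmap 𝒳 p.hom).appTop (bmap 𝒳 q.hom).appTop :=
    isPushout_of_isPullback H hξ hζ hζ
  have hP3 : IsPushout (bmap 𝒳 c).appTop (bmap 𝒳 (p.hom ≫ c)).appTop (bmap 𝒳 r.hom).appTop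
    (bmap 𝒳 s.hom).appTop := isPushout_of_isPullback H3 hξ hζ hζ₂
  have hP3' : IsPushout (bmap 𝒳 c).appTop ((bmap 𝒳 c).appTop ≫ (bmap 𝒳 p.hom).appTop)
      ((bmap C.cat p).appTop ≫ (bmap C.cat k12).appTop) (bmap 𝒳 s.hom).appTop := by
    rw [top, a1]
    have : (bmap 𝒳 c).appTop ≫ (bmap 𝒳 p.hom).appTop = (bmap 𝒳 (p.hom ≫ c)).appTop := by
      rw [bmap_comp, Scheme.Hom.comp_appTop]
    rw [this]
    exact hP3
  have mc : ∀ {a b d : C.cat.obj} (f : a ⟶ b) (g : b ⟶ d) (x : N.obj d), N.map f (N.map g x) = N.map (f ≫ g) x :=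
    fun f g x => (N.map_comp f g x).symm
  obtain ⟨N', _, _, f, hf, hfi, hfr⟩ := DescAlg.exists_eff (A := Γ(sch 𝒳 ξ, ⊤)) (B := Γ(sch C.cat ζ, ⊤))
    (B₂ := Γ(sch C.cat ζ₂, ⊤)) (B₃ := Γ(sch C.cat ζ₃, ⊤)) hP2 (ff_of_fcov hξ hζ hc)
    (k12 := (bmap C.cat k12).appTop) (k13 := (bmap C.cat k13).appTop) (k23 := (bmap C.cat s).appTop)
    (δ := (bmap C.cat δ).appTop) hP3'
    ((top k12 p).trans ((congrArg (fun t => (bmap C.cat t).appTop) (a1.trans a3.symm)).trans (top k13 p).symm))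
    ((top k12 q).trans ((congrArg (fun t => (bmap C.cat t).appTop) a2).trans (top s p).symm))
    ((top k13 q).trans ((congrArg (fun t => (bmap C.cat t).appTop) a4).trans (top s q).symm))
    ((top δ p).trans ((congrArg (fun t => (bmap C.cat t).appTop) a5).trans (by
      rw [bmap_id, Scheme.Hom.id_appTop])))
    (g1 := N.map p) (g2 := N.map q) (fun b n => N.map_smul p b n) (hN q)
    (h12 := N.map k12) (h13 := N.map k13) (h23 := N.map s) (fun b n => N.map_smul _ b n)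
    (fun b n => N.map_smul _ b n) (hN s) (t := N.map δ) (fun b n => N.map_smul _ b n)
    (fun n => by rw [mc, a5, N.map_id]) (fun n => by rw [mc, a6, N.map_id])
    (fun n => by rw [mc, mc, a1, a3]) (fun n => by rw [mc, mc, a2]) (fun n => by rw [mc, mc, a4])
  refine DescAlg.isBC_of_range_eq hf hfi ((evC_injective hN hξ c hc).comp (shr N ξ).injective) (fun a m => ?_)
    fun n => ?_
  · change evC c (shr N ξ (a • m)) = _
    rw [map_smul]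
    exact evC_smul c a (shr N ξ m)
  rw [hfr]
  constructor
  · intro hn
    obtain ⟨t, ht⟩ := exists_evC hN hξ c hc p q H n hn
    refine ⟨(shr N ξ).symm t, ?_⟩
    rw [evS_apply, LinearEquiv.apply_symm_apply]
    exact ht
  · rintro ⟨t, rfl⟩
    rw [evS_apply, BFam.comm, BFam.comm]
    exact BFam.congr _ H.w _

/-! ### Effectivity -/

variable (N) in
/-- The extension of a cartesian family to all affine objects. -/
noncomputable def extAll [hs : ∀ ξ : (ASieve.all 𝒳).cat.obj, Small.{u} (BFam N ξ.obj ⊤)] :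
    AMod (ASieve.all 𝒳).cat where
  obj ξ := Shrink.{u} (BFam N ξ.obj ⊤)
  mod ξ := inferInstanceAs (Module Γ(sch 𝒳 ξ.obj, ⊤) (Shrink.{u} (BFam N ξ.obj ⊤)))
  map {ξ' ξ} χ := ((shr N ξ'.obj).symm.toAddEquiv.toAddMonoidHom.comp (BFam.pull χ.hom ⊤ ⊤ le_top)).comp
    (shr N ξ.obj).toAddEquiv.toAddMonoidHom
  map_smul {ξ' ξ} χ r x := by
    change (shr N ξ'.obj).symm (BFam.pull χ.hom ⊤ ⊤ le_top (shr N ξ.obj ((show Γ(sch 𝒳 ξ.obj, ⊤) from r) • x))) =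
      (show Γ(sch 𝒳 ξ'.obj, ⊤) from (bmap 𝒳 χ.hom).appTop (show Γ(sch 𝒳 ξ.obj, ⊤) from r)) •
        (shr N ξ'.obj).symm (BFam.pull χ.hom ⊤ ⊤ le_top (shr N ξ.obj x))
    rw [map_smul, BFam.pull_smul, appLE_top, map_smul]
  map_id ξ x := by
    change (shr N ξ.obj).symm (BFam.pull (𝟙 ξ.obj) ⊤ ⊤ le_top (shr N ξ.obj x)) = x
    rw [LinearEquiv.symm_apply_eq]
    refine BFam.ext fun ζ φ h => ?_
    rw [BFam.pull_val]
    exact BFam.congr _ (Category.comp_id _) _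
  map_comp {ξ'' ξ' ξ} ψ φ x := by
    change (shr N ξ''.obj).symm (BFam.pull (ψ.hom ≫ φ.hom) ⊤ ⊤ le_top (shr N ξ.obj x)) =
      (shr N ξ''.obj).symm (BFam.pull ψ.hom ⊤ ⊤ le_top (shr N ξ'.obj ((shr N ξ'.obj).symm
        (BFam.pull φ.hom ⊤ ⊤ le_top (shr N ξ.obj x)))))
    rw [LinearEquiv.apply_symm_apply]
    congr 1
    refine BFam.ext fun ζ φ h => ?_
    rw [BFam.pull_val, BFam.pull_val, BFam.pull_val]
    exact BFam.congr _ (Category.assoc _ _ _).symm _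

variable (N) in
theorem shr_extAll_map [hs : ∀ ξ : (ASieve.all 𝒳).cat.obj, Small.{u} (BFam N ξ.obj ⊤)]
    {ξ' ξ : (ASieve.all 𝒳).cat.obj} (χ : ξ' ⟶ ξ) (x : Shrink.{u} (BFam N ξ.obj ⊤)) (ζ : C.cat.obj)
    (φ : ζ.obj ⟶ ξ'.obj) :
    (shr N ξ'.obj ((extAll N).map χ x)).v ζ φ (inOp_top _) = (shr N ξ.obj x).v ζ (φ ≫ χ.hom) (inOp_top _) := by
  change ((shr N ξ'.obj) ((shr N ξ'.obj).symm (BFam.pull χ.hom ⊤ ⊤ le_top (shr N ξ.obj x)))).v ζ φ _ = _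
  rw [LinearEquiv.apply_symm_apply]
  rfl

include hN in
theorem extAll_isCart (hC : Dense C) [hs : ∀ ξ : (ASieve.all 𝒳).cat.obj, Small.{u} (BFam N ξ.obj ⊤)] :
    (extAll N).IsCart := by
  intro ξ' ξ χ
  have hξ : IsAffine (sch 𝒳 ξ.obj) := ξ.property
  have hξ' : IsAffine (sch 𝒳 ξ'.obj) := ξ'.property
  obtain ⟨ζ, c, hc⟩ := hC ξ.obj hξ
  obtain ⟨ζ', k, l, H⟩ := exists_fp (C := C) hξ hξ' χ.hom c
  have h1 := isBC_evS hN hξ c hc
  have h2 := isBC_evS hN hξ' k (fcov_fst H hc)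
  have h3 := h1.comp (hN l)
  have hζ' : IsAffine (sch 𝒳 ζ'.obj) := C.aff ζ'.property
  refine DescAlg.isBC_of_comp (A := Γ(sch 𝒳 ξ.obj, ⊤)) (A' := Γ(sch 𝒳 ξ'.obj, ⊤)) (B := Γ(sch C.cat ζ', ⊤))
    (M := Shrink.{u} (BFam N ξ.obj ⊤)) (M' := Shrink.{u} (BFam N ξ'.obj ⊤)) (N := N.obj ζ')
    (φ := (bmap 𝒳 χ.hom).appTop.hom)
    (ψ := (bmap 𝒳 k).appTop.hom) (ff_of_fcov hξ' hζ' (fcov_fst H hc)) (fun a m => (extAll N).map_smul χ a m) h2 ?_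
  have e1 : ((bmap 𝒳 k).appTop.hom.comp (bmap 𝒳 χ.hom).appTop.hom : Γ(sch 𝒳 ξ.obj, ⊤) →+* Γ(sch C.cat ζ', ⊤)) =
      (bmap C.cat l).appTop.hom.comp (bmap 𝒳 c).appTop.hom := by
    have h4 : (bmap 𝒳 (k ≫ χ.hom)).appTop = (bmap 𝒳 (l.hom ≫ c)).appTop := by rw [H.w]
    rw [bmap_comp, bmap_comp, Scheme.Hom.comp_appTop, Scheme.Hom.comp_appTop] at h4
    exact congrArg (fun f => f.hom) h4
  have e2 : (evS (N := N) k).comp ((extAll N).map χ) = (N.map l).comp (evS (N := N) c) := by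
    ext x
    change (shr N ξ'.obj ((extAll N).map χ x)).v ζ' k (inOp_top _) = N.map l ((shr N ξ.obj x).v ζ c (inOp_top _))
    rw [shr_extAll_map, BFam.comm]
    exact BFam.congr _ H.w _
  exact (congrArg₂ (fun a b => IsBC (A := Γ(sch 𝒳 ξ.obj, ⊤)) (B := Γ(sch C.cat ζ', ⊤))
    (M := Shrink.{u} (BFam N ξ.obj ⊤)) (N := N.obj ζ') a b) e1 e2).mpr h3

/-- EFFECTIVITY: a cartesian family of modules on a dense class of affine objects is the restriction of a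
quasi-coherent module on `𝒳`. -/
theorem exists_qcoh (hC : Dense C) (N : AMod C.cat) (hN : N.IsCart) :
    ∃ (F : QCoh 𝒳) (t : AHom (rest F.obj C) N), ∀ ζ, Function.Bijective (t.app ζ) := by
  haveI hs : ∀ ξ : (ASieve.all 𝒳).cat.obj, Small.{u} (BFam N ξ.obj ⊤) := fun ξ => by
    obtain ⟨ζ, c, hc⟩ := hC ξ.obj ξ.property
    exact small_bfam_of_fcov hN ξ.property c hc
  haveI hs2 : ∀ ζ : C.cat.obj, Small.{u} (BFam N ζ.obj ⊤) := fun ζ => hs ⟨ζ.obj, C.aff ζ.property⟩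
  have hN' : (extAll N).IsCart := extAll_isCart hN hC
  haveI hs' : ∀ (ξ : 𝒳.obj) (U : (sch 𝒳 ξ).Opens), Small.{u} (BFam (extAll N) ξ U) := fun ξ U =>
    small_bfam (extAll N) hN' (zloc_all ξ) U
  let up : C.cat.obj → (ASieve.all 𝒳).cat.obj := fun ζ => ⟨ζ.obj, C.aff ζ.property⟩
  let ev : ∀ ζ : C.cat.obj, Γ((ext (extAll N) hN' zloc_all).obj.obj ζ.obj, ⊤) →+ N.obj ζ := fun ζ =>
    (evS (N := N) (𝟙 ζ.obj)).comp (extEv (extAll N) hN' zloc_all (up ζ))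
  refine ⟨ext (extAll N) hN' zloc_all,
    { app := fun ζ => { ev ζ with map_smul' := fun r x => ?_ }, comm := ?_ }, ?_⟩
  · change evS (N := N) (𝟙 ζ.obj) (extEv (extAll N) hN' zloc_all (up ζ) (r • x)) =
      r • evS (N := N) (𝟙 ζ.obj) (extEv (extAll N) hN' zloc_all (up ζ) x)
    have h1 := extEv_smul (extAll N) hN' zloc_all (up ζ) (show Γ(sch 𝒳 ζ.obj, ⊤) from r) x
    refine (congrArg (evS (N := N) (𝟙 ζ.obj)) h1).trans ?_
    change evC (𝟙 ζ.obj) (shr N ζ.obj ((show Γ(sch 𝒳 ζ.obj, ⊤) from r) •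
      (show Shrink.{u} (BFam N ζ.obj ⊤) from extEv (extAll N) hN' zloc_all (up ζ) x))) = _
    rw [map_smul, evC_smul]
    have h2 : (bmap 𝒳 (𝟙 ζ.obj)).appTop.hom (show Γ(sch 𝒳 ζ.obj, ⊤) from r) = r := by
      rw [bmap_id, Scheme.Hom.id_appTop]
      rfl
    rw [h2]
    rfl
  · intro ζ' ζ φ x
    let φ' : up ζ' ⟶ up ζ := ObjectProperty.homMk φ.hom
    change evS (N := N) (𝟙 ζ'.obj) (extEv (extAll N) hN' zloc_all (up ζ')
        ((ext (extAll N) hN' zloc_all).obj.mapTop φ'.hom x)) =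
      N.map φ (evS (N := N) (𝟙 ζ.obj) (extEv (extAll N) hN' zloc_all (up ζ) x))
    rw [extEv_mapTop]
    refine (shr_extAll_map N φ' (extEv (extAll N) hN' zloc_all (up ζ) x) ζ' (𝟙 ζ'.obj)).trans ?_
    refine Eq.trans ?_ (BFam.comm (shr N ζ.obj (extEv (extAll N) hN' zloc_all (up ζ) x)) φ (𝟙 ζ.obj)
      (inOp_top _)).symm
    refine BFam.congr _ ?_ _
    change 𝟙 ζ'.obj ≫ φ.hom = φ.hom ≫ 𝟙 ζ.obj
    rw [Category.id_comp, Category.comp_id]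
  · intro ζ
    have h1 : Function.Bijective (evS (N := N) (𝟙 ζ.obj)) :=
      (BFam.ev_bijective (N := N) (ξ := ζ)).comp (shr N ζ.obj).bijective
    exact h1.comp (extEv_bijective (extAll N) hN' zloc_all (up ζ))

end

end K908.Desc
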