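import Groth.Agent.AlgSt.K734.Yon2
import Groth.Agent.AlgSt.K734.FibFp
import Groth.Prelude.Def_AlgSp3
import Groth.Prelude.Def_AlgSt2
import Groth.Prelude.Def_StMod

/-!
# Universal arrows and affine functors

`IsTerm p α` for `α : p w ⟶ ξ`: every arrow `p θ ⟶ ξ` factors uniquely through `α`.
`exists_isTerm`: if `p` is representable by algebraic spaces and affine then over every object over an affine scheme
there is a universal arrow from an object over an affine scheme.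
-/

set_option autoImplicit false
set_option linter.unusedVariables false
set_option linter.style.haveILetI false
set_option backward.isDefEq.respectTransparency false
set_option backward.isDefEq.respectTransparency.types false
set_option linter.dupNamespace false
set_option linter.unusedSectionVars false

universe v' w' v w u

open CategoryTheory CategoryTheory.Limits AlgebraicGeometry Opposite TopologicalSpace StMod
open K734.Fib

namespace K908.Aff

variable {S : Scheme.{u}} {𝒳 : BasedCategory.{v, w} (Over S)} {𝒴 : BasedCategory.{v', w'} (Over S)}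

/-- `α : p w ⟶ ξ` is a universal arrow from `p` to `ξ`. -/
def IsTerm (p : 𝒴 ⥤ᵇ 𝒳) {ξ : 𝒳.obj} {w : 𝒴.obj} (α : p.obj w ⟶ ξ) : Prop :=
  ∀ (θ : 𝒴.obj) (β : p.obj θ ⟶ ξ), ∃! χ : θ ⟶ w, p.map χ ≫ α = β

/-- Over every object over an affine scheme there is a universal arrow from an object over an affine scheme. -/
def IsAff (p : 𝒴 ⥤ᵇ 𝒳) : Prop :=
  ∀ ξ : 𝒳.obj, IsAffine (sch 𝒳 ξ) → ∃ (w : 𝒴.obj) (α : p.obj w ⟶ ξ), IsAffine (sch 𝒴 w) ∧ IsTerm p α

section Comma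

variable (h𝒳 : FibCat.IsFibGrpd 𝒳.p) (p : 𝒴 ⥤ᵇ 𝒳) {ξ : 𝒳.obj} (y : FibCat.overCat (𝒳.p.obj ξ) ⥤ᵇ 𝒳)
  (ε : y.obj (one (𝒳.p.obj ξ)) ≅ ξ) (hε : IsVert 𝒳 ε.hom)

/-- The arrow from the values of `y` to `ξ`. -/
def arr (g : (FibCat.overCat (𝒳.p.obj ξ)).obj) : y.obj g ⟶ ξ := y.map (toOne g) ≫ ε.hom

theorem map_arr {g g' : (FibCat.overCat (𝒳.p.obj ξ)).obj} (f : g ⟶ g') : y.map f ≫ arr y ε g' = arr y ε g := by
  unfold arr
  rw [← Category.assoc, ← Functor.map_comp, toOne_comp]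

include hε in
theorem isHomLift_arr (g : (FibCat.overCat (𝒳.p.obj ξ)).obj) : 𝒳.p.IsHomLift g.hom (arr y ε g) := by
  have h1 : 𝒳.p.map (arr y ε g) = eqToHom (y.w_obj g) ≫ g.hom := by
    unfold arr
    rw [Functor.map_comp, map_eq_base, hε.map_eq]
    have : (toOne g).left = g.hom := rfl
    change (eqToHom _ ≫ (toOne g).left ≫ eqToHom _) ≫ eqToHom _ = _
    rw [this]
    simp
  refine IsHomLift.of_fac' 𝒳.p _ _ (y.w_obj g) rfl ?_
  rw [h1]
  simp

/-- The arrow attached to an object of the 2-fibre product. -/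
def arrX (X : (FibCat.fp y p).obj) : p.obj X.obj.snd ⟶ ξ := X.obj.iso.inv ≫ arr y ε X.obj.fst

theorem arrX_of_hom {X X' : (FibCat.fp y p).obj} (f : X ⟶ X') :
    p.map f.hom.snd ≫ arrX p y ε X' = arrX p y ε X := by
  have h1 := homFp_w f
  unfold arrX
  rw [← map_arr y ε f.hom.fst, ← Category.assoc, ← Category.assoc]
  congr 1
  rw [Iso.eq_inv_comp, ← Category.assoc, ← h1]
  simp

include h𝒳 hε in
theorem exists_hom_of_arrX {X X' : (FibCat.fp y p).obj} (χ : X.obj.snd ⟶ X'.obj.snd)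
    (h : p.map χ ≫ arrX p y ε X' = arrX p y ε X) : ∃ f : X ⟶ X', f.hom.snd = χ := by
  let m : y.obj X.obj.fst ⟶ y.obj X'.obj.fst := X.obj.iso.hom ≫ p.map χ ≫ X'.obj.iso.inv
  have hm : m ≫ arr y ε X'.obj.fst = arr y ε X.obj.fst := by
    change (X.obj.iso.hom ≫ p.map χ ≫ X'.obj.iso.inv) ≫ arr y ε X'.obj.fst = _
    rw [Category.assoc, Category.assoc]
    change X.obj.iso.hom ≫ p.map χ ≫ arrX p y ε X' = _
    rw [h]
    change X.obj.iso.hom ≫ X.obj.iso.inv ≫ arr y ε X.obj.fst = _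
    rw [Iso.hom_inv_id_assoc]
  have l1 := isHomLift_arr y ε hε X.obj.fst
  have l2 := isHomLift_arr y ε hε X'.obj.fst
  have e1 : 𝒳.p.map (arr y ε X.obj.fst) = eqToHom (y.w_obj X.obj.fst) ≫ X.obj.fst.hom := by
    rw [IsHomLift.fac' 𝒳.p X.obj.fst.hom (arr y ε X.obj.fst)]
    simp
  have e2 : 𝒳.p.map (arr y ε X'.obj.fst) = eqToHom (y.w_obj X'.obj.fst) ≫ X'.obj.fst.hom := by
    rw [IsHomLift.fac' 𝒳.p X'.obj.fst.hom (arr y ε X'.obj.fst)]
    simp
  let b : X.obj.fst ⟶ X'.obj.fst := Over.homMk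
    (eqToHom (y.w_obj X.obj.fst).symm ≫ 𝒳.p.map m ≫ eqToHom (y.w_obj X'.obj.fst)) (by
      have h2 : 𝒳.p.map m ≫ 𝒳.p.map (arr y ε X'.obj.fst) = 𝒳.p.map (arr y ε X.obj.fst) := by
        rw [← Functor.map_comp, hm]
      rw [e1, e2] at h2
      change (eqToHom _ ≫ 𝒳.p.map m ≫ eqToHom _) ≫ X'.obj.fst.hom = X.obj.fst.hom
      rw [Category.assoc, Category.assoc]
      refine (congrArg (fun k => eqToHom (y.w_obj X.obj.fst).symm ≫ k) h2).trans ?_
      simp)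
  have hb : y.map b = m := by
    refine fac_unique h𝒳 (arr y ε X'.obj.fst) ?_ ?_
    · rw [map_eq_base]
      change eqToHom _ ≫ (eqToHom _ ≫ 𝒳.p.map m ≫ eqToHom _) ≫ eqToHom _ = _
      simp
    · rw [map_arr, hm]
  refine ⟨mkHomFp b χ ?_, rfl⟩
  rw [hb]
  change (X.obj.iso.hom ≫ p.map χ ≫ X'.obj.iso.inv) ≫ X'.obj.iso.hom = _
  simp

theorem hom_eq_of_snd {X X' : (FibCat.fp y p).obj} {f f' : X ⟶ X'} (h : f.hom.snd = f'.hom.snd) : f = f' := by
  refine homFp_ext ?_ h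
  have h1 := homFp_w f
  have h2 := homFp_w f'
  rw [h] at h1
  have h3 : y.map f.hom.fst = y.map f'.hom.fst := (cancel_mono X'.obj.iso.hom).1 (h1.trans h2.symm)
  have h4 := congrArg (fun k => 𝒳.p.map k) h3
  rw [map_eq_base, map_eq_base, cancel_epi, cancel_mono] at h4
  exact Over.OverMorphism.ext h4

include h𝒳 hε in
theorem exists_obj_of_arr (θ : 𝒴.obj) (β : p.obj θ ⟶ ξ) :
    ∃ (e : y.obj (Over.mk (𝒳.p.map β)) ≅ p.obj θ) (he : IsVert 𝒳 e.hom),
      arrX p y ε (mkObj (Over.mk (𝒳.p.map β)) θ e he) = β := by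
  have l1 : 𝒳.p.IsHomLift (𝒳.p.map β) (arr y ε (Over.mk (𝒳.p.map β))) :=
    isHomLift_arr y ε hε (Over.mk (𝒳.p.map β))
  have l2 : 𝒳.p.IsHomLift (𝒳.p.map β) β := inferInstance
  obtain ⟨e, he, he'⟩ := exists_iso_of_lift h𝒳 l1 l2
  refine ⟨e, he, ?_⟩
  change e.inv ≫ arr y ε _ = β
  rw [← he', Iso.inv_hom_id_assoc]

include h𝒳 hε in
/-- A terminal object of the 2-fibre product gives a universal arrow. -/
theorem isTerm_of_isTerminal (X₀ : (FibCat.fp y p).obj) (h : ∀ X, ∃! f : X ⟶ X₀, True) :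
    IsTerm p (arrX p y ε X₀) := by
  intro θ β
  obtain ⟨e, he, hβ⟩ := exists_obj_of_arr h𝒳 p y ε hε θ β
  let X : (FibCat.fp y p).obj := mkObj (Over.mk (𝒳.p.map β)) θ e he
  obtain ⟨f, -, hf⟩ := h X
  refine ⟨f.hom.snd, ?_, ?_⟩
  · have := arrX_of_hom p y ε f
    exact this.trans hβ
  · intro χ hχ
    obtain ⟨f', hf'⟩ := exists_hom_of_arrX h𝒳 p y ε hε (X := X) (X' := X₀) χ (hχ.trans hβ.symm)
    rw [← hf', hf f' trivial]

end Comma

/-- Representable sheaves have a terminal element. -/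
theorem exists_terminal_ofSp {F : AlgSp.Sp S} {W : Over S} (a : (AlgSp.yon S).obj W ⟶ F) [IsIso a] :
    ∃ t : (AlgSt.ofSp F).obj, t.base = W ∧ ∀ b, ∃! m : b ⟶ t, True := by
  let x : F.obj.obj (op W) := a.hom.app (op W) ⟨𝟙 W⟩
  have hb : ∀ V : Over S, Function.Bijective (a.hom.app (op V)) := by
    intro V
    have h1 : IsIso a.hom := inferInstanceAs (IsIso ((sheafToPresheaf _ _).map a))
    have h2 : IsIso (a.hom.app (op V)) := inferInstance
    exact (isIso_iff_bijective _).1 h2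
  have hx : ∀ (V : Over S) (g : V ⟶ W), F.obj.map g.op x = a.hom.app (op V) ⟨g⟩ := by
    intro V g
    have h1 := congrArg (fun k => k (⟨𝟙 W⟩ : ULift (W ⟶ W))) (a.hom.naturality g.op)
    refine h1.symm.trans ?_
    change a.hom.app (op V) ⟨g ≫ 𝟙 W⟩ = _
    rw [Category.comp_id]
  refine ⟨⟨W, x⟩, rfl, fun b => ?_⟩
  obtain ⟨⟨g⟩, hg⟩ := (hb b.base).2 b.sec
  refine ⟨⟨g, (hx _ g).trans hg⟩, trivial, fun m _ => ?_⟩
  apply Stk.EltObj.hom_ext
  have h1 : a.hom.app (op b.base) ⟨m.hom⟩ = a.hom.app (op b.base) ⟨g⟩ := by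
    rw [hg, ← hx]
    exact m.map_sec
  exact congrArg ULift.down ((hb b.base).1 h1)

theorem isAff_of_repByAlgSpWith (h𝒳 : FibCat.IsFibGrpd 𝒳.p) (p : 𝒴 ⥤ᵇ 𝒳)
    (hp : AlgSt.RepByAlgSpWith AlgSp.IsAffineMor p) : IsAff p := by
  intro ξ hξ
  obtain ⟨y, ε, hε⟩ := exists_yo h𝒳 ξ rfl
  obtain ⟨F, e, he, hP⟩ := hp (𝒳.p.obj ξ) y
  obtain ⟨W, i, fst, hpb, hW⟩ := hP (Z := 𝒳.p.obj ξ) hξ (𝟙 _)
  have : IsIso fst := hpb.isIso_fst_of_isIso
  obtain ⟨t, ht, ht'⟩ := exists_terminal_ofSp fst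
  have hT : IsTerminal t := IsTerminal.ofUniqueHom (fun b => (ht' b).choose)
    (fun b m => (ht' b).choose_spec.2 m trivial)
  have hE := isEquivalence_of he
  have hT' : IsTerminal (e.toFunctor.obj t) := IsTerminal.isTerminalObj e.toFunctor t hT
  refine ⟨(e.obj t).obj.snd, arrX p y ε (e.obj t), ?_, ?_⟩
  · have h1 : 𝒴.p.obj (e.obj t).obj.snd = W := by
      have h2 := (FibCat.fpSnd y p).w_obj (e.obj t)
      have h3 := e.w_obj t
      exact h2.trans (h3.trans ht)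
    change IsAffine (𝒴.p.obj (e.obj t).obj.snd).left
    rw [h1]
    exact hW
  · refine isTerm_of_isTerminal h𝒳 p y ε hε _ ?_
    intro X
    exact ⟨hT'.from X, trivial, fun f _ => hT'.hom_ext _ _⟩

end K908.Aff
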