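import Groth.Agent.StMod.K908.Leray
import Groth.Agent.StMod.K908.Aff
import Groth.Prelude.Def_StMod2

/-!
# Pushforward along an affine functor

For `p` affine (`IsAff p`) every quasi-coherent module has a pushforward (`exists_isPush_of_isAff`), the sections over
an affine object are the sections over the universal arrow (`evTerm_bijective`), and pushforward preserves surjections.
Consequence: `isCohAffine_comp`: a composite of an affine functor and a cohomologically affine one is cohomologically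
affine.
-/

set_option autoImplicit false
set_option linter.unusedVariables false
set_option linter.style.haveILetI false
set_option backward.isDefEq.respectTransparency false
set_option backward.isDefEq.respectTransparency.types false
set_option linter.dupNamespace false
set_option linter.unusedSectionVars false

universe v'' w'' v' w' v w u

open CategoryTheory CategoryTheory.Limits AlgebraicGeometry Opposite TopologicalSpace StMod
open Groth.Agent.CohqA.BaseChangeMod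

namespace K908.AffPush

open K908.AMod K908.Fam K908.Ext K908.QSec K908.QHom K908.Push K908.Leray K908.Aff

variable {S : Scheme.{u}} {𝒳 : BasedCategory.{v, w} (Over S)} {𝒴 : BasedCategory.{v', w'} (Over S)}
  {𝒵 : BasedCategory.{v'', w''} (Over S)}

section Term

variable (p : 𝒴 ⥤ᵇ 𝒳)

/-- Evaluation at an arrow. -/
def evTerm (F : Mod 𝒴) {ξ : 𝒳.obj} {w : 𝒴.obj} (α : p.obj w ⟶ ξ) : Mod.RelSect p F ξ →+ Γ(F.obj w, ⊤) where
  toFun s := s.1 w α
  map_zero' := rfl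
  map_add' _ _ := rfl

theorem evTerm_apply (F : Mod 𝒴) {ξ : 𝒳.obj} {w : 𝒴.obj} (α : p.obj w ⟶ ξ) (s : Mod.RelSect p F ξ) :
    evTerm p F α s = s.1 w α := rfl

theorem evTerm_smul (F : Mod 𝒴) {ξ : 𝒳.obj} {w : 𝒴.obj} (α : p.obj w ⟶ ξ) (r : Γ(sch 𝒳 ξ, ⊤))
    (s : Mod.RelSect p F ξ) : evTerm p F α (r • s) = (baseOver p w α).left.appTop r • evTerm p F α s := rfl

theorem evTerm_bijective (F : Mod 𝒴) {ξ : 𝒳.obj} {w : 𝒴.obj} {α : p.obj w ⟶ ξ} (h : IsTerm p α) :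
    Function.Bijective (evTerm p F α) := by
  constructor
  · intro s t hst
    apply Mod.RelSect.ext
    intro θ β
    obtain ⟨χ, hχ, -⟩ := h θ β
    subst hχ
    rw [← s.2 χ α, ← t.2 χ α]
    exact congrArg (F.mapTop χ) hst
  · intro x
    refine ⟨⟨fun θ β => F.mapTop (h θ β).choose x, fun θ' θ φ β => ?_⟩, ?_⟩
    · dsimp only
      rw [← Mod.mapTop_comp]
      congr 1
      refine (h θ' (p.map φ ≫ β)).unique ?_ (h θ' (p.map φ ≫ β)).choose_spec.1
      have := (h θ β).choose_spec.1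
      dsimp only at this
      rw [Functor.map_comp, Category.assoc, this]
    · change F.mapTop (h w α).choose x = x
      have : (h w α).choose = 𝟙 w := (h w α).unique (h w α).choose_spec.1 (by
        rw [CategoryTheory.Functor.map_id, Category.id_comp])
      rw [this, Mod.mapTop_id]

theorem evTerm_relRes (F : Mod 𝒴) {ξ' ξ : 𝒳.obj} (φ : ξ' ⟶ ξ) {w' w : 𝒴.obj} (α' : p.obj w' ⟶ ξ')
    (α : p.obj w ⟶ ξ) (ψ : w' ⟶ w) (h : p.map ψ ≫ α = α' ≫ φ) (s : Mod.RelSect p F ξ) :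
    evTerm p F α' (relRes p F φ s) = F.mapTop ψ (evTerm p F α s) := by
  rw [evTerm_apply, relRes_val, ← h]
  exact (s.2 ψ α).symm

theorem baseOver_left (θ : 𝒴.obj) {ξ : 𝒳.obj} (β : p.obj θ ⟶ ξ) :
    (baseOver p θ β).left = (eqToHom (p.w_obj θ).symm).left ≫ bmap 𝒳 β := rfl

variable [hX : FibCat.IsFibGrpd 𝒳.p] [hY : FibCat.IsFibGrpd 𝒴.p]

/-- The schemes under universal arrows form pullback squares. -/
theorem isPullback_term {ξ' ξ : 𝒳.obj} (φ : ξ' ⟶ ξ) {w' w : 𝒴.obj} {α' : p.obj w' ⟶ ξ'} {α : p.obj w ⟶ ξ}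
    (hα' : IsTerm p α') (hα : IsTerm p α) (ψ : w' ⟶ w) (h : p.map ψ ≫ α = α' ≫ φ) :
    IsPullback (bmap 𝒴 ψ) (baseOver p w' α').left (baseOver p w α).left (bmap 𝒳 φ) := by
  have comm : bmap 𝒴 ψ ≫ (baseOver p w α).left = (baseOver p w' α').left ≫ bmap 𝒳 φ := by
    rw [bmap_comp_baseOver_left, h, baseOver_comp]
    rfl
  -- existence
  have hex : ∀ {T : Scheme.{u}} (a : T ⟶ sch 𝒴 w) (b : T ⟶ sch 𝒳 ξ')
      (hab : a ≫ (baseOver p w α).left = b ≫ bmap 𝒳 φ),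
      ∃ m : T ⟶ sch 𝒴 w', m ≫ bmap 𝒴 ψ = a ∧ m ≫ (baseOver p w' α').left = b := by
    intro T a b hab
    obtain ⟨θ, χ, e, he⟩ := Fib.exists_pull w a
    have key : (eqToHom (p.w_obj θ).symm).left ≫ bmap 𝒳 (p.map χ ≫ α) = e.inv ≫ b ≫ bmap 𝒳 φ := by
      rw [← baseOver_left, ← bmap_comp_baseOver_left, ← hab, ← he, Category.assoc, Iso.inv_hom_id_assoc]
    let i : sch 𝒳 (p.obj θ) ≅ sch 𝒴 θ := (Over.forget S).mapIso (eqToIso (p.w_obj θ))
    have hi : i.inv = (eqToHom (p.w_obj θ).symm).left := rfl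
    obtain ⟨β, ⟨hβ1, hβ2⟩, -⟩ := Fib.existsUnique_lift φ (p.map χ ≫ α) (i.hom ≫ e.inv ≫ b) (by
      rw [← hi] at key
      rw [Category.assoc, Category.assoc, ← key, Iso.hom_inv_id_assoc])
    obtain ⟨κ, hκ, -⟩ := hα' θ β
    replace hκ : p.map κ ≫ α' = β := hκ
    have hκψ : κ ≫ ψ = χ := by
      refine (hα θ (p.map χ ≫ α)).unique ?_ rfl
      rw [Functor.map_comp, Category.assoc, h, ← Category.assoc, hκ, hβ1]
    refine ⟨e.hom ≫ bmap 𝒴 κ, ?_, ?_⟩
    · rw [Category.assoc, ← bmap_comp, hκψ, he]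
    · rw [Category.assoc, bmap_comp_baseOver_left, hκ, baseOver_left, ← hi, hβ2, Iso.inv_hom_id_assoc,
        Iso.hom_inv_id_assoc]
  have huniq : ∀ {T : Scheme.{u}} (m m' : T ⟶ sch 𝒴 w') (h1 : m ≫ bmap 𝒴 ψ = m' ≫ bmap 𝒴 ψ)
      (h2 : m ≫ (baseOver p w' α').left = m' ≫ (baseOver p w' α').left), m = m' := by
    intro T m m' h1 h2
    obtain ⟨θ, χ, e, he⟩ := Fib.exists_pull w (m ≫ bmap 𝒴 ψ)
    obtain ⟨κ, ⟨hκ1, hκ2⟩, -⟩ := Fib.existsUnique_lift ψ χ (e.inv ≫ m) (by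
      rw [Category.assoc, ← he, Iso.inv_hom_id_assoc])
    obtain ⟨κ', ⟨hκ1', hκ2'⟩, -⟩ := Fib.existsUnique_lift ψ χ (e.inv ≫ m') (by
      rw [Category.assoc, ← h1, ← he, Iso.inv_hom_id_assoc])
    have hβ : p.map κ ≫ α' = p.map κ' ≫ α' := by
      refine Fib.hom_ext_of_comp φ ?_ ?_
      · rw [Category.assoc, Category.assoc, ← h, ← Category.assoc, ← Category.assoc, ← Functor.map_comp,
          ← Functor.map_comp, hκ1, hκ1']
      · let i : sch 𝒳 (p.obj θ) ≅ sch 𝒴 θ := (Over.forget S).mapIso (eqToIso (p.w_obj θ))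
        have hi : i.inv = (eqToHom (p.w_obj θ).symm).left := rfl
        rw [← cancel_epi i.inv, hi, ← baseOver_left, ← baseOver_left, ← bmap_comp_baseOver_left,
          ← bmap_comp_baseOver_left, hκ2, hκ2', Category.assoc, Category.assoc, h2]
    have hκκ : κ = κ' := (hα' θ (p.map κ' ≫ α')).unique hβ rfl
    rw [← cancel_epi e.inv, ← hκ2, ← hκ2', hκκ]
  refine ⟨⟨comm⟩, ⟨PullbackCone.IsLimit.mk _ (fun s => (hex s.fst s.snd s.condition).choose)
    (fun s => (hex s.fst s.snd s.condition).choose_spec.1) (fun s => (hex s.fst s.snd s.condition).choose_spec.2)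
    (fun s m h1 h2 => huniq _ _ ?_ ?_)⟩⟩
  · rw [h1, (hex s.fst s.snd s.condition).choose_spec.1]
  · rw [h2, (hex s.fst s.snd s.condition).choose_spec.2]

theorem relBC_of_isTerm (F : QCoh 𝒴) {ξ' ξ : 𝒳.obj} (φ : ξ' ⟶ ξ) {w' w : 𝒴.obj} {α' : p.obj w' ⟶ ξ'}
    {α : p.obj w ⟶ ξ} (hα' : IsTerm p α') (hα : IsTerm p α) (h1 : IsAffine (sch 𝒳 ξ')) (h2 : IsAffine (sch 𝒳 ξ))
    (h3 : IsAffine (sch 𝒴 w)) (h3' : IsAffine (sch 𝒴 w')) : RelBC p F.obj φ := by
  obtain ⟨ψ, hψ, -⟩ := hα w' (α' ≫ φ)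
  replace hψ : p.map ψ ≫ α = α' ≫ φ := hψ
  let mM : Module Γ(sch 𝒳 ξ, ⊤) Γ(F.obj.obj w, ⊤) := Module.compHom _ (baseOver p w α).left.appTop.hom
  let mN : Module Γ(sch 𝒳 ξ', ⊤) Γ(F.obj.obj w', ⊤) := Module.compHom _ (baseOver p w' α').left.appTop.hom
  let e : Mod.RelSect p F.obj ξ ≃ₗ[Γ(sch 𝒳 ξ, ⊤)] Γ(F.obj.obj w, ⊤) :=
    { AddEquiv.ofBijective (evTerm p F.obj α) (evTerm_bijective p F.obj hα) with
      map_smul' := fun r s => evTerm_smul p F.obj α r s }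
  let e' : Mod.RelSect p F.obj ξ' ≃ₗ[Γ(sch 𝒳 ξ', ⊤)] Γ(F.obj.obj w', ⊤) :=
    { AddEquiv.ofBijective (evTerm p F.obj α') (evTerm_bijective p F.obj hα') with
      map_smul' := fun r s => evTerm_smul p F.obj α' r s }
  refine ⟨Γ(F.obj.obj w, ⊤), Γ(F.obj.obj w', ⊤), inferInstance, mM, inferInstance, mN, e.symm, e'.symm,
    (rest F.obj (ASieve.all 𝒴)).map (ξ' := ⟨w', h3'⟩) (ξ := ⟨w, h3⟩) (ObjectProperty.homMk ψ), ?_, ?_⟩
  · intro x
    rw [LinearEquiv.symm_apply_eq]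
    change F.obj.mapTop ψ x = evTerm p F.obj α' (relRes p F.obj φ (e.symm x))
    rw [evTerm_relRes p F.obj φ α' α ψ hψ]
    congr 1
    exact (e.apply_symm_apply x).symm
  · have hc := rest_isCart F (ASieve.all 𝒴) (ξ' := ⟨w', h3'⟩) (ξ := ⟨w, h3⟩) (ObjectProperty.homMk ψ)
    have hp := isPullback_term p φ hα' hα ψ hψ
    have i1 : IsAffine (𝒳.p.obj ξ').left := h1
    have i2 : IsAffine (𝒳.p.obj ξ).left := h2
    have hpo := isPushout_appTop_of_isPullback hp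
    refine BC.isBC_of_isPushout (A := Γ(sch 𝒳 ξ, ⊤)) (B := Γ(sch 𝒳 ξ', ⊤)) (A' := Γ(sch 𝒴 w, ⊤)) (B' := Γ(sch 𝒴 w', ⊤)) (baseOver p w α).left.appTop.hom
      (bmap 𝒳 φ).appTop.hom (bmap 𝒴 ψ).appTop.hom (baseOver p w' α').left.appTop.hom ?_ (fun _ _ => rfl)
      (fun _ _ => rfl) hc
    exact hpo.flip

theorem relBC_of_isAff (hp : IsAff p) (F : QCoh 𝒴) {ξ' ξ : 𝒳.obj} (φ : ξ' ⟶ ξ) (h1 : IsAffine (sch 𝒳 ξ'))
    (h2 : IsAffine (sch 𝒳 ξ)) : RelBC p F.obj φ := by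
  obtain ⟨w, α, h3, hα⟩ := hp ξ h2
  obtain ⟨w', α', h3', hα'⟩ := hp ξ' h1
  exact relBC_of_isTerm p F φ hα' hα h1 h2 h3 h3'

/-- The pushforward along an affine functor exists. -/
theorem exists_isPush_of_isAff (hp : IsAff p) (F : QCoh 𝒴) : ∃ E : QCoh 𝒳, Nonempty (IsPush p F.obj E.obj) :=
  exists_isPush p F.obj fun _ _ φ h1 h2 => relBC_of_isAff p hp F φ h1 h2

omit hX hY in
/-- Pushforward along an affine functor preserves surjections. -/
theorem surjective_relSectMap_of_isAff (hp : IsAff p) {F G : Mod 𝒴} (u : F ⟶ G) (hu : Mod.IsSurj u) (ξ : 𝒳.obj)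
    (h : IsAffine (sch 𝒳 ξ)) : Function.Surjective (Mod.relSectMap p u ξ) := by
  intro s
  obtain ⟨w, α, h3, hα⟩ := hp ξ h
  obtain ⟨x, hx⟩ := hu w h3 (evTerm p G α s)
  obtain ⟨t, rfl⟩ := (evTerm_bijective p F hα).2 x
  exact ⟨t, (evTerm_bijective p G hα).1 hx⟩

/-- Affine functors and cohomologically affine ones compose. -/
theorem isCohAffine_comp {M : AlgSp.Sp S} (hp : IsAff p) (π : 𝒳 ⥤ᵇ AlgSt.ofSp M) (hπ : IsCohAffine π) :
    IsCohAffine (BasedFunctor.comp p π) := by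
  intro F G f hf E hE
  obtain ⟨E₁, ⟨h1⟩⟩ := exists_isPush_of_isAff p hp F
  obtain ⟨E₂, ⟨h2⟩⟩ := exists_isPush_of_isAff p hp G
  refine surjective_comp h1 h2 f.hom π (etaOf E) ?_
  exact hπ (F := E₁) (G := E₂) (ObjectProperty.homMk (pushMap h1 h2 f.hom))
    (isSurj_pushMap h1 h2 f.hom (surjective_relSectMap_of_isAff p hp f.hom hf)) E hE

end Term

end K908.AffPush
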