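import Mathlib.Algebra.Module.LocalizedModule.Basic
import Mathlib.RingTheory.Localization.BaseChange
import Mathlib.RingTheory.Localization.Away.Basic
import Groth.Agent.CohqA.BaseChangeMod

/-!
# Gluing elements of a module along a finite family of principal localizations, elementary form
-/

set_option autoImplicit false
set_option linter.unusedVariables false
set_option linter.style.haveILetI false
universe u

namespace K908.GlueAlg

open Groth.Agent.CohqA.BaseChangeMod

theorem separated {A : Type*} [CommRing A] {N : Type*} [AddCommGroup N] [Module A N] (s : Set A)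
    (hs : Ideal.span s = ⊤) (m : N) (h : ∀ f ∈ s, ∃ n : ℕ, f ^ n • m = 0) : m = 0 := by
  let I : Ideal A := Submodule.annihilator (Submodule.span A {m})
  have hI : ∀ f : A, f ∈ I ↔ f • m = 0 := fun f => Submodule.mem_annihilator_span_singleton m f
  have h1 : Ideal.span s ≤ I.radical := by
    rw [Ideal.span_le]
    intro f hf
    obtain ⟨n, hn⟩ := h f hf
    exact ⟨n, (hI _).2 hn⟩
  rw [hs, top_le_iff, Ideal.radical_eq_top] at h1
  have : (1 : A) ∈ I := h1 ▸ Submodule.mem_top
  simpa using (hI 1).1 this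

theorem glue {A : Type*} [CommRing A] {N : Type*} [AddCommGroup N] [Module A N] {ι : Type*} [Finite ι]
    (f : ι → A) (hf : Ideal.span (Set.range f) = ⊤) {P : ι → Type*} [∀ i, AddCommGroup (P i)]
    [∀ i, Module A (P i)] {Q : ι → ι → Type*} [∀ i j, AddCommGroup (Q i j)] [∀ i j, Module A (Q i j)]
    (l : ∀ i, N →ₗ[A] P i) (r1 : ∀ i j, P i →ₗ[A] Q i j) (r2 : ∀ i j, P j →ₗ[A] Q i j)
    (hr : ∀ i j n, r1 i j (l i n) = r2 i j (l j n))
    (hbij : ∀ i, Function.Injective (fun x : P i => f i • x))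
    (hsurj : ∀ i (x : P i), ∃ (n : ℕ) (m : N), l i m = f i ^ n • x)
    (hq : ∀ i j n, r1 i j (l i n) = 0 → ∃ k : ℕ, (f i * f j) ^ k • n = 0)
    (x : ∀ i, P i) (hx : ∀ i j, r1 i j (x i) = r2 i j (x j)) : ∃ m, ∀ i, l i m = x i := by
  classical
  cases nonempty_fintype ι
  have hinj : ∀ i (n : ℕ), Function.Injective (fun x : P i => f i ^ n • x) := by
    intro i n
    induction n with
    | zero => intro x y h; simpa using h
    | succ n ih =>
      intro x y h
      apply ih
      apply hbij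
      dsimp only at h ⊢
      rwa [← mul_smul, ← mul_smul, ← pow_succ']
  choose n0 y0 hy0 using fun i => hsurj i (x i)
  -- a common exponent
  obtain ⟨n, y, hy⟩ : ∃ (n : ℕ) (y : ι → N), ∀ i, l i (y i) = f i ^ n • x i := by
    refine ⟨Finset.univ.sup n0, fun i => f i ^ (Finset.univ.sup n0 - n0 i) • y0 i, fun i => ?_⟩
    rw [map_smul, hy0, ← mul_smul, ← pow_add, Nat.sub_add_cancel (Finset.le_sup (Finset.mem_univ i))]
  have h1 : ∀ i j, ∃ k : ℕ, (f i * f j) ^ k • (f j ^ n • y i - f i ^ n • y j) = 0 := by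
    intro i j
    apply hq
    have e1 : r1 i j (l i (f j ^ n • y i)) = f j ^ n • f i ^ n • r1 i j (x i) := by
      rw [map_smul, map_smul, hy, map_smul]
    have e2 : r1 i j (l i (f i ^ n • y j)) = f i ^ n • f j ^ n • r2 i j (x j) := by
      rw [hr, map_smul, map_smul, hy, map_smul]
    rw [map_sub, map_sub, e1, e2, hx, smul_comm, sub_self]
  choose k0 hk0 using h1
  obtain ⟨k, hk⟩ : ∃ k : ℕ, ∀ i j, (f i * f j) ^ k • (f j ^ n • y i - f i ^ n • y j) = 0 := by
    refine ⟨Finset.univ.sup fun p : ι × ι => k0 p.1 p.2, fun i j => ?_⟩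
    rw [← Nat.sub_add_cancel (Finset.le_sup (f := fun p : ι × ι => k0 p.1 p.2) (Finset.mem_univ (i, j))), pow_add,
      mul_smul]
    dsimp only
    rw [hk0, smul_zero]
  -- `g i = f i ^ (n + k)`, `z i = f i ^ k • y i`
  have h2 : ∀ i j, f j ^ (n + k) • (f i ^ k • y i) = f i ^ (n + k) • (f j ^ k • y j) := by
    intro i j
    have := hk i j
    rw [smul_sub, sub_eq_zero] at this
    calc f j ^ (n + k) • (f i ^ k • y i) = (f i * f j) ^ k • (f j ^ n • y i) := by
          rw [← mul_smul, ← mul_smul]; congr 1; ring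
      _ = (f i * f j) ^ k • (f i ^ n • y j) := this
      _ = _ := by rw [← mul_smul, ← mul_smul]; congr 1; ring
  have h3 : Ideal.span (Set.range fun i => f i ^ (n + k)) = ⊤ := by
    have := Ideal.span_pow_eq_top (Set.range f) hf (n + k)
    rwa [← Set.range_comp] at this
  have h4 : (1 : A) ∈ Ideal.span (Set.range fun i => f i ^ (n + k)) := h3 ▸ Submodule.mem_top
  obtain ⟨a, ha⟩ := (Ideal.mem_span_range_iff_exists_fun).1 h4
  refine ⟨∑ i, a i • (f i ^ k • y i), fun j => ?_⟩
  apply hinj j (n + k)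
  dsimp only
  rw [← map_smul, Finset.smul_sum]
  have h5 : ∀ i, f j ^ (n + k) • a i • f i ^ k • y i = (a i * f i ^ (n + k)) • (f j ^ k • y j) := by
    intro i
    rw [smul_comm, h2, ← mul_smul]
  rw [Finset.sum_congr rfl fun i _ => h5 i, ← Finset.sum_smul, ha, one_smul, map_smul, hy, ← mul_smul]
  congr 1
  ring

/-- Elementary consequences of base change along a principal localization. -/
theorem isBC_away {A B : Type u} [CommRing A] [CommRing B] (φ : A →+* B) (f : A)
    (hφ : @IsLocalization.Away A _ f B _ φ.toAlgebra) {M N : Type u} [AddCommGroup M] [Module A M]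
    [AddCommGroup N] [Module B N] {l : M →+ N} (h : IsBC φ l) :
    (∀ m, l m = 0 → ∃ n : ℕ, f ^ n • m = 0) ∧
      (∀ x, ∃ (n : ℕ) (m : M), l m = φ f ^ n • x) ∧ Function.Injective (fun x : N => φ f • x) := by
  let _ := φ.toAlgebra
  let _ : Module A N := Module.compHom N φ
  have : IsScalarTower A B N := ⟨fun a b x => by
    change (φ a * b) • x = φ a • b • x
    rw [mul_smul]⟩
  let l' : M →ₗ[A] N := { l with map_smul' := h.map_smul }
  have h1 : IsBaseChange B l' := (isBC_iff_isBaseChange l').1 h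
  have h2 : IsLocalizedModule (Submonoid.powers f) l' :=
    (isLocalizedModule_iff_isBaseChange (Submonoid.powers f) B l').2 h1
  refine ⟨fun m hm => ?_, fun x => ?_, fun x y hxy => ?_⟩
  · obtain ⟨⟨_, n, rfl⟩, hn⟩ := (IsLocalizedModule.eq_zero_iff (Submonoid.powers f) l').1 hm
    exact ⟨n, hn⟩
  · obtain ⟨⟨m, ⟨_, n, rfl⟩⟩, hm⟩ := IsLocalizedModule.surj (Submonoid.powers f) l' x
    refine ⟨n, m, ?_⟩
    rw [← map_pow]
    exact hm.symm
  · have h3 : IsUnit (φ f) := IsLocalization.Away.algebraMap_isUnit (S := B) f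
    exact (h3.smul_left_cancel).1 hxy

end K908.GlueAlg
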