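import Groth.Agent.StMod.K908.Fib
import Groth.Agent.StMod.K908.GlueAlg
import Groth.Prelude.Def_AlgSt3

/-!
# Modules on affine objects (`AMod`) and the Zariski sheaf property

`AMod 𝒞`: a family of modules over the global functions of the schemes under the objects of `𝒞`, with semilinear
restriction maps.  `AMod.IsCart`: every restriction map is a base change of modules.
`ASieve 𝒳`: a class of objects of `𝒳` over affine schemes closed under arrows from objects over affine schemes;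
`C.cat` the full subcategory.
-/

set_option autoImplicit false
set_option linter.unusedVariables false
set_option linter.style.haveILetI false
set_option backward.isDefEq.respectTransparency false
set_option backward.isDefEq.respectTransparency.types false
set_option linter.dupNamespace false
set_option linter.unusedSectionVars false

universe v' w' v w u

open CategoryTheory CategoryTheory.Limits AlgebraicGeometry Opposite TopologicalSpace StMod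
open Groth.Agent.CohqA.BaseChangeMod

namespace K908.AMod

variable {S : Scheme.{u}}

/-- A family of modules over the functions of the schemes under the objects of `𝒞`, with restriction maps. -/
structure AMod (𝒞 : BasedCategory.{v, w} (Over S)) where
  obj : 𝒞.obj → Type u
  [grp : ∀ ξ, AddCommGroup (obj ξ)]
  [mod : ∀ ξ, Module Γ(sch 𝒞 ξ, ⊤) (obj ξ)]
  map : ∀ {ξ' ξ : 𝒞.obj}, (ξ' ⟶ ξ) → (obj ξ →+ obj ξ')
  map_smul : ∀ {ξ' ξ : 𝒞.obj} (φ : ξ' ⟶ ξ) (r : Γ(sch 𝒞 ξ, ⊤)) (x : obj ξ),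
    map φ (r • x) = (bmap 𝒞 φ).appTop r • map φ x
  map_id : ∀ (ξ : 𝒞.obj) (x : obj ξ), map (𝟙 ξ) x = x
  map_comp : ∀ {ξ'' ξ' ξ : 𝒞.obj} (ψ : ξ'' ⟶ ξ') (φ : ξ' ⟶ ξ) (x : obj ξ), map (ψ ≫ φ) x = map ψ (map φ x)

attribute [instance] AMod.grp AMod.mod

namespace AMod

variable {𝒞 : BasedCategory.{v, w} (Over S)}

/-- Every restriction map is a base change of modules. -/
def IsCart (M : AMod 𝒞) : Prop :=
  ∀ ⦃ξ' ξ : 𝒞.obj⦄ (φ : ξ' ⟶ ξ), IsBC (bmap 𝒞 φ).appTop.hom (M.map φ)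

end AMod

/-- A class of objects over affine schemes, closed under arrows from objects over affine schemes. -/
structure ASieve (𝒳 : BasedCategory.{v, w} (Over S)) where
  P : 𝒳.obj → Prop
  aff : ∀ ⦃ζ : 𝒳.obj⦄, P ζ → IsAffine (sch 𝒳 ζ)
  down : ∀ ⦃ζ' ζ : 𝒳.obj⦄ (_ : ζ' ⟶ ζ), P ζ → IsAffine (sch 𝒳 ζ') → P ζ'

/-- The full subcategory cut out by a class of affine objects. -/
abbrev ASieve.cat {𝒳 : BasedCategory.{v, w} (Over S)} (C : ASieve 𝒳) : BasedCategory.{v, w} (Over S) :=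
  AlgSt.fullSub 𝒳 C.P

/-- All objects over affine schemes. -/
def ASieve.all (𝒳 : BasedCategory.{v, w} (Over S)) : ASieve 𝒳 where
  P ζ := IsAffine (sch 𝒳 ζ)
  aff _ h := h
  down _ _ _ _ h := h

section Scheme

/-- Global functions along an open immersion onto a basic open of an affine scheme. -/
theorem isLocalization_appTop {Z' Z : Scheme.{u}} (g : Z' ⟶ Z) [IsOpenImmersion g] [IsAffine Z]
    (f : Γ(Z, ⊤)) (h : g.opensRange = Z.basicOpen f) :
    @IsLocalization.Away _ _ f Γ(Z', ⊤) _ g.appTop.hom.toAlgebra := by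
  have h0 : g ''ᵁ ⊤ = Z.basicOpen f := by rw [← h]; exact g.image_top_eq_opensRange
  have h1 := (isAffineOpen_top Z).isLocalization_of_eq_basicOpen f (homOfLE le_top : g ''ᵁ ⊤ ⟶ ⊤) h0
  let a1 := (Z.presheaf.map (homOfLE le_top : g ''ᵁ ⊤ ⟶ ⊤).op).hom.toAlgebra
  let a2 := g.appTop.hom.toAlgebra
  let e : Γ(Z, g ''ᵁ ⊤) ≃ₐ[Γ(Z, ⊤)] Γ(Z', ⊤) :=
    AlgEquiv.ofRingEquiv (f := (g.appIso ⊤).commRingCatIsoToRingEquiv) (fun r => by
      change (g.appIso ⊤).hom (Z.presheaf.map (homOfLE le_top : g ''ᵁ ⊤ ⟶ ⊤).op r) = g.appTop r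
      rw [Scheme.Hom.appIso_hom']
      have := congrArg (fun k => k.hom r) (Scheme.Hom.map_appLE g (g.preimage_image_eq ⊤).ge
        (homOfLE le_top : g ''ᵁ ⊤ ⟶ ⊤).op)
      simp only [CommRingCat.hom_comp, RingHom.comp_apply] at this
      rw [this]
      simp [Scheme.Hom.appLE])
  exact IsLocalization.isLocalization_of_algEquiv _ e

end Scheme

section Zar

variable {𝒳 : BasedCategory.{v, w} (Over S)} [hX : FibCat.IsFibGrpd 𝒳.p] (C : ASieve 𝒳)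

theorem isAffine_sch (ζ : C.cat.obj) : IsAffine (sch C.cat ζ) := C.aff ζ.property

/-- Restriction of an object of `C.cat` to an affine open. -/
theorem exists_restr_affine (ζ : C.cat.obj) (U : (sch C.cat ζ).Opens) (hU : IsAffineOpen U) :
    ∃ (ζ' : C.cat.obj) (ψ : ζ' ⟶ ζ) (_ : IsOpenImmersion (bmap C.cat ψ)),
      (bmap C.cat ψ).opensRange = U := by
  obtain ⟨ζ', φ, h1, h2⟩ := Fib.exists_restr (𝒳 := 𝒳) ζ.obj U
  have h3 : IsAffine (sch 𝒳 ζ') := Fib.isAffine_of_opensRange φ (by rw [h2]; exact hU)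
  exact ⟨⟨ζ', C.down φ ζ.property h3⟩, ObjectProperty.homMk φ, h1, h2⟩

/-- Restriction of any object of `𝒳` to an open. -/
theorem exists_restr_basic (ζ : C.cat.obj) (f : Γ(sch C.cat ζ, ⊤)) :
    ∃ (ζ' : C.cat.obj) (ψ : ζ' ⟶ ζ) (_ : IsOpenImmersion (bmap C.cat ψ)),
      (bmap C.cat ψ).opensRange = (sch C.cat ζ).basicOpen f := by
  have := isAffine_sch C ζ
  exact exists_restr_affine C ζ _ ((isAffineOpen_top _).basicOpen f)

/-- Lifts in the full subcategory. -/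
theorem exists_lift_open' {ξ ζ ζ' : C.cat.obj} (φ : ζ ⟶ ξ) (ψ : ζ' ⟶ ξ)
    [IsOpenImmersion (bmap C.cat φ)] (h : Set.range (bmap C.cat ψ) ⊆ Set.range (bmap C.cat φ)) :
    ∃ χ : ζ' ⟶ ζ, χ ≫ φ = ψ := by
  have : IsOpenImmersion (bmap 𝒳 φ.hom) := ‹_›
  obtain ⟨χ, hχ⟩ := Fib.exists_lift_open φ.hom ψ.hom h
  exact ⟨ObjectProperty.homMk χ, ObjectProperty.hom_ext _ hχ⟩

variable {C} (N : AMod C.cat) (hN : N.IsCart)

include hN in
theorem map_away {ζ' ζ : C.cat.obj} (ψ : ζ' ⟶ ζ) [IsOpenImmersion (bmap C.cat ψ)]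
    (f : Γ(sch C.cat ζ, ⊤)) (h : (bmap C.cat ψ).opensRange = (sch C.cat ζ).basicOpen f) :
    (∀ m, N.map ψ m = 0 → ∃ n : ℕ, f ^ n • m = 0) ∧
      (∀ x, ∃ (n : ℕ) (m : N.obj ζ), N.map ψ m = (bmap C.cat ψ).appTop f ^ n • x) ∧
      Function.Injective (fun x : N.obj ζ' => (bmap C.cat ψ).appTop f • x) := by
  have := isAffine_sch C ζ
  exact GlueAlg.isBC_away _ f (isLocalization_appTop _ f h) (hN ψ)

/-- A Zariski covering sieve-like property of arrows to `ζ`: it is closed under precomposition and near every point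
there is an open immersion satisfying it. -/
structure ZCov (ζ : C.cat.obj) (R : ∀ ⦃ζ' : C.cat.obj⦄, (ζ' ⟶ ζ) → Prop) : Prop where
  precomp : ∀ ⦃ζ'' ζ' : C.cat.obj⦄ (χ : ζ'' ⟶ ζ') (ψ : ζ' ⟶ ζ), R ψ → R (χ ≫ ψ)
  exists_open : ∀ z : ↥(sch C.cat ζ), ∃ (ζ' : C.cat.obj) (ψ : ζ' ⟶ ζ) (_ : IsOpenImmersion (bmap C.cat ψ)),
    z ∈ (bmap C.cat ψ).opensRange ∧ R ψ

/-- A covering by basic opens. -/
theorem ZCov.exists_basic {ζ : C.cat.obj} {R : ∀ ⦃ζ' : C.cat.obj⦄, (ζ' ⟶ ζ) → Prop} (h : ZCov ζ R) :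
    ∃ (n : ℕ) (f : Fin n → Γ(sch C.cat ζ, ⊤)), Ideal.span (Set.range f) = ⊤ ∧
      ∀ i, ∃ (ζ' : C.cat.obj) (ψ : ζ' ⟶ ζ) (_ : IsOpenImmersion (bmap C.cat ψ)),
        (bmap C.cat ψ).opensRange = (sch C.cat ζ).basicOpen (f i) ∧ R ψ := by
  have hA := isAffine_sch C ζ
  -- the set of good functions
  let s : Set Γ(sch C.cat ζ, ⊤) := {f | ∃ (ζ' : C.cat.obj) (ψ : ζ' ⟶ ζ) (_ : IsOpenImmersion (bmap C.cat ψ)),
        (bmap C.cat ψ).opensRange = (sch C.cat ζ).basicOpen f ∧ R ψ}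
  have hs : Ideal.span s = ⊤ := by
    rw [← (isAffineOpen_top (sch C.cat ζ)).self_le_iSup_basicOpen_iff]
    intro z hz
    obtain ⟨ζ', ψ, h1, h2, h3⟩ := h.exists_open z
    obtain ⟨f, hf, hzf⟩ := (isAffineOpen_top (sch C.cat ζ)).exists_basicOpen_le ⟨z, h2⟩ hz
    obtain ⟨ζ'', ψ', h1', h2'⟩ := exists_restr_basic C ζ f
    have h4 : Set.range (bmap C.cat ψ') ⊆ Set.range (bmap C.cat ψ) := by
      intro x hx
      have h5 : x ∈ (bmap C.cat ψ').opensRange := hx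
      rw [h2'] at h5
      exact hf h5
    obtain ⟨χ, hχ⟩ := exists_lift_open' C ψ ψ' h4
    refine Opens.mem_iSup.mpr ⟨⟨f, ζ'', ψ', h1', h2', ?_⟩, hzf⟩
    rw [← hχ]
    exact h.precomp _ _ h3
  obtain ⟨t, ht, ht'⟩ := (Ideal.span_eq_top_iff_finite s).1 hs
  refine ⟨t.card, fun i => (t.equivFin.symm i : Γ(sch C.cat ζ, ⊤)), ?_, fun i => ht (t.equivFin.symm i).2⟩
  rw [← ht']
  congr 1
  ext x
  constructor
  · rintro ⟨i, rfl⟩
    exact (t.equivFin.symm i).2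
  · intro hx
    exact ⟨t.equivFin ⟨x, hx⟩, by simp⟩

include hN in
/-- Separatedness for the Zariski topology. -/
theorem zar_sep {ζ : C.cat.obj} {R : ∀ ⦃ζ' : C.cat.obj⦄, (ζ' ⟶ ζ) → Prop} (h : ZCov ζ R)
    (m m' : N.obj ζ) (e : ∀ ⦃ζ' : C.cat.obj⦄ (ψ : ζ' ⟶ ζ), R ψ → N.map ψ m = N.map ψ m') : m = m' := by
  obtain ⟨n, f, hf, hψ⟩ := h.exists_basic
  rw [← sub_eq_zero]
  refine GlueAlg.separated (Set.range f) hf _ ?_
  rintro _ ⟨i, rfl⟩
  obtain ⟨ζ', ψ, h1, h2, h3⟩ := hψ i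
  refine (map_away N hN ψ (f i) h2).1 _ ?_
  rw [map_sub, e ψ h3, sub_self]

/-- Pullback of a Zariski covering property. -/
theorem ZCov.pull {ζ : C.cat.obj} {R : ∀ ⦃ζ' : C.cat.obj⦄, (ζ' ⟶ ζ) → Prop} (h : ZCov ζ R) {ζ₁ : C.cat.obj}
    (χ : ζ₁ ⟶ ζ) : ZCov ζ₁ (fun _ ψ => R (ψ ≫ χ)) where
  precomp ζ'' ζ' a b hb := by
    rw [Category.assoc]
    exact h.precomp _ _ hb
  exists_open z := by
    obtain ⟨ζ', ψ, h1, h2, h3⟩ := h.exists_open (bmap C.cat χ z)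
    have hA := isAffine_sch C ζ₁
    have hz : z ∈ (bmap C.cat χ) ⁻¹ᵁ (bmap C.cat ψ).opensRange := h2
    obtain ⟨f, hf, hzf⟩ := (isAffineOpen_top (sch C.cat ζ₁)).exists_basicOpen_le ⟨z, hz⟩ (Set.mem_univ z)
    obtain ⟨ζ'', ψ', h1', h2'⟩ := exists_restr_basic C ζ₁ f
    refine ⟨ζ'', ψ', h1', by rw [h2']; exact hzf, ?_⟩
    have h4 : Set.range (bmap C.cat (ψ' ≫ χ)) ⊆ Set.range (bmap C.cat ψ) := by
      rw [bmap_comp]
      rintro _ ⟨y, rfl⟩
      have h5 : bmap C.cat ψ' y ∈ (bmap C.cat ψ').opensRange := ⟨y, rfl⟩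
      rw [h2'] at h5
      exact hf h5
    obtain ⟨a, ha⟩ := exists_lift_open' C ψ (ψ' ≫ χ) h4
    change R (ψ' ≫ χ)
    rw [← ha]
    exact h.precomp _ _ h3

include hN in
/-- Gluing for the Zariski topology. -/
theorem zar_glue {ζ : C.cat.obj} {R : ∀ ⦃ζ' : C.cat.obj⦄, (ζ' ⟶ ζ) → Prop} (h : ZCov ζ R)
    (t : ∀ ⦃ζ' : C.cat.obj⦄ (ψ : ζ' ⟶ ζ), R ψ → N.obj ζ')
    (ht : ∀ ⦃ζ'' ζ' : C.cat.obj⦄ (χ : ζ'' ⟶ ζ') (ψ : ζ' ⟶ ζ) (hψ : R ψ) (hψ' : R (χ ≫ ψ)),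
      N.map χ (t ψ hψ) = t (χ ≫ ψ) hψ') :
    ∃ m : N.obj ζ, ∀ ⦃ζ' : C.cat.obj⦄ (ψ : ζ' ⟶ ζ) (hψ : R ψ), N.map ψ m = t ψ hψ := by
  have hA := isAffine_sch C ζ
  obtain ⟨n, f, hf, hψ⟩ := h.exists_basic
  choose ζi ψi h1 h2 h3 using hψ
  choose ζij ψij h1' h2' using fun i j => exists_restr_basic C ζ (f i * f j)
  have hle : ∀ i j, Set.range (bmap C.cat (ψij i j)) ⊆ Set.range (bmap C.cat (ψi i)) := by
    intro i j x hx
    have h5 : x ∈ (bmap C.cat (ψij i j)).opensRange := hx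
    rw [h2', Scheme.basicOpen_mul] at h5
    have h6 : x ∈ (bmap C.cat (ψi i)).opensRange := by
      rw [h2]
      exact h5.1
    exact h6
  have hle' : ∀ i j, Set.range (bmap C.cat (ψij i j)) ⊆ Set.range (bmap C.cat (ψi j)) := by
    intro i j x hx
    have h5 : x ∈ (bmap C.cat (ψij i j)).opensRange := hx
    rw [h2', Scheme.basicOpen_mul] at h5
    have h6 : x ∈ (bmap C.cat (ψi j)).opensRange := by
      rw [h2]
      exact h5.2
    exact h6
  choose a ha using fun i j => exists_lift_open' C (ψi i) (ψij i j) (hle i j)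
  choose b hb using fun i j => exists_lift_open' C (ψi j) (ψij i j) (hle' i j)
  let _ : ∀ i, Module Γ(sch C.cat ζ, ⊤) (N.obj (ζi i)) := fun i =>
    Module.compHom _ (bmap C.cat (ψi i)).appTop.hom
  let _ : ∀ i j, Module Γ(sch C.cat ζ, ⊤) (N.obj (ζij i j)) := fun i j =>
    Module.compHom _ (bmap C.cat (ψij i j)).appTop.hom
  have hs : ∀ i j (r : Γ(sch C.cat ζ, ⊤)), (bmap C.cat (a i j)).appTop ((bmap C.cat (ψi i)).appTop r) =
      (bmap C.cat (ψij i j)).appTop r := by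
    intro i j r
    rw [← ha i j, bmap_comp, Scheme.Hom.comp_appTop]
    rfl
  have hs' : ∀ i j (r : Γ(sch C.cat ζ, ⊤)), (bmap C.cat (b i j)).appTop ((bmap C.cat (ψi j)).appTop r) =
      (bmap C.cat (ψij i j)).appTop r := by
    intro i j r
    rw [← hb i j, bmap_comp, Scheme.Hom.comp_appTop]
    rfl
  have hsa : ∀ i j (r : Γ(sch C.cat ζ, ⊤)) (x : N.obj (ζi i)), N.map (a i j) (r • x) = r • N.map (a i j) x := by
    intro i j r x
    refine (N.map_smul (a i j) _ x).trans ?_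
    exact congrArg (fun r' => r' • N.map (a i j) x) (hs i j r)
  have hsb : ∀ i j (r : Γ(sch C.cat ζ, ⊤)) (x : N.obj (ζi j)), N.map (b i j) (r • x) = r • N.map (b i j) x := by
    intro i j r x
    refine (N.map_smul (b i j) _ x).trans ?_
    exact congrArg (fun r' => r' • N.map (b i j) x) (hs' i j r)
  obtain ⟨m, hm⟩ := GlueAlg.glue f hf (P := fun i => N.obj (ζi i)) (Q := fun i j => N.obj (ζij i j))
    (fun i => { N.map (ψi i) with map_smul' := fun r x => N.map_smul (ψi i) r x })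
    (fun i j => { N.map (a i j) with map_smul' := hsa i j })
    (fun i j => { N.map (b i j) with map_smul' := hsb i j })
    (fun i j n => by
      change N.map (a i j) (N.map (ψi i) n) = N.map (b i j) (N.map (ψi j) n)
      rw [← N.map_comp, ← N.map_comp, ha, hb])
    (fun i => (map_away N hN (ψi i) (f i) (h2 i)).2.2)
    (fun i x => by
      obtain ⟨n, m, hm⟩ := (map_away N hN (ψi i) (f i) (h2 i)).2.1 x
      refine ⟨n, m, hm.trans ?_⟩
      rw [← map_pow]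
      rfl)
    (fun i j n hn => by
      refine (map_away N hN (ψij i j) (f i * f j) (h2' i j)).1 n ?_
      rw [← ha i j, N.map_comp]
      exact hn)
    (fun i => t (ψi i) (h3 i))
    (fun i j => by
      have e1 : R (ψij i j) := by rw [← ha i j]; exact h.precomp _ _ (h3 i)
      have key : ∀ (χ χ' : ζij i j ⟶ ζ) (hχ : R χ) (hχ' : R χ'), χ = χ' → t χ hχ = t χ' hχ' := by
        rintro χ χ' hχ hχ' rfl
        rfl
      change N.map (a i j) _ = N.map (b i j) _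
      rw [ht (a i j) (ψi i) (h3 i) (h.precomp _ _ (h3 i)), ht (b i j) (ψi j) (h3 j) (h.precomp _ _ (h3 j))]
      exact key _ _ _ _ ((ha i j).trans (hb i j).symm))
  refine ⟨m, fun ζ' ψ hψ => ?_⟩
  -- compare on the pullback of the covering
  have hcov : ZCov ζ (fun ζ₂ ψ => ∃ (i : Fin n) (χ : ζ₂ ⟶ ζi i), χ ≫ ψi i = ψ) := by
    refine ⟨?_, fun z => ?_⟩
    · rintro ζ'' ζ' χ ψ ⟨i, χ', rfl⟩
      exact ⟨i, χ ≫ χ', Category.assoc _ _ _⟩
    · have h7 : (⊤ : (sch C.cat ζ).Opens) ≤ ⨆ f' : Set.range f, (sch C.cat ζ).basicOpen (f' : Γ(sch C.cat ζ, ⊤)) :=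
        ((isAffineOpen_top (sch C.cat ζ)).self_le_iSup_basicOpen_iff).2 hf
      obtain ⟨⟨_, i, rfl⟩, hi⟩ := Opens.mem_iSup.mp (h7 (Set.mem_univ z))
      exact ⟨ζi i, ψi i, h1 i, by rw [h2]; exact hi, i, 𝟙 _, Category.id_comp _⟩
  refine zar_sep N hN (hcov.pull ψ) _ _ ?_
  rintro ζ'' χ ⟨i, χ', hχ'⟩
  have key : ∀ (χ χ' : ζ'' ⟶ ζ) (hχ : R χ) (hχ' : R χ'), χ = χ' → t χ hχ = t χ' hχ' := by
    rintro χ χ' hχ hχ' rfl
    rfl
  have e1 : N.map (χ ≫ ψ) m = N.map (χ' ≫ ψi i) m := by rw [hχ']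
  rw [← N.map_comp, ht χ ψ hψ (h.precomp _ _ hψ), e1, N.map_comp]
  refine (congrArg (N.map χ') (hm i)).trans ?_
  rw [ht χ' (ψi i) (h3 i) (h.precomp _ _ (h3 i))]
  exact key _ _ _ _ hχ'

end Zar

end K908.AMod
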