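import Groth.Prelude.Def_StMod6
import Groth.Agent.StMod.K908.AMod

/-!
# Global sections of inverse images

`ct f F y : Γ(F.obj (f y), ⊤) ≃+ Γ((comap f F).obj y, ⊤)`, compatible with restrictions, morphisms, and semilinear.
-/

set_option autoImplicit false
set_option linter.unusedVariables false
set_option linter.style.haveILetI false
set_option backward.isDefEq.respectTransparency false
set_option backward.isDefEq.respectTransparency.types false
set_option linter.dupNamespace false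
set_option linter.unusedSectionVars false

universe v' w' v w u

open CategoryTheory CategoryTheory.Limits AlgebraicGeometry Opposite TopologicalSpace StMod

namespace K908.Comap

section Cast

variable {X X' T T' : Scheme.{u}}

/-- Transport of global sections. -/
noncomputable def ctop (h : X = T) (M : X.Modules) : Γ(M, ⊤) ≃+ Γ(castMod h M, ⊤) := by
  subst h
  exact AddEquiv.refl _

theorem ctop_smul (h : X = T) (M : X.Modules) (r : Γ(X, ⊤)) (x : Γ(M, ⊤)) :
    ctop h M (r • x) = (eqToHom h.symm : T ⟶ X).appTop r • ctop h M x := by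
  subst h
  simp only [eqToHom_refl, Scheme.Hom.id_appTop]
  rfl

theorem ctop_castHom (h : X = T) {M N : X.Modules} (u : M ⟶ N) (x : Γ(M, ⊤)) :
    (castHom h u).app ⊤ (ctop h M x) = ctop h N (u.app ⊤ x) := by
  subst h
  rfl

theorem ctop_castMap (hX : X = T) (hX' : X' = T') {g₁ : X' ⟶ X} {g : T' ⟶ T}
    (hg : g₁ ≫ eqToHom hX = eqToHom hX' ≫ g) {M : X.Modules} {N : X'.Modules}
    (m : M ⟶ (Scheme.Modules.pushforward g₁).obj N) (x : Γ(M, ⊤)) :
    (show Γ(castMod hX' N, ⊤) from (castMap hX hX' hg m).app ⊤ (ctop hX M x)) =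
      ctop hX' N (show Γ(N, ⊤) from m.app ⊤ x) := by
  subst hX hX'
  obtain rfl : g₁ = g := by simpa using hg
  rw [castMap_rfl_self]
  rfl

end Cast

variable {S : Scheme.{u}} {𝒳 : BasedCategory.{v, w} (Over S)} {𝒴 : BasedCategory.{v', w'} (Over S)}
  (f : 𝒴 ⥤ᵇ 𝒳)

/-- Global sections of the inverse image. -/
noncomputable def ct (F : Mod 𝒳) (y : 𝒴.obj) : Γ(F.obj (f.obj y), ⊤) ≃+ Γ((Mod.comap f F).obj y, ⊤) :=
  ctop (sch_obj_eq f y) (F.obj (f.obj y))

theorem ct_smul (F : Mod 𝒳) (y : 𝒴.obj) (r : Γ(sch 𝒳 (f.obj y), ⊤)) (x : Γ(F.obj (f.obj y), ⊤)) :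
    ct f F y (r • x) = (eqToHom (sch_obj_eq f y).symm : sch 𝒴 y ⟶ sch 𝒳 (f.obj y)).appTop r • ct f F y x :=
  ctop_smul _ _ r x

theorem ct_mapTop (F : Mod 𝒳) {y' y : 𝒴.obj} (φ : y' ⟶ y) (x : Γ(F.obj (f.obj y), ⊤)) :
    (Mod.comap f F).mapTop φ (ct f F y x) = ct f F y' (F.mapTop (f.map φ) x) :=
  ctop_castMap _ _ (bmap_map_comm f φ rfl) (F.map (f.map φ) rfl) x

theorem ct_app {F G : Mod 𝒳} (u : F ⟶ G) (y : 𝒴.obj) (x : Γ(F.obj (f.obj y), ⊤)) :
    ((Mod.comapMap f u).app y).app ⊤ (ct f F y x) = ct f G y ((u.app (f.obj y)).app ⊤ x) :=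
  ctop_castHom _ (u.app (f.obj y)) x

theorem ct_symm_mapTop (F : Mod 𝒳) {y' y : 𝒴.obj} (φ : y' ⟶ y) (x : Γ((Mod.comap f F).obj y, ⊤)) :
    (ct f F y').symm ((Mod.comap f F).mapTop φ x) = F.mapTop (f.map φ) ((ct f F y).symm x) := by
  rw [AddEquiv.symm_apply_eq, ← ct_mapTop, AddEquiv.apply_symm_apply]

/-- The ring isomorphism between the functions on the two schemes. -/
theorem appTop_bijective (y : 𝒴.obj) :
    Function.Bijective (eqToHom (sch_obj_eq f y).symm : sch 𝒴 y ⟶ sch 𝒳 (f.obj y)).appTop.hom :=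
  ConcreteCategory.bijective_of_isIso (eqToHom (sch_obj_eq f y).symm : sch 𝒴 y ⟶ sch 𝒳 (f.obj y)).appTop

/-- Inverse image preserves surjections. -/
theorem isSurj_comapMap {F G : Mod 𝒳} (u : F ⟶ G) (h : Mod.IsSurj u) : Mod.IsSurj (Mod.comapMap f u) := by
  intro y hy z
  have hy' : IsAffine (sch 𝒳 (f.obj y)) := by rw [sch_obj_eq]; exact hy
  obtain ⟨x, hx⟩ := h (f.obj y) hy' ((ct f G y).symm z)
  refine ⟨ct f F y x, ?_⟩
  rw [ct_app, hx, AddEquiv.apply_symm_apply]

end K908.Comap
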