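import Groth.Agent.StMod.K908.QuotUnit

/-!
# Invariant functions on `Spec B` are functions on `Spec` of the ring of invariants
-/

set_option autoImplicit false
set_option linter.unusedVariables false
set_option linter.style.haveILetI false
set_option backward.isDefEq.respectTransparency false
set_option backward.isDefEq.respectTransparency.types false
set_option linter.dupNamespace false
set_option linter.unusedSectionVars false

universe u

open CategoryTheory CategoryTheory.Limits MonoidalCategory CartesianMonoidalCategory MonObj AlgebraicGeometry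
open Groth.Agent.CohqA.BaseChangeMod CoactBr AlgSt StMod K750.TorsPts
open scoped TensorProduct

namespace K908.QuotUnit

open K951.Pts K908.HopfBC K908.HopfDat K908.QuotAff K908.QuotPt K908.AMod K908.Desc K908.QHom K908.QSec K908.Dense
open K907.Sec K908.QuotQ K908.QuotSec

attribute [local instance] K951.Pts.algΓ

variable (R A B : Type u) [CommRing R] [CommRing A] [HopfAlgebra R A] [Module.Flat R A]
  [CommRing B] [Algebra R B] [HopfRep.Comod R A B] [GLin.IsCoactAlg R A B]

theorem fn_id (b : B) : fn (𝟙 (sp R B)) b = (Scheme.ΓSpecIso (CommRingCat.of B)).inv.hom b := by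
  change (𝟙 (sp R B) : sp R B ⟶ sp R B).left.appTop.hom ((Scheme.ΓSpecIso (CommRingCat.of B)).inv.hom b) = _
  rw [Over.id_left, Scheme.Hom.id_appTop]
  rfl

theorem fn_id_bijective : Function.Bijective (fn (𝟙 (sp R B)) : B → Γ((sp R B).left, ⊤)) := by
  have h : (fn (𝟙 (sp R B)) : B → Γ((sp R B).left, ⊤)) = (Scheme.ΓSpecIso (CommRingCat.of B)).inv.hom :=
    funext (fn_id R B)
  rw [h]
  exact ConcreteCategory.bijective_of_isIso (Scheme.ΓSpecIso (CommRingCat.of B)).inv

theorem inv_invariants : Inv (R := R) (A := A) (B := B) (pt (GLin.invariants R A B).val) := by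
  constructor
  · intro c c' h
    obtain ⟨c, rfl⟩ := (fn_id_bijective R ↥(GLin.invariants R A B)).2 c
    obtain ⟨c', rfl⟩ := (fn_id_bijective R ↥(GLin.invariants R A B)).2 c'
    rw [← fn_comp, ← fn_comp, Category.comp_id, ← Category.id_comp (pt (GLin.invariants R A B).val), fn_comp_pt] at h
    have h1 := (fn_id_bijective R B).1 h
    rw [Subtype.ext h1]
  · intro x hx
    obtain ⟨b, rfl⟩ := (fn_id_bijective R B).2 x
    have hb : HopfRep.Comod.coact (k := R) (A := A) b = b ⊗ₜ[R] (1 : A) := by
      have hT : IsAffine (sp R B).left := inferInstanceAs (IsAffine (Spec (CommRingCat.of B)))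
      let j : Γ((sp R B).left, ⊤) →+ Γ((sp R B ⊗ sp R A).left, ⊤) := (fst (sp R B) (sp R A)).left.appTop.hom.toAddMonoidHom
      have hj : RLin R Γ((sp R B ⊗ sp R A).left, ⊤) j := by
        intro r m
        change gal (fst (sp R B) (sp R A)) (r • m) = _
        rw [map_smul, Algebra.smul_def]
        rfl
      have hbij := bijective_ten (R := R) (A := A) j (isBC_self (fst (sp R B) (sp R A)).left.appTop.hom) hj
      let e : B →ₗ[R] Γ((sp R B).left, ⊤) := (fn (𝟙 (sp R B))).toLinearMap
      have he : Function.Bijective e := fn_id_bijective R B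
      have h6 : Function.Injective (e.rTensor A) := ((LinearEquiv.ofBijective e he).rTensor A).injective
      apply h6
      apply hbij.1
      have h7 : ∀ z : B ⊗[R] A, ten (fn (snd (sp R B) (sp R A))) j hj (e.rTensor A z) =
          (Algebra.TensorProduct.lift (fn (fst (sp R B) (sp R A))) (fn (snd (sp R B) (sp R A)))
            fun _ _ => .all _ _ : B ⊗[R] A →ₐ[R] Γ((sp R B ⊗ sp R A).left, ⊤)) z := by
        intro z
        induction z with
        | zero => rw [map_zero, map_zero, map_zero]
        | add x y hx hy => rw [map_add, map_add, map_add, hx, hy]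
        | tmul b a =>
          rw [LinearMap.rTensor_tmul, ten_tmul, Algebra.TensorProduct.lift_tmul, mul_comm]
          change fn (snd (sp R B) (sp R A)) a * (fst (sp R B) (sp R A)).left.appTop.hom (fn (𝟙 (sp R B)) b) = _
          rw [← fn_comp, Category.comp_id]
      rw [h7, h7, Algebra.TensorProduct.lift_tmul, map_one, _root_.mul_one]
      rw [← fn_comp, ← fn_comp, Category.comp_id, Category.comp_id] at hx
      refine Eq.trans ?_ hx
      have h8 := fn_ract (fst (sp R B) (sp R A)) (snd (sp R B) (sp R A))
      rw [lift_fst_snd, Category.id_comp] at h8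
      rw [h8]
      rfl
    refine ⟨fn (𝟙 (sp R ↥(GLin.invariants R A B))) ⟨b, hb⟩, ?_⟩
    rw [← fn_comp, Category.comp_id, ← Category.id_comp (pt (GLin.invariants R A B).val), fn_comp_pt]
    rfl

end K908.QuotUnit
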