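import Groth.Agent.StMod.K908.QuotPt
import Groth.Agent.AlgSt.K736.FinDiag
import Groth.Agent.AlgSt.K742.QC2
import Groth.Agent.AlgSp.K636.NormLocal
import Groth.Agent.AlgSt.K740.SpDM
import Groth.Agent.S10519
import Groth.Agent.S10520

/-!
# A functor `[X/G] ⟶ Y` is quasi-compact and quasi-separated when `X ⟶ Y` is (`G` affine flat of finite presentation)
-/

set_option autoImplicit false
set_option linter.unusedVariables false
set_option linter.style.haveILetI false
set_option backward.isDefEq.respectTransparency false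
set_option backward.isDefEq.respectTransparency.types false
set_option linter.dupNamespace false
set_option linter.unusedSectionVars false

universe u

open CategoryTheory CategoryTheory.Limits MonoidalCategory CartesianMonoidalCategory AlgebraicGeometry
open StMod AlgSt

namespace K908.QuotQc

open K735.Fib K739.Rep K739.DiagComp K739.Props

variable {S : Scheme.{u}}

/-- A morphism of schemes as a functor. -/
theorem repByAlgSpWith_ofSpMap {Q : MorphismProperty (AlgSp.Sp S)} [Q.RespectsIso] (hQ : BC Q) {U V : Over S}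
    (f : U ⟶ V) (h : Q ((AlgSp.yon S).map f)) : AlgSt.RepByAlgSpWith Q (AlgSt.ofSpMap ((AlgSp.yon S).map f)) := by
  rw [K735.SpFp.repByAlgSpWith_ofSpMap_iff]
  intro T P g fst snd sq
  have hP : AlgSp.IsAlgSpace P :=
    (K613.Chart.isAlgSpace_pullback (AlgSp.IsAlgSpace.yon_obj T) (AlgSp.IsAlgSpace.yon_obj U)
      (AlgSp.IsAlgSpace.yon_obj _) g _).of_iso sq.isoPullback.symm
  exact ⟨hP, hQ (AlgSp.IsAlgSpace.yon_obj U) (AlgSp.IsAlgSpace.yon_obj _) hP (AlgSp.IsAlgSpace.yon_obj T) _ g fst snd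
    sq.flip h⟩

theorem loc_qcqs : AlgSp.IsLocalOnBase AlgSp.IsFppfCover (Qcqs S) := by
  have h1 := isLocalOnBase_fppf_of_fpqc (Groth.Agent.S10519.result S)
  have h2 := isLocalOnBase_fppf_of_fpqc (Groth.Agent.S10520.result S)
  intro ι Y Yi g hY hYi hg X f hX Xi fi gi hXi sq
  have e1 := h1 Yi g hY hYi hg f hX Xi fi gi hXi sq
  have e2 := h2 Yi g hY hYi hg f hX Xi fi gi hXi sq
  constructor
  · intro h i
    exact ⟨e1.1 h.1 i, e2.1 h.2 i⟩
  · intro h
    exact ⟨e1.2 fun i => (h i).1, e2.2 fun i => (h i).2⟩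

theorem qcqs_yon {U V : Over S} (f : U ⟶ V) (h1 : QuasiCompact f.left) (h2 : IsSeparated f.left) :
    Qcqs S ((AlgSp.yon S).map f) := by
  refine ⟨K596.QC.isQuasiCompactMor_of_repWith ((AlgSp.repWith_yon_map_iff _ _).2 h1), ?_⟩
  exact K636.NormLocal.isQuasiSeparatedMor_of_sep ((AlgSp.isSeparatedMor_yon_map_iff f).2 h2)

variable {G X : Over S} [GrpObj G] {aX : AlgGrp.Action G X} [IsAffineHom G.hom] [Flat G.hom]
  [LocallyOfFinitePresentation G.hom]

/-- The chart `X ⟶ [X/G]` is flat, locally of finite presentation, surjective, quasi-compact and separated. -/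
theorem chart_props :
    AlgSt.RepByAlgSpWith (AlgSp.LocP @Flat) (K744.QuotFp.chart Scheme.fppfPrecoverage G aX) ∧
    AlgSt.RepByAlgSpWith (AlgSp.LocP @LocallyOfFinitePresentation) (K744.QuotFp.chart Scheme.fppfPrecoverage G aX) ∧
    AlgSt.RepByAlgSpWith AlgSp.IsSurjectiveMor (K744.QuotFp.chart Scheme.fppfPrecoverage G aX) ∧
    AlgSt.RepByAlgSpWith (Qcqs S) (K744.QuotFp.chart Scheme.fppfPrecoverage G aX) := by
  refine ⟨K744.TorsProp.repByAlgSpWith_chart _ fun A => K744.TorsProp.locP_yon _ K597.etLoc_flat _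
      (K744.TorsProp.flat_of_torsor A),
    K744.TorsProp.repByAlgSpWith_chart _ fun A => K744.TorsProp.locP_yon _ K597.etLoc_lfp _
      (K744.TorsProp.lfp_of_torsor A),
    K744.TorsProp.repByAlgSpWith_chart _ fun A => K744.TorsProp.surj_yon _ (K744.TorsProp.surjective_of_torsor A),
    K744.TorsProp.repByAlgSpWith_chart _ fun A => ?_⟩
  have := K744.TorsProp.isAffineHom_of_torsor A
  exact qcqs_yon _ inferInstance inferInstance

variable {Y : Over S} (ρ : QuotSt Scheme.fppfPrecoverage G aX ⥤ᵇ ofSch Y) (p : X ⟶ Y)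
  (hρ : BasedFunctor.comp (quotMap Scheme.fppfPrecoverage G aX) ρ = ofSpMap ((AlgSp.yon S).map p))

include hρ in
theorem isQuasiSeparatedMor (h𝒳 : IsAlgStack Scheme.fppfPrecoverage (QuotSt Scheme.fppfPrecoverage G aX))
    (hp : IsSeparated p.left) : IsQuasiSeparatedMor ρ := by
  have h𝒴 : IsAlgStack Scheme.fppfPrecoverage (ofSch Y) := K740.SpDM.isAlgStack_ofSp (AlgSp.IsAlgSpace.yon_obj Y)
  obtain ⟨c1, c2, c3, c4⟩ := chart_props (S := S) (G := G) (X := X) (aX := aX)
  refine K739.ChartDiag.repByAlgSpWith_diag_of_chart bc_qcqs comp_qcqs loc_qcqs (K735.Fp.isFibGrpd_overCat X)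
    h𝒳.isStack.1 h𝒴.isStack.1 (K744.QuotFp.chart Scheme.fppfPrecoverage G aX) ρ
    (K739.Alg.repByAlgSp1_diag_of_isAlgStack h𝒳 h𝒴 ρ) c1 c2 c3 c4 ?_
  have h1 : AlgSt.RepByAlgSpWith AlgSp.IsSeparatedMor (ofSpMap ((AlgSp.yon S).map p)) :=
    repByAlgSpWith_ofSpMap bc_sep p ((AlgSp.isSeparatedMor_yon_map_iff p).2 hp)
  have h2 : AlgSt.RepByAlgSpWith AlgSp.IsSeparatedMor
      (BasedFunctor.comp (K744.QuotFp.chart Scheme.fppfPrecoverage G aX) ρ) := by
    have e : BasedFunctor.comp (K744.QuotFp.chart Scheme.fppfPrecoverage G aX) ρ =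
        BasedFunctor.comp (ofOverCat X) (ofSpMap ((AlgSp.yon S).map p)) := by
      rw [← hρ]
      rfl
    rw [e]
    exact (K740.Inertia.repByAlgSpWith_iff_of_equiv (F := BasedFunctor.comp (ofOverCat X) (ofSpMap ((AlgSp.yon S).map p)))
      (G := ofSpMap ((AlgSp.yon S).map p)) (a := ofOverCat X) (b := BasedFunctor.id _)
      (K735.Rep.isEquivOver_ofOverCat X) K735.Fib.isEquivOver_id (Iso.refl _)).2 h1
  refine K738.repByAlgSpWith_diag h2 ?_
  intro F T V π i fst g hπ sq hi
  have h3 := (AlgSp.repWith_isStableUnderBaseChange (S := S) @IsClosedImmersion).of_isPullback sq hπ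
  have h4 : IsClosedImmersion i.left := (AlgSp.repWith_yon_map_iff _ _).1 h3
  exact qcqs_yon _ inferInstance inferInstance

include hρ in
theorem isQuasiCompactMor (h𝒳 : IsAlgStack Scheme.fppfPrecoverage (QuotSt Scheme.fppfPrecoverage G aX))
    (hp : QuasiCompact p.left) : IsQuasiCompactMor Scheme.fppfPrecoverage ρ := by
  have h𝒴 : IsAlgStack Scheme.fppfPrecoverage (ofSch Y) := K740.SpDM.isAlgStack_ofSp (AlgSp.IsAlgSpace.yon_obj Y)
  have hX : IsAlgStack Scheme.fppfPrecoverage (ofSch X) := K740.SpDM.isAlgStack_ofSp (AlgSp.IsAlgSpace.yon_obj X)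
  obtain ⟨c1, c2, c3, c4⟩ := chart_props (S := S) (G := G) (X := X) (aX := aX)
  have hX' := K742.QC.isAlgStack_overCat (S := S) X
  have e : BasedFunctor.comp (K744.QuotFp.chart Scheme.fppfPrecoverage G aX) ρ =
      BasedFunctor.comp (ofOverCat X) (ofSpMap ((AlgSp.yon S).map p)) := by
    rw [← hρ]
    rfl
  have h1 : IsQuasiCompactMor Scheme.fppfPrecoverage (BasedFunctor.comp (ofOverCat X) (ofSpMap ((AlgSp.yon S).map p))) := by
    refine K742.QC.isQuasiCompactMor_of_repByAlgSpWith hX' h𝒴 _ ?_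
    refine (K740.Inertia.repByAlgSpWith_iff_of_equiv (F := BasedFunctor.comp (ofOverCat X) (ofSpMap ((AlgSp.yon S).map p)))
      (G := ofSpMap ((AlgSp.yon S).map p)) (a := ofOverCat X) (b := BasedFunctor.id _)
      (K735.Rep.isEquivOver_ofOverCat X) K735.Fib.isEquivOver_id (Iso.refl _)).2 ?_
    have := K742.QC.isQuasiCompactMor_respectsIso (S := S)
    exact repByAlgSpWith_ofSpMap bc_qc p (K596.QC.isQuasiCompactMor_of_repWith ((AlgSp.repWith_yon_map_iff _ _).2 hp))
  exact K742.QC.isQuasiCompactMor_of_isSurjective_of_triangle hX' h𝒳 h𝒴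
    (K744.QuotFp.chart Scheme.fppfPrecoverage G aX) _ ρ (Iso.refl _)
    (K742.QC.isSurjective_of_repByAlgSpWith hX' h𝒳 c3) (by rw [e]; exact h1)

end K908.QuotQc
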