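import Groth.Agent.StMod.K908.QuotSec
import Groth.Agent.StMod.K906.SpGeo

/-!
# Cohomological affineness of `[Spec B / G] ⟶ Y` and exactness of invariants
-/

set_option autoImplicit false
set_option linter.unusedVariables false
set_option linter.style.haveILetI false
set_option backward.isDefEq.respectTransparency false
set_option backward.isDefEq.respectTransparency.types false
set_option linter.dupNamespace false
set_option linter.unusedSectionVars false

universe u

open CategoryTheory CategoryTheory.Limits MonoidalCategory CartesianMonoidalCategory MonObj AlgebraicGeometry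
open Groth.Agent.CohqA.BaseChangeMod CoactBr AlgSt StMod K750.TorsPts
open scoped TensorProduct

namespace K908.QuotCoh

open K951.Pts K908.HopfBC K908.HopfDat K908.QuotAff K908.QuotPt K908.AMod K908.Desc K908.QHom K908.QSec K908.Dense
open K907.Sec K908.QuotQ K908.QuotSec

attribute [local instance] K951.Pts.algΓ

set_option maxHeartbeats 1000000

variable {R A B : Type u} [CommRing R] [CommRing A] [HopfAlgebra R A] [Module.Flat R A]
  [CommRing B] [Algebra R B] [HopfRep.Comod R A B] [GLin.IsCoactAlg R A B]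
  {Y : Over (Spec (CommRingCat.of R))} (ρ : QX R A B ⥤ᵇ AlgSt.ofSch Y) (p : sp R B ⟶ Y)
  (hρ : BasedFunctor.comp (AlgSt.quotMap Scheme.fppfPrecoverage (sp R A) (action R A B)) ρ =
    AlgSt.ofSpMap ((AlgSp.yon (Spec (CommRingCat.of R))).map p))

variable (R A B) in
/-- Exactness of invariants. -/
def Exact : Prop :=
  ∀ (M N : Type u) [AddCommGroup M] [Module R M] [Module B M] [IsScalarTower R B M]
        [HopfRep.Comod R A M] [TameAct.IsHopfMod R A B M]
        [AddCommGroup N] [Module R N] [Module B N] [IsScalarTower R B N]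
        [HopfRep.Comod R A N] [TameAct.IsHopfMod R A B N] (f : M →ₗ[B] N),
        Hoch.IsComodHom A (f.restrictScalars R) → Function.Surjective f →
          ∀ n ∈ HopfRep.fixedPts R A N, ∃ m ∈ HopfRep.fixedPts R A M, f m = n

section Dat

variable {W : Over (Spec (CommRingCat.of R))} {xW : W ⟶ sp R B} (D : WAct A xW) (hW : IsAffine W.left)
  (F F' : QCoh (QX R A B))

theorem isHopfMod :
    letI := (cdat D hW F).comod
    TameAct.IsHopfMod R A B (HM F xW) :=
  (cdat D hW F).isHopfMod (fn (x1 (A := A) xW))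
    (fun b m => by
      change rs F _ _ (aP xW) (fn xW b • m) = _
      rw [rs_smul, ← AlgHom.comp_apply, gal_fn]
      rfl)
    (fun b m => by
      change rs F _ _ (aQ D) (fn xW b • m) = _
      rw [rs_smul, ← AlgHom.comp_apply, gal_fn]
      change _ = pact (fn (fst W (sp R A) ≫ xW)) (fn (snd W (sp R A))) b • _
      rw [pact_x]
      rfl)

variable {F F'}

/-- A morphism of quasi-coherent modules on sections over the object of a point. -/
noncomputable def homH (u : F ⟶ F') {V : Over (Spec (CommRingCat.of R))} (x : V ⟶ sp R B) : HM F x →ₗ[B] HM F' x where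
  toFun m := (u.hom.app (tx (action R A B) x)).app ⊤ m
  map_add' m m' := map_add ((u.hom.app (tx (action R A B) x)).app ⊤).hom m m'
  map_smul' b m := Scheme.Modules.Hom.app_smul (u.hom.app (tx (action R A B) x)) (fn x b) m

theorem homH_apply (u : F ⟶ F') {V : Over (Spec (CommRingCat.of R))} (x : V ⟶ sp R B) (m : HM F x) :
    homH u x m = (u.hom.app (tx (action R A B) x)).app ⊤ m := rfl

theorem homH_smul (u : F ⟶ F') {V : Over (Spec (CommRingCat.of R))} (x : V ⟶ sp R B) (c : Γ(V.left, ⊤)) (m : HM F x) :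
    homH u x (c • m) = c • homH u x m :=
  Scheme.Modules.Hom.app_smul (u.hom.app (tx (action R A B) x)) c m

theorem isComodHom (u : F ⟶ F') :
    letI := (cdat D hW F).comod
    letI := (cdat D hW F').comod
    Hoch.IsComodHom A ((homH u xW).restrictScalars R) :=
  (cdat D hW F).isComodHom (cdat D hW F') rfl ((homH u xW).restrictScalars R)
    (homH u (x1 (A := A) xW)).toAddMonoidHom
    (fun c x => homH_smul u _ c x)
    (fun m => (Mod.mapTop_app u.hom (aP xW) m).symm)
    (fun m => (Mod.mapTop_app u.hom (aQ D) m).symm)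

end Dat

include hρ in
/-- Surjectivity on sections of the pushforward over an affine scheme from exactness of invariants. -/
theorem surjective_of_exact (hex : Exact R A B) (yy : (AlgSt.ofSch Y).obj) {W : Over (Spec (CommRingCat.of R))}
    {xW : W ⟶ sp R B} {eW : W ⟶ yy.base} (sq : IsPullback xW eW p yy.sec.down) (hW : IsAffine W.left)
    {F F' : QCoh (QX R A B)} (u : F ⟶ F') (hu : Mod.IsSurj u.hom) :
    Function.Surjective (Mod.relSectMap ρ u.hom yy) := by
  obtain ⟨D, hD⟩ := exists_wact ρ p hρ sq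
  obtain ⟨αz, hαz⟩ := exists_al ρ p hρ xW yy eW sq.w.symm
  intro t'
  letI := (cdat D hW F).comod
  letI := (cdat D hW F').comod
  have := isHopfMod D hW F
  have := isHopfMod D hW F'
  let n : HM F' xW := t'.1 (tx (action R A B) xW) αz
  have hn : n ∈ HopfRep.fixedPts R A (HM F' xW) :=
    ((cdat D hW F').mem_fixedPts n).2 (sec_inv ρ D hD αz hαz F' t')
  obtain ⟨m, hm, hmn⟩ := hex (HM F xW) (HM F' xW) (homH u xW) (isComodHom D hW u)
    (hu (tx (action R A B) xW) hW) n hn
  obtain ⟨t, ht⟩ := exists_sec ρ p hρ sq D hD αz hαz F m (((cdat D hW F).mem_fixedPts m).1 hm)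
  refine ⟨t, ?_⟩
  apply sec_inj ρ p hρ sq αz hαz F'
  change (u.hom.app (tx (action R A B) xW)).app ⊤ (t.1 (tx (action R A B) xW) αz) = n
  rw [ht]
  exact hmn

include hρ in
theorem isCohAffine_of_exact [IsAffine Y.left] (hex : Exact R A B) : StMod.IsCohAffine ρ := by
  intro F F' u hu E hE
  let yy : (AlgSt.ofSch Y).obj := etaOf E
  have sq : IsPullback (pullback.fst p yy.sec.down) (pullback.snd p yy.sec.down) p yy.sec.down :=
    IsPullback.of_hasPullback _ _
  have h0 : IsAffine (sp R B).left := inferInstanceAs (IsAffine (Spec (CommRingCat.of B)))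
  have h1 : IsAffine yy.base.left := hE
  have hW : IsAffine (pullback p yy.sec.down).left :=
    K907.Sec.isAffine_of_isPullback (K744.TorsProp.isPullback_left sq)
  exact surjective_of_exact ρ p hρ hex yy sq hW u hu

/-- The identity as an object of the small etale site. -/
noncomputable def idE (Y : Over (Spec (CommRingCat.of R))) : AlgSp.EtOver ((AlgSp.yon (Spec (CommRingCat.of R))).obj Y) :=
  AlgSp.EtOver.mk (𝟙 _) (AlgSp.repWith_id _ Y)

theorem sec_idE (Y : Over (Spec (CommRingCat.of R))) : (etaOf (idE Y)).sec.down = 𝟙 Y := by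
  rfl

include hρ in
theorem exact_of_isCohAffine [IsAffine Y.left] (h : StMod.IsCohAffine ρ) : Exact R A B := by
  intro M N _ _ _ _ _ _ _ _ _ _ _ _ f hf hs n hn
  obtain ⟨u, hu, hus⟩ := exists_map (R := R) (A := A) (B := B) f hf
  have h0 : IsAffine (sp R B).left := inferInstanceAs (IsAffine (Spec (CommRingCat.of B)))
  let yy : (AlgSt.ofSch Y).obj := etaOf (idE Y)
  have hY : IsAffine (idE Y).obj.left.left := ‹IsAffine Y.left›
  have hsurj := h u (hus hs) (idE Y) hY
  -- the section of `N`
  obtain ⟨s, hs1, hs2⟩ := exists_fixed (R := R) (A := A) (B := B) N n hn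
  obtain ⟨t, ht⟩ := exists_relSect (dense_cov R A B) ρ (QM N) yy (fun ζ _ => s ζ) (fun ζ' ζ φ _ => hs1 φ)
  obtain ⟨t', ht'⟩ := hsurj t
  obtain ⟨α, hα⟩ := exists_al ρ p hρ (𝟙 (sp R B)) yy p ((Category.comp_id p).trans (Category.id_comp p).symm)
  -- the value at the universal object
  let v : HM (QM (R := R) (A := A) (B := B) M) (𝟙 (sp R B)) := t'.1 (tx (action R A B) (𝟙 (sp R B))) α
  have hbij : ∀ (M : Type u) [AddCommGroup M] [Module R M] [Module B M] [IsScalarTower R B M]
      [HopfRep.Comod R A M] [TameAct.IsHopfMod R A B M], Function.Bijective (EM (A := A) M h0 (𝟙 (sp R B))) := by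
    intro M _ _ _ _ _ _
    refine K908.BC.bijective_of_bijective ?_ (isBC_EM (A := A) M h0 (𝟙 (sp R B)))
    have h2 : (fn (𝟙 (sp R B)) : B →+* Γ((sp R B).left, ⊤)) = (Scheme.ΓSpecIso (CommRingCat.of B)).inv.hom := by
      ext b
      change (𝟙 (sp R B) : sp R B ⟶ sp R B).left.appTop.hom ((Scheme.ΓSpecIso (CommRingCat.of B)).inv.hom b) = _
      rw [Over.id_left, Scheme.Hom.id_appTop]
      rfl
    rw [h2]
    exact ConcreteCategory.bijective_of_isIso (Scheme.ΓSpecIso (CommRingCat.of B)).inv
  obtain ⟨m, hm⟩ := (hbij M).2 v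
  refine ⟨m, ?_, ?_⟩
  · -- invariance
    let X1 : sp R B ⊗ sp R A ⟶ sp R B := fst (sp R B) (sp R A)
    have h1 : IsAffine (sp R B ⊗ sp R A).left := isAffine_prod h0
    let cp : tx (action R A B) X1 ⟶ tx (action R A B) (𝟙 (sp R B)) :=
      ar X1 (𝟙 (sp R B)) (fst (sp R B) (sp R A)) 1 (by rw [act_one, Category.comp_id])
    let cq : tx (action R A B) X1 ⟶ tx (action R A B) (𝟙 (sp R B)) :=
      ar X1 (𝟙 (sp R B)) (ract R A B) (snd (sp R B) (sp R A)) (by
        have h2 : lift (lift (fst (sp R B) (sp R A)) (snd (sp R B) (sp R A)) ≫ ract R A B)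
            (snd (sp R B) (sp R A))⁻¹ ≫ ract R A B = fst (sp R B) (sp R A) := by
          rw [lift_ract_ract, mul_inv_cancel, lift_one_ract]
        rw [lift_fst_snd, Category.id_comp] at h2
        rw [Category.comp_id, act_eq_ract, h2])
    have e1 : (QM (R := R) (A := A) (B := B) M).obj.mapTop cp v = (QM M).obj.mapTop cq v := by
      refine (t'.2 cp α).trans (Eq.trans ?_ (t'.2 cq α).symm)
      refine congrArg (t'.1 (tx (action R A B) X1)) ?_
      apply hom_ext_base
      rw [← map_comp_baseOver, ← map_comp_baseOver, hα]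
      have h3 : ract R A B = act (action R A B) (snd (sp R B) (sp R A))⁻¹ (fst (sp R B) (sp R A)) := by
        rw [act_eq_ract, inv_inv, lift_fst_snd, Category.id_comp]
      change fst (sp R B) (sp R A) ≫ p = ract R A B ≫ p
      rw [h3, p_inv ρ p hρ]
    have e2 : (QM (R := R) (A := A) (B := B) M).obj.mapTop cp v = EM (A := A) M h1 X1 m := by
      rw [← hm]
      refine (mapTop_EM (A := A) M h1 h0 X1 (𝟙 (sp R B)) _ 1 _ m).trans ?_
      refine (tw_congr _ (rlin_EM M h1 X1) fn_one rfl m).trans (tw_one _ _ _)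
    have e3 : (QM (R := R) (A := A) (B := B) M).obj.mapTop cq v =
        tw (fn (snd (sp R B) (sp R A))) (EM (A := A) M h1 X1) (rlin_EM M h1 X1) m := by
      rw [← hm]
      exact mapTop_EM (A := A) M h1 h0 X1 (𝟙 (sp R B)) _ _ _ m
    have hinj : Function.Injective (ten (fn (snd (sp R B) (sp R A))) (EM (A := A) M h1 X1) (rlin_EM M h1 X1)) := by
      have hb := bij_rs (QM (R := R) (A := A) (B := B) M) h0 X1 cp rfl
      let L : M →ₗ[R] HM (QM (R := R) (A := A) (B := B) M) (𝟙 (sp R B)) :=
        { EM (A := A) M h0 (𝟙 (sp R B)) with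
          map_smul' := fun r m => by
            exact (rlin_EM (A := A) M h0 (𝟙 (sp R B)) r m) }
      have hL : Function.Bijective L := hbij M
      have h5 : ∀ z : M ⊗[R] A, ten (fn (snd (sp R B) (sp R A))) (EM (A := A) M h1 X1) (rlin_EM M h1 X1) z =
          ten (fn (snd (sp R B) (sp R A))) (rs (QM (R := R) (A := A) (B := B) M) _ X1 cp) (rs_rlin _ cp) (L.rTensor A z) := by
        intro z
        induction z with
        | zero => simp
        | add x y hx hy => rw [map_add, map_add, map_add, hx, hy]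
        | tmul m a =>
          rw [LinearMap.rTensor_tmul, ten_tmul, ten_tmul]
          congr 1
          refine Eq.symm ((mapTop_EM (A := A) M h1 h0 X1 (𝟙 (sp R B)) _ 1 _ m).trans ?_)
          exact (tw_congr _ (rlin_EM M h1 X1) fn_one rfl m).trans (tw_one _ _ _)
      have h6 : Function.Injective (L.rTensor A) := ((LinearEquiv.ofBijective L hL).rTensor A).injective
      intro z z' hz
      rw [h5, h5] at hz
      exact h6 (hb.1 hz)
    have e4 : tw (fn (snd (sp R B) (sp R A))) (EM (A := A) M h1 X1) (rlin_EM M h1 X1) m =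
        EM (A := A) M h1 X1 m := by rw [← e3, ← e1, e2]
    apply hinj
    rw [ten_tmul, map_one, one_smul]
    exact e4
  · apply (hbij N).1
    have h2 := hu h0 (𝟙 (sp R B)) m
    rw [← h2, hm]
    have h3 : (u.hom.app (tx (action R A B) (𝟙 (sp R B)))).app ⊤ v = t.1 (tx (action R A B) (𝟙 (sp R B))) α := by
      rw [← ht']
      rfl
    rw [h3]
    have h4 := ht (zx (A := A) h0 (𝟙 (sp R B))) α
    refine h4.trans ?_
    exact hs2 h0 (𝟙 (sp R B))

end K908.QuotCoh
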