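import Groth.Agent.AlgSt.K734.Fib
import Groth.Agent.AlgSt.K734.Grpd
import Groth.Prelude.Def_AlgSt2

/-!
# Functors over `(Sch/S)` to the base are unique
-/

set_option autoImplicit false
set_option linter.unusedVariables false
set_option backward.isDefEq.respectTransparency false
set_option backward.isDefEq.respectTransparency.types false

universe v' w' v w u

open CategoryTheory CategoryTheory.Limits AlgebraicGeometry Opposite TopologicalSpace
open K734.Fib

namespace K908.ToBase

variable {S : Scheme.{u}} {𝒵 : BasedCategory.{v, w} (Over S)}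

theorem obj_ext {a b : (AlgSt.ofSch (Over.mk (𝟙 S))).obj} (h : a.base = b.base) : a = b := by
  obtain ⟨A, ⟨s⟩⟩ := a
  obtain ⟨B, ⟨t⟩⟩ := b
  change A = B at h
  subst h
  have : s = t := Over.OverMorphism.ext (by
    have h1 : s.left ≫ 𝟙 S = A.hom := Over.w s
    have h2 : t.left ≫ 𝟙 S = A.hom := Over.w t
    exact (Category.comp_id _).symm.trans ((h1.trans h2.symm).trans (Category.comp_id _)))
  rw [this]

theorem hom_ext {a b : (AlgSt.ofSch (Over.mk (𝟙 S))).obj} {f g : a ⟶ b} (h : f.hom = g.hom) : f = g :=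
  Stk.EltObj.hom_ext h

theorem functor_eq (F G : 𝒵 ⥤ᵇ AlgSt.ofSch (Over.mk (𝟙 S))) : F = G := by
  have hobj : ∀ z, F.obj z = G.obj z := fun z => obj_ext ((F.w_obj z).trans (G.w_obj z).symm)
  have h : F.toFunctor = G.toFunctor := by
    refine CategoryTheory.Functor.ext hobj fun z z' f => ?_
    apply hom_ext
    have h1 : (F.map f).hom = eqToHom (F.w_obj z) ≫ 𝒵.p.map f ≫ eqToHom (F.w_obj z').symm := map_eq_base F f
    have h2 : (G.map f).hom = eqToHom (G.w_obj z) ≫ 𝒵.p.map f ≫ eqToHom (G.w_obj z').symm := map_eq_base G f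
    have h3 : ∀ {a b : (AlgSt.ofSch (Over.mk (𝟙 S))).obj} (e : a = b),
        (eqToHom e : a ⟶ b).hom = eqToHom (congrArg (fun c => c.base) e) := by
      rintro a _ rfl
      rfl
    rw [Stk.EltObj.comp_hom, Stk.EltObj.comp_hom, h3, h3, h1, h2]
    simp
  cases F
  cases G
  simp only at h
  subst h
  rfl

end K908.ToBase
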