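import Groth.Agent.StMod.K908.QHom

/-!
# Pushforward of quasi-coherent modules along a functor over `(Sch/S)`, in terms of `RelSect`

`IsPush p F E`: `E` is the pushforward of `F` along `p` (its global sections over affine objects are the sections of the
pushforward).  `exists_isPush`: existence, `IsPush.map`: functoriality, `IsPush.leray`: sections of the pushforward
along a composite.
-/

set_option autoImplicit false
set_option linter.unusedVariables false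
set_option linter.style.haveILetI false
set_option backward.isDefEq.respectTransparency false
set_option backward.isDefEq.respectTransparency.types false
set_option linter.dupNamespace false
set_option linter.unusedSectionVars false

universe v'' w'' v' w' v w u

open CategoryTheory CategoryTheory.Limits AlgebraicGeometry Opposite TopologicalSpace StMod
open Groth.Agent.CohqA.BaseChangeMod

namespace K908.Push

open K908.AMod K908.Fam K908.Ext K908.QSec K908.QHom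

variable {S : Scheme.{u}} {𝒳 : BasedCategory.{v, w} (Over S)} {𝒴 : BasedCategory.{v', w'} (Over S)}
  {𝒵 : BasedCategory.{v'', w''} (Over S)}

section Rel

variable (p : 𝒴 ⥤ᵇ 𝒳) (F : Mod 𝒴)

/-- Restriction of sections of the pushforward. -/
def relRes {ξ' ξ : 𝒳.obj} (φ : ξ' ⟶ ξ) : Mod.RelSect p F ξ →+ Mod.RelSect p F ξ' where
  toFun s := ⟨fun θ α => s.1 θ (α ≫ φ), fun θ' θ χ α => by
    refine (s.2 χ (α ≫ φ)).trans ?_
    exact congrArg (s.1 θ') (Category.assoc _ _ _).symm⟩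
  map_zero' := rfl
  map_add' _ _ := rfl

@[simp] theorem relRes_val {ξ' ξ : 𝒳.obj} (φ : ξ' ⟶ ξ) (s : Mod.RelSect p F ξ) (θ : 𝒴.obj)
    (α : p.obj θ ⟶ ξ') : (relRes p F φ s).1 θ α = s.1 θ (α ≫ φ) := rfl

theorem baseOver_appTop {ξ' ξ : 𝒳.obj} (φ : ξ' ⟶ ξ) (θ : 𝒴.obj) (α : p.obj θ ⟶ ξ') (r : Γ(sch 𝒳 ξ, ⊤)) :
    (baseOver p θ (α ≫ φ)).left.appTop r = (baseOver p θ α).left.appTop ((bmap 𝒳 φ).appTop r) := by
  rw [baseOver_comp, Over.comp_left, Scheme.Hom.comp_appTop]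
  rfl

theorem relRes_smul {ξ' ξ : 𝒳.obj} (φ : ξ' ⟶ ξ) (r : Γ(sch 𝒳 ξ, ⊤)) (s : Mod.RelSect p F ξ) :
    relRes p F φ (r • s) = (bmap 𝒳 φ).appTop r • relRes p F φ s := by
  apply Mod.RelSect.ext
  intro θ α
  rw [relRes_val, Mod.RelSect.smul_val, Mod.RelSect.smul_val, baseOver_appTop, relRes_val]

theorem relRes_id (ξ : 𝒳.obj) (s : Mod.RelSect p F ξ) : relRes p F (𝟙 ξ) s = s := by
  apply Mod.RelSect.ext
  intro θ α
  rw [relRes_val, Category.comp_id]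

theorem relRes_comp {ξ'' ξ' ξ : 𝒳.obj} (ψ : ξ'' ⟶ ξ') (φ : ξ' ⟶ ξ) (s : Mod.RelSect p F ξ) :
    relRes p F (ψ ≫ φ) s = relRes p F ψ (relRes p F φ s) := by
  apply Mod.RelSect.ext
  intro θ α
  rw [relRes_val, relRes_val, relRes_val, Category.assoc]

/-- `E` is the pushforward of `F` along `p`. -/
structure IsPush (E : Mod 𝒳) where
  ev : ∀ (ξ : 𝒳.obj) (_ : IsAffine (sch 𝒳 ξ)), Γ(E.obj ξ, ⊤) ≃ₗ[Γ(sch 𝒳 ξ, ⊤)] Mod.RelSect p F ξ
  comm : ∀ {ξ' ξ : 𝒳.obj} (φ : ξ' ⟶ ξ) (h' : IsAffine (sch 𝒳 ξ')) (h : IsAffine (sch 𝒳 ξ))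
    (x : Γ(E.obj ξ, ⊤)), ev ξ' h' (E.mapTop φ x) = relRes p F φ (ev ξ h x)

/-- Restriction of sections of the pushforward along `φ` is a base change (small form). -/
def RelBC {ξ' ξ : 𝒳.obj} (φ : ξ' ⟶ ξ) : Prop :=
  ∃ (M N : Type u) (_ : AddCommGroup M) (_ : Module Γ(sch 𝒳 ξ, ⊤) M) (_ : AddCommGroup N)
    (_ : Module Γ(sch 𝒳 ξ', ⊤) N) (e : M ≃ₗ[Γ(sch 𝒳 ξ, ⊤)] Mod.RelSect p F ξ)
    (e' : N ≃ₗ[Γ(sch 𝒳 ξ', ⊤)] Mod.RelSect p F ξ') (f : M →+ N),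
    (∀ x, e' (f x) = relRes p F φ (e x)) ∧ IsBC (bmap 𝒳 φ).appTop.hom f

end Rel

section Exists

variable (p : 𝒴 ⥤ᵇ 𝒳) (F : Mod 𝒴) (C : ASieve 𝒳)

/-- The pushforward as a family of modules on the objects of `C`. -/
noncomputable def pushA [hs : ∀ ξ : C.cat.obj, Small.{u} (Mod.RelSect p F ξ.obj)] : AMod C.cat where
  obj ξ := Shrink.{u} (Mod.RelSect p F ξ.obj)
  mod ξ := inferInstanceAs (Module Γ(sch 𝒳 ξ.obj, ⊤) (Shrink.{u} (Mod.RelSect p F ξ.obj)))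
  map {ξ' ξ} φ := ((Shrink.linearEquiv.{u} Γ(sch 𝒳 ξ'.obj, ⊤) (Mod.RelSect p F ξ'.obj)).symm.toAddEquiv.toAddMonoidHom.comp
    (relRes p F φ.hom)).comp (Shrink.linearEquiv.{u} Γ(sch 𝒳 ξ.obj, ⊤) (Mod.RelSect p F ξ.obj)).toAddEquiv.toAddMonoidHom
  map_smul {ξ' ξ} φ r x := by
    change (Shrink.linearEquiv.{u} Γ(sch 𝒳 ξ'.obj, ⊤) (Mod.RelSect p F ξ'.obj)).symm
      (relRes p F φ.hom (Shrink.linearEquiv.{u} Γ(sch 𝒳 ξ.obj, ⊤) (Mod.RelSect p F ξ.obj)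
        ((show Γ(sch 𝒳 ξ.obj, ⊤) from r) • x))) =
      (show Γ(sch 𝒳 ξ'.obj, ⊤) from (bmap 𝒳 φ.hom).appTop r) •
        (Shrink.linearEquiv.{u} Γ(sch 𝒳 ξ'.obj, ⊤) (Mod.RelSect p F ξ'.obj)).symm
        (relRes p F φ.hom (Shrink.linearEquiv.{u} Γ(sch 𝒳 ξ.obj, ⊤) (Mod.RelSect p F ξ.obj) x))
    rw [LinearEquiv.map_smul, relRes_smul, LinearEquiv.map_smul]
  map_id ξ x := by
    change (Shrink.linearEquiv.{u} Γ(sch 𝒳 ξ.obj, ⊤) (Mod.RelSect p F ξ.obj)).symm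
      (relRes p F (𝟙 ξ.obj) (Shrink.linearEquiv.{u} Γ(sch 𝒳 ξ.obj, ⊤) (Mod.RelSect p F ξ.obj) x)) = x
    rw [relRes_id, LinearEquiv.symm_apply_apply]
  map_comp {ξ'' ξ' ξ} ψ φ x := by
    change (Shrink.linearEquiv.{u} Γ(sch 𝒳 ξ''.obj, ⊤) (Mod.RelSect p F ξ''.obj)).symm
      (relRes p F (ψ.hom ≫ φ.hom) (Shrink.linearEquiv.{u} Γ(sch 𝒳 ξ.obj, ⊤) (Mod.RelSect p F ξ.obj) x)) =
      (Shrink.linearEquiv.{u} Γ(sch 𝒳 ξ''.obj, ⊤) (Mod.RelSect p F ξ''.obj)).symm (relRes p F ψ.hom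
        (Shrink.linearEquiv.{u} Γ(sch 𝒳 ξ'.obj, ⊤) (Mod.RelSect p F ξ'.obj)
        ((Shrink.linearEquiv.{u} Γ(sch 𝒳 ξ'.obj, ⊤) (Mod.RelSect p F ξ'.obj)).symm
        (relRes p F φ.hom (Shrink.linearEquiv.{u} Γ(sch 𝒳 ξ.obj, ⊤) (Mod.RelSect p F ξ.obj) x)))))
    rw [relRes_comp, LinearEquiv.apply_symm_apply]

/-- The identification of the small model. -/
noncomputable def pushAEquiv [hs : ∀ ξ : C.cat.obj, Small.{u} (Mod.RelSect p F ξ.obj)] (ξ : C.cat.obj) :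
    (pushA p F C).obj ξ ≃+ Mod.RelSect p F ξ.obj :=
  (Shrink.linearEquiv.{u} Γ(sch 𝒳 ξ.obj, ⊤) (Mod.RelSect p F ξ.obj)).toAddEquiv

theorem pushAEquiv_smul [hs : ∀ ξ : C.cat.obj, Small.{u} (Mod.RelSect p F ξ.obj)] (ξ : C.cat.obj)
    (r : Γ(sch C.cat ξ, ⊤)) (x : (pushA p F C).obj ξ) :
    pushAEquiv p F C ξ (r • x) = (show Γ(sch 𝒳 ξ.obj, ⊤) from r) • pushAEquiv p F C ξ x :=
  (Shrink.linearEquiv.{u} Γ(sch 𝒳 ξ.obj, ⊤) (Mod.RelSect p F ξ.obj)).map_smul (show Γ(sch 𝒳 ξ.obj, ⊤) from r) x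

theorem pushAEquiv_map [hs : ∀ ξ : C.cat.obj, Small.{u} (Mod.RelSect p F ξ.obj)] {ξ' ξ : C.cat.obj} (φ : ξ' ⟶ ξ)
    (x : (pushA p F C).obj ξ) :
    pushAEquiv p F C ξ' ((pushA p F C).map φ x) = relRes p F φ.hom (pushAEquiv p F C ξ x) :=
  (Shrink.linearEquiv.{u} Γ(sch 𝒳 ξ'.obj, ⊤) (Mod.RelSect p F ξ'.obj)).apply_symm_apply _

theorem pushA_isCart [hs : ∀ ξ : C.cat.obj, Small.{u} (Mod.RelSect p F ξ.obj)]
    (h : ∀ ⦃ξ' ξ : C.cat.obj⦄ (φ : ξ' ⟶ ξ), RelBC p F φ.hom) : (pushA p F C).IsCart := by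
  intro ξ' ξ φ
  obtain ⟨M, N, iM, iM', iN, iN', e, e', f, hf, hbc⟩ := h φ
  refine (Groth.Agent.CohqA.PullbackSections.isBC_congr_of_bijective
    (A := Γ(sch 𝒳 ξ.obj, ⊤)) (B := Γ(sch 𝒳 ξ'.obj, ⊤)) (φ := (bmap 𝒳 φ.hom).appTop.hom) (f := f)
    (A' := Γ(sch C.cat ξ, ⊤)) (B' := Γ(sch C.cat ξ', ⊤)) (φ' := (bmap C.cat φ).appTop.hom)
    (RingHom.id _) Function.bijective_id (RingHom.id _) Function.bijective_id
    (e.toAddEquiv.trans (pushAEquiv p F C ξ).symm).toAddMonoidHom (AddEquiv.bijective _) ?_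
    (e'.toAddEquiv.trans (pushAEquiv p F C ξ').symm).toAddMonoidHom (AddEquiv.bijective _) ?_ rfl ?_).1 hbc
  · intro r x
    apply (pushAEquiv p F C ξ).injective
    change pushAEquiv p F C ξ ((pushAEquiv p F C ξ).symm (e (r • x))) =
      pushAEquiv p F C ξ ((show Γ(sch C.cat ξ, ⊤) from r) • (pushAEquiv p F C ξ).symm (e x))
    refine ((AddEquiv.apply_symm_apply _ _).trans ?_).trans (pushAEquiv_smul p F C ξ _ _).symm
    rw [AddEquiv.apply_symm_apply, map_smul]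
  · intro r x
    apply (pushAEquiv p F C ξ').injective
    change pushAEquiv p F C ξ' ((pushAEquiv p F C ξ').symm (e' (r • x))) =
      pushAEquiv p F C ξ' ((show Γ(sch C.cat ξ', ⊤) from r) • (pushAEquiv p F C ξ').symm (e' x))
    refine ((AddEquiv.apply_symm_apply _ _).trans ?_).trans (pushAEquiv_smul p F C ξ' _ _).symm
    rw [AddEquiv.apply_symm_apply, map_smul]
  · ext x
    apply (pushAEquiv p F C ξ').injective
    change pushAEquiv p F C ξ' ((pushAEquiv p F C ξ').symm (e' (f x))) =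
      pushAEquiv p F C ξ' ((pushA p F C).map φ ((pushAEquiv p F C ξ).symm (e x)))
    rw [AddEquiv.apply_symm_apply, pushAEquiv_map, AddEquiv.apply_symm_apply, hf]

/-- Existence of the pushforward. -/
theorem exists_isPush [hX : FibCat.IsFibGrpd 𝒳.p]
    (h : ∀ ⦃ξ' ξ : 𝒳.obj⦄ (φ : ξ' ⟶ ξ), IsAffine (sch 𝒳 ξ') → IsAffine (sch 𝒳 ξ) → RelBC p F φ) :
    ∃ E : QCoh 𝒳, Nonempty (IsPush p F E.obj) := by
  let C := ASieve.all 𝒳
  have hs : ∀ ξ : C.cat.obj, Small.{u} (Mod.RelSect p F ξ.obj) := by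
    intro ξ
    obtain ⟨M, N, iM, iM', iN, iN', e, e', f, hf, hbc⟩ := h (𝟙 ξ.obj) (C.aff ξ.property) (C.aff ξ.property)
    exact small_of_injective.{u} e.symm.injective
  have hN : (pushA p F C).IsCart := pushA_isCart p F C fun ξ' ξ φ => h φ.hom (C.aff ξ'.property) (C.aff ξ.property)
  have hZ : ∀ ξ : 𝒳.obj, ZLoc C ξ := zloc_all
  have hs' : ∀ (ξ : 𝒳.obj) (U : (sch 𝒳 ξ).Opens), Small.{u} (BFam (pushA p F C) ξ U) := fun ξ U =>
    small_bfam _ hN (hZ ξ) U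
  refine ⟨ext (pushA p F C) hN hZ, ⟨⟨fun ξ hξ => LinearEquiv.ofBijective
    { toFun := fun x => pushAEquiv p F C ⟨ξ, hξ⟩ (extEv (pushA p F C) hN hZ ⟨ξ, hξ⟩ x)
      map_add' := fun x y => by rw [map_add, map_add]
      map_smul' := fun r x => by
        refine (congrArg (pushAEquiv p F C ⟨ξ, hξ⟩) (extEv_smul (pushA p F C) hN hZ ⟨ξ, hξ⟩ r x)).trans ?_
        exact pushAEquiv_smul p F C ⟨ξ, hξ⟩ _ _ } ?_, ?_⟩⟩⟩
  · exact (pushAEquiv p F C ⟨ξ, hξ⟩).bijective.comp (extEv_bijective (pushA p F C) hN hZ ⟨ξ, hξ⟩)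
  · intro ξ' ξ φ h' h x
    have h1 := extEv_mapTop (pushA p F C) hN hZ (ζ' := ⟨ξ', h'⟩) (ζ := ⟨ξ, h⟩) (ObjectProperty.homMk φ) x
    refine (congrArg (pushAEquiv p F C ⟨ξ', h'⟩) h1).trans ?_
    exact pushAEquiv_map p F C _ _

end Exists

end K908.Push
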