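import Groth.Prelude.Def_StMod2
import Groth.Agent.StMod.K908.Comap
import Groth.Agent.StMod.K908.Dense

/-!
# Sections of a pushforward and of its inverse image along a locally surjective and locally full functor
-/

set_option autoImplicit false
set_option linter.unusedVariables false
set_option linter.style.haveILetI false
set_option backward.isDefEq.respectTransparency false
set_option backward.isDefEq.respectTransparency.types false
set_option linter.dupNamespace false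
set_option linter.unusedSectionVars false

universe v'' w'' v' w' v w u

open CategoryTheory CategoryTheory.Limits AlgebraicGeometry Opposite TopologicalSpace StMod

namespace K908.Cmp

open K908.AMod K908.Fam K908.Ext K908.QSec K908.QHom K907.Sec K908.Desc K908.Comap

variable {S : Scheme.{u}} {𝒳 : BasedCategory.{v, w} (Over S)} {𝒴 : BasedCategory.{v', w'} (Over S)}
  {𝒵 : BasedCategory.{v'', w''} (Over S)} (f : 𝒳 ⥤ᵇ 𝒴)

/-- Every affine object of the target has a covering by the image of an affine object. -/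
def LSurj : Prop := ∀ y : 𝒴.obj, IsAffine (sch 𝒴 y) →
  ∃ (x : 𝒳.obj) (_ : IsAffine (sch 𝒳 x)) (c : f.obj x ⟶ y), IsFCov c

/-- Arrows between images lift after a covering. -/
def LFull : Prop := ∀ x' x : 𝒳.obj, IsAffine (sch 𝒳 x') → IsAffine (sch 𝒳 x) → ∀ b : f.obj x' ⟶ f.obj x,
  ∃ (x₁ : 𝒳.obj) (_ : IsAffine (sch 𝒳 x₁)) (d : x₁ ⟶ x') (a : x₁ ⟶ x), IsFCov d ∧ f.map d ≫ b = f.map a

theorem isAffine_obj (x : 𝒳.obj) (h : IsAffine (sch 𝒳 x)) : IsAffine (sch 𝒴 (f.obj x)) := by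
  rw [sch_obj_eq]; exact h

theorem isFCov_map {x' x : 𝒳.obj} {d : x' ⟶ x} (h : IsFCov d) : IsFCov (f.map d) := by
  have h1 := h.flat
  have h2 := h.surj
  have e : bmap 𝒴 (f.map d) = eqToHom (sch_obj_eq f x') ≫ bmap 𝒳 d ≫ eqToHom (sch_obj_eq f x).symm := by
    have h3 := bmap_map_comm f d rfl
    rw [← Category.assoc, ← h3, Category.assoc, eqToHom_trans, eqToHom_refl, Category.comp_id]
  constructor
  · rw [e]; infer_instance
  · rw [e]; infer_instance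

/-- Pullback of sections of a pushforward. -/
noncomputable def pull (σ : 𝒴 ⥤ᵇ 𝒵) (F : Mod 𝒴) (η : 𝒵.obj) :
    Mod.RelSect σ F η →+ Mod.RelSect (BasedFunctor.comp f σ) (Mod.comap f F) η where
  toFun s := ⟨fun ξ α => ct f F ξ (s.1 (f.obj ξ) α), fun ξ' ξ φ α => by
    rw [ct_mapTop]
    exact congrArg (ct f F ξ') (s.2 (f.map φ) α)⟩
  map_zero' := by
    apply Mod.RelSect.ext
    intro ξ α
    exact map_zero _
  map_add' a b := by
    apply Mod.RelSect.ext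
    intro ξ α
    exact map_add _ _ _

theorem pull_val (σ : 𝒴 ⥤ᵇ 𝒵) (F : Mod 𝒴) (η : 𝒵.obj) (s : Mod.RelSect σ F η) (ξ : 𝒳.obj)
    (α : (BasedFunctor.comp f σ).obj ξ ⟶ η) : (pull f σ F η s).1 ξ α = ct f F ξ (s.1 (f.obj ξ) α) := rfl

theorem pull_relSectMap (σ : 𝒴 ⥤ᵇ 𝒵) {F G : Mod 𝒴} (u : F ⟶ G) (η : 𝒵.obj) (s : Mod.RelSect σ F η) :
    pull f σ G η (Mod.relSectMap σ u η s) =
      Mod.relSectMap (BasedFunctor.comp f σ) (Mod.comapMap f u) η (pull f σ F η s) := by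
  apply Mod.RelSect.ext
  intro ξ α
  rw [pull_val, Mod.relSectMap_val, Mod.relSectMap_val, pull_val, ct_app]

variable {f}

theorem pull_injective [FibCat.IsFibGrpd 𝒴.p] (h1 : LSurj f) (σ : 𝒴 ⥤ᵇ 𝒵) (F : QCoh 𝒴) (η : 𝒵.obj) :
    Function.Injective (pull f σ F.obj η) := by
  intro s t hst
  refine QHom.relSect_ext (C := ASieve.all 𝒴) zloc_all σ F η fun y β => ?_
  obtain ⟨x, hx, c, hc⟩ := h1 y.obj y.property
  apply map_injective (C := ASieve.all 𝒴) (rest F.obj (ASieve.all 𝒴)) (rest_isCart F _)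
    (ζ' := ⟨f.obj x, isAffine_obj f x hx⟩) (ζ := y) (ObjectProperty.homMk c) hc
  change F.obj.mapTop c (s.1 y.obj β) = F.obj.mapTop c (t.1 y.obj β)
  rw [s.2, t.2]
  apply (ct f F.obj x).injective
  exact congrArg (fun s : Mod.RelSect (BasedFunctor.comp f σ) (Mod.comap f F.obj) η => s.1 x (σ.map c ≫ β)) hst

theorem pull_surjective [FibCat.IsFibGrpd 𝒳.p] [FibCat.IsFibGrpd 𝒴.p] (h1 : LSurj f) (h2 : LFull f) (σ : 𝒴 ⥤ᵇ 𝒵) (F : QCoh 𝒴)
    (η : 𝒵.obj) : Function.Surjective (pull f σ F.obj η) := by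
  intro t
  -- the values at images
  let tv : ∀ (x : 𝒳.obj) (_ : σ.obj (f.obj x) ⟶ η), Γ(F.obj.obj (f.obj x), ⊤) := fun x α =>
    (ct f F.obj x).symm (t.1 x α)
  have tv_map : ∀ {x' x : 𝒳.obj} (φ : x' ⟶ x) (α : σ.obj (f.obj x) ⟶ η) (α' : σ.obj (f.obj x') ⟶ η),
      σ.map (f.map φ) ≫ α = α' → F.obj.mapTop (f.map φ) (tv x α) = tv x' α' := by
    rintro x' x φ α _ rfl
    change F.obj.mapTop (f.map φ) ((ct f F.obj x).symm (t.1 x α)) = _
    rw [← ct_symm_mapTop]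
    exact congrArg (ct f F.obj x').symm (t.2 φ α)
  have ff : ∀ {y' y : 𝒴.obj} (c : y' ⟶ y), IsAffine (sch 𝒴 y') → IsAffine (sch 𝒴 y) → IsFCov c →
      Function.Injective (F.obj.mapTop c) := fun {y' y} c hy' hy hc =>
    map_injective (C := ASieve.all 𝒴) (rest F.obj (ASieve.all 𝒴)) (rest_isCart F _)
      (ζ' := ⟨y', hy'⟩) (ζ := ⟨y, hy⟩) (ObjectProperty.homMk c) hc
  -- independence
  have ind : ∀ {y₁ y : 𝒴.obj} (hy₁ : IsAffine (sch 𝒴 y₁)) (β : σ.obj y ⟶ η) (x : 𝒳.obj) (hx : IsAffine (sch 𝒳 x))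
      (a : y₁ ⟶ f.obj x) (c : f.obj x ⟶ y) (x' : 𝒳.obj) (hx' : IsAffine (sch 𝒳 x')) (a' : y₁ ⟶ f.obj x')
      (c' : f.obj x' ⟶ y), a ≫ c = a' ≫ c' →
      F.obj.mapTop a (tv x (σ.map c ≫ β)) = F.obj.mapTop a' (tv x' (σ.map c' ≫ β)) := by
    intro y₁ y hy₁ β x hx a c x' hx' a' c' e
    obtain ⟨x₂, hx₂, c₂, hc₂⟩ := h1 y₁ hy₁
    obtain ⟨x₃, hx₃, d, g, hd, hg⟩ := h2 x₂ x hx₂ hx (c₂ ≫ a)
    obtain ⟨x₄, hx₄, d', g', hd', hg'⟩ := h2 x₃ x' hx₃ hx' (f.map d ≫ c₂ ≫ a')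
    have hcov : IsFCov (f.map d' ≫ f.map d ≫ c₂) :=
      (isFCov_map f hd').comp ((isFCov_map f hd).comp hc₂)
    apply ff (f.map d' ≫ f.map d ≫ c₂) (isAffine_obj f x₄ hx₄) hy₁ hcov
    rw [← Mod.mapTop_comp, ← Mod.mapTop_comp]
    have e1 : (f.map d' ≫ f.map d ≫ c₂) ≫ a = f.map (d' ≫ g) := by
      rw [Functor.map_comp, ← hg]
      simp only [Category.assoc]
    have e2 : (f.map d' ≫ f.map d ≫ c₂) ≫ a' = f.map g' := by
      rw [← hg']
      simp only [Category.assoc]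
    rw [e1, e2, tv_map _ _ (σ.map (f.map (d' ≫ g)) ≫ σ.map c ≫ β) rfl,
      tv_map _ _ (σ.map (f.map g') ≫ σ.map c' ≫ β) rfl]
    congr 1
    rw [← Category.assoc, ← Category.assoc, ← Functor.map_comp, ← Functor.map_comp]
    congr 2
    rw [← e1, ← e2]
    simp only [Category.assoc]
    rw [e]
  -- gluing on each affine object
  have key : ∀ (y : (ASieve.all 𝒴).cat.obj) (β : σ.obj y.obj ⟶ η), ∃ m : Γ(F.obj.obj y.obj, ⊤),
      ∀ (x : 𝒳.obj) (_ : IsAffine (sch 𝒳 x)) (c : f.obj x ⟶ y.obj),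
        F.obj.mapTop c m = tv x (σ.map c ≫ β) := by
    intro y β
    have hR : FCovS (C := ASieve.all 𝒴) y (fun y₁ ψ => ∃ (x : 𝒳.obj) (_ : IsAffine (sch 𝒳 x)) (a : y₁.obj ⟶ f.obj x)
        (c : f.obj x ⟶ y.obj), a ≫ c = ψ.hom) := by
      constructor
      · rintro y₂ y₁ χ ψ ⟨x, hx, a, c, e⟩
        refine ⟨x, hx, χ.hom ≫ a, c, ?_⟩
        rw [Category.assoc, e]
        rfl
      · obtain ⟨x, hx, c, hc⟩ := h1 y.obj y.property
        exact ⟨⟨f.obj x, isAffine_obj f x hx⟩, ObjectProperty.homMk c, hc, x, hx, 𝟙 _, c, Category.id_comp _⟩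
    choose X hX A Cc hAC using fun (y₁ : (ASieve.all 𝒴).cat.obj) (ψ : y₁ ⟶ y)
      (h : ∃ (x : 𝒳.obj) (_ : IsAffine (sch 𝒳 x)) (a : y₁.obj ⟶ f.obj x)
        (c : f.obj x ⟶ y.obj), a ≫ c = ψ.hom) => h
    obtain ⟨m, hm, -⟩ := fglue (rest F.obj (ASieve.all 𝒴)) (rest_isCart F _) hR
      (fun y₁ ψ h => F.obj.mapTop (A y₁ ψ h) (tv (X y₁ ψ h) (σ.map (Cc y₁ ψ h) ≫ β))) (by
        intro y₂ y₁ χ ψ h
        change F.obj.mapTop χ.hom (F.obj.mapTop (A y₁ ψ h) _) = _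
        rw [← Mod.mapTop_comp]
        refine ind y₂.property β _ (hX _ _ _) _ _ _ (hX _ _ _) _ _ ?_
        rw [Category.assoc, hAC, hAC]
        rfl)
    refine ⟨m, fun x hx c => ?_⟩
    have h3 := hm ⟨f.obj x, isAffine_obj f x hx⟩ (ObjectProperty.homMk c) ⟨x, hx, 𝟙 _, c, Category.id_comp _⟩
    refine h3.trans ?_
    have h4 := ind (isAffine_obj f x hx) β _ (hX _ _ _) (A ⟨f.obj x, isAffine_obj f x hx⟩ (ObjectProperty.homMk c)
      ⟨x, hx, 𝟙 _, c, Category.id_comp _⟩) (Cc _ _ _) x hx (𝟙 (f.obj x)) c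
      ((hAC _ _ _).trans (Category.id_comp _).symm)
    rw [Mod.mapTop_id] at h4
    exact h4
  choose m hm using key
  obtain ⟨s, hs⟩ := QHom.exists_relSect (C := ASieve.all 𝒴) zloc_all σ F η m (by
    intro y' y φ β
    obtain ⟨x, hx, c, hc⟩ := h1 y'.obj y'.property
    apply ff c (isAffine_obj f x hx) y'.property hc
    rw [← Mod.mapTop_comp, hm y β x hx, hm y' _ x hx, Functor.map_comp, Category.assoc])
  refine ⟨s, ?_⟩
  refine QHom.relSect_ext (C := ASieve.all 𝒳) zloc_all (BasedFunctor.comp f σ) ((comapQ f).obj F) η fun x α => ?_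
  change ct f F.obj x.obj (s.1 (f.obj x.obj) α) = t.1 x.obj α
  rw [show s.1 (f.obj x.obj) α = m ⟨f.obj x.obj, isAffine_obj f x.obj x.property⟩ α from
    hs ⟨f.obj x.obj, isAffine_obj f x.obj x.property⟩ α]
  have h3 := hm ⟨f.obj x.obj, isAffine_obj f x.obj x.property⟩ α x.obj x.property (𝟙 _)
  rw [Mod.mapTop_id, CategoryTheory.Functor.map_id, Category.id_comp] at h3
  rw [h3]
  exact (ct f F.obj x.obj).apply_symm_apply (t.1 x.obj α)

/-- Surjectivity on sections of the pushforward along `f ⋙ σ` of inverse images gives it along `σ`. -/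
theorem surjective_relSectMap [FibCat.IsFibGrpd 𝒳.p] [FibCat.IsFibGrpd 𝒴.p] (h1 : LSurj f) (h2 : LFull f)
    (σ : 𝒴 ⥤ᵇ 𝒵) {F G : QCoh 𝒴} (u : F ⟶ G) (η : 𝒵.obj)
    (h : Function.Surjective (Mod.relSectMap (BasedFunctor.comp f σ) ((comapQ f).map u).hom η)) :
    Function.Surjective (Mod.relSectMap σ u.hom η) := by
  intro t
  obtain ⟨s, hs⟩ := h (pull f σ G.obj η t)
  obtain ⟨s', rfl⟩ := pull_surjective h1 h2 σ F η s
  refine ⟨s', pull_injective h1 σ G η ?_⟩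
  rw [pull_relSectMap]
  exact hs

/-- Descent of cohomological affineness along a locally surjective and locally full functor. -/
theorem isCohAffine_of_comp [FibCat.IsFibGrpd 𝒳.p] [FibCat.IsFibGrpd 𝒴.p] (h1 : LSurj f) (h2 : LFull f)
    {M : AlgSp.Sp S} (σ : 𝒴 ⥤ᵇ AlgSt.ofSp M) (h : IsCohAffine (BasedFunctor.comp f σ)) : IsCohAffine σ := by
  intro F G u hu E hE
  exact surjective_relSectMap h1 h2 σ u _ (h ((comapQ f).map u) (isSurj_comapMap f u.hom hu) E hE)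

end K908.Cmp
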