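import Groth.Agent.StMod.K908.BG
import Groth.Agent.StMod.K908.ToBase

/-!
# The functor `BG ⟶ BH` of a faithfully flat homomorphism `q : G ⟶ H` is locally surjective and locally full
-/

set_option autoImplicit false
set_option linter.unusedVariables false
set_option linter.style.haveILetI false
set_option backward.isDefEq.respectTransparency false
set_option backward.isDefEq.respectTransparency.types false
set_option linter.dupNamespace false
set_option linter.unusedSectionVars false

universe u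

open CategoryTheory CategoryTheory.Limits MonoidalCategory CartesianMonoidalCategory MonObj GrpObj AlgebraicGeometry
open StMod AlgSt K750.TorsPts K736.QuotTriv

namespace K908.BGSurj

open K907.Sec K908.Cmp K908.BG

variable {S : Scheme.{u}} {G H : Over S} [GrpObj G] [GrpObj H]

theorem isFCov_of_isIso {𝒳 : BasedCategory.{u, u + 1} (Over S)} {a b : 𝒳.obj} (φ : a ⟶ b) [IsIso φ] : IsFCov φ := by
  have : IsIso (bmap 𝒳 φ) := by
    change IsIso (𝒳.p.map φ).left
    infer_instance
  exact ⟨inferInstance, inferInstance⟩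

/-- An arrow of a classifying stack over a flat surjective morphism. -/
theorem isFCov_of_base {A B : (AlgSt.BG Scheme.fppfPrecoverage G).obj} (φ : A ⟶ B) (h1 : Flat φ.base.left)
    (h2 : Surjective φ.base.left) : IsFCov φ := ⟨h1, h2⟩

/-- The arrow out of a trivial torsor attached to a point. -/
theorem exists_ofPt {V : Over S} (A : (AlgSt.BG Scheme.fppfPrecoverage G).obj) (p : V ⟶ A.P) :
    ∃ k : triv G V ⟶ A, k.base = p ≫ A.π ∧ one G V ≫ k.top = p :=
  exists_hom_of_section (A := triv G V) (B := A) (p ≫ A.π) (one G V) (one_π V) p rfl (toUnit_unique _ _)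

theorem lSurj [IsAffineHom H.hom] [Flat H.hom] (q : G ⟶ H) [IsMonHom q] : LSurj (bq q) := by
  intro y hy
  have hy' : IsAffine y.base.left := hy
  have h1 := K744.TorsProp.isAffineHom_of_torsor y
  have h2 := K744.TorsProp.flat_of_torsor y
  have h3 := K744.TorsProp.surjective_of_torsor y
  have h4 : IsAffine y.P.left := isAffine_of_isAffineHom y.π.left
  obtain ⟨k, hk, -⟩ := exists_ofPt y (𝟙 y.P)
  rw [Category.id_comp] at hk
  have := isIso_th q (A := triv G y.P) (one G y.P) (one_π y.P)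
  have hkc : IsFCov k := isFCov_of_base k (by rw [hk]; exact h2) (by rw [hk]; exact h3)
  exact ⟨triv G y.P, h4, inv (th q (one G y.P)) ≫ k, (isFCov_of_isIso _).comp hkc⟩

theorem isAffineHom_left [IsAffineHom G.hom] [IsAffineHom H.hom] (q : G ⟶ H) : IsAffineHom q.left := by
  have h1 : IsAffineHom (q.left ≫ H.hom) := by rw [Over.w]; infer_instance
  exact IsAffineHom.of_comp q.left H.hom

theorem lFull [IsAffineHom G.hom] [Flat G.hom] [IsAffineHom H.hom] (q : G ⟶ H) [IsMonHom q]
    (hqf : Flat q.left) (hqs : Surjective q.left) : LFull (bq q) := by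
  intro x' x hx' hx b
  have hx'1 : IsAffine x'.base.left := hx'
  have hx1 : IsAffine x.base.left := hx
  have a1 := K744.TorsProp.isAffineHom_of_torsor x'
  have f1 := K744.TorsProp.flat_of_torsor x'
  have s1 := K744.TorsProp.surjective_of_torsor x'
  have a2 := K744.TorsProp.isAffineHom_of_torsor x
  have f2 := K744.TorsProp.flat_of_torsor x
  have s2 := K744.TorsProp.surjective_of_torsor x
  have aq := isAffineHom_left q
  have aff1 : IsAffine x'.P.left := isAffine_of_isAffineHom x'.π.left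
  -- the morphism of bases
  let b₀ : x'.base ⟶ x.base := eqToHom ((bq q).w_obj x').symm ≫ b.base ≫ eqToHom ((bq q).w_obj x)
  have hb : (AlgSt.BG Scheme.fppfPrecoverage H).p.IsHomLift b₀ b := by
    refine IsHomLift.of_fac' _ _ _ ((bq q).w_obj x') ((bq q).w_obj x) ?_
    change b.base = _
    simp [b₀]
  -- points of both torsors
  let T₁ : Over S := pullback (x'.π ≫ b₀) x.π
  let s' : T₁ ⟶ x'.P := pullback.fst (x'.π ≫ b₀) x.π
  let s : T₁ ⟶ x.P := pullback.snd (x'.π ≫ b₀) x.π
  have sq1 : IsPullback s' s (x'.π ≫ b₀) x.π := IsPullback.of_hasPullback _ _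
  have sq1' := K744.TorsProp.isPullback_left sq1
  have fs' : Flat s'.left := MorphismProperty.of_isPullback (P := @Flat) sq1'.flip f2
  have ss' : Surjective s'.left := MorphismProperty.of_isPullback (P := @Surjective) sq1'.flip s2
  have as' : IsAffineHom s'.left := MorphismProperty.of_isPullback (P := @IsAffineHom) sq1'.flip a2
  have aff2 : IsAffine T₁.left := isAffine_of_isAffineHom s'.left
  -- comparison of the two arrows
  have l1 : (AlgSt.BG Scheme.fppfPrecoverage H).p.IsHomLift ((s' ≫ x'.π) ≫ b₀) (th q s' ≫ b) := by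
    have := th_lift q s'
    exact IsHomLift.comp _ _ _ _ _
  have l2 := th_lift q s
  obtain ⟨α, hα, hαe⟩ := K751.FG.exists_factor (isFibGrpd H) (𝟙 T₁) (f := s ≫ x.π) (h := (s' ≫ x'.π) ≫ b₀)
    (by rw [Category.id_comp, Category.assoc]; exact sq1.w.symm) (th q s) (th q s' ≫ b) l2 l1
  have hα' : α.base = 𝟙 T₁ := K751.FG.map_eq_of_isHomLift (p := (AlgSt.BG Scheme.fppfPrecoverage H).p) α
    (g := (𝟙 T₁ : T₁ ⟶ T₁)) hα
  obtain ⟨h, rfl⟩ := exists_rm α hα'
  -- lift `h` to `G`
  let T₂ : Over S := pullback q (h⁻¹ : T₁ ⟶ H)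
  let g : T₂ ⟶ G := pullback.fst q (h⁻¹ : T₁ ⟶ H)
  let t₂ : T₂ ⟶ T₁ := pullback.snd q (h⁻¹ : T₁ ⟶ H)
  have sq2 : IsPullback g t₂ q (h⁻¹ : T₁ ⟶ H) := IsPullback.of_hasPullback _ _
  have sq2' := K744.TorsProp.isPullback_left sq2
  have ft : Flat t₂.left := MorphismProperty.of_isPullback (P := @Flat) sq2' hqf
  have st : Surjective t₂.left := MorphismProperty.of_isPullback (P := @Surjective) sq2' hqs
  have at' : IsAffineHom t₂.left := MorphismProperty.of_isPullback (P := @IsAffineHom) sq2' aq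
  have aff3 : IsAffine T₂.left := isAffine_of_isAffineHom t₂.left
  have hg : g⁻¹ ≫ q = t₂ ≫ h := by
    have h1 : g ≫ q = (t₂ ≫ h)⁻¹ := by rw [← comp_inv]; exact sq2.w
    have h2 : (g⁻¹ ≫ q) * (g ≫ q) = 1 := by
      have h3 : (g⁻¹ ≫ q) * (g ≫ q) = (g⁻¹ * g) ≫ q := by
        rw [Hom.mul_def, Hom.mul_def, Category.assoc, IsMonHom.mul_hom, ← Category.assoc]
        congr 1
        apply CartesianMonoidalCategory.hom_ext <;> simp
      rw [h3, inv_mul_cancel, Hom.one_def, Hom.one_def, Category.assoc, IsMonHom.one_hom]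
    rw [h1] at h2
    exact (mul_eq_one_iff_eq_inv.1 h2).trans (inv_inv _)
  obtain ⟨d, hd, hd'⟩ := exists_ofPt x' (t₂ ≫ s')
  obtain ⟨a, ha, ha'⟩ := exists_ofPt x (K750.TorsPts.act x.act g⁻¹ (t₂ ≫ s))
  refine ⟨triv G T₂, aff3, d, a, ?_, ?_⟩
  · have e : d.base.left = t₂.left ≫ s'.left ≫ x'.π.left := by
      rw [hd]
      simp
    exact isFCov_of_base d (by rw [e]; infer_instance) (by rw [e]; infer_instance)
  · have hiso := isIso_th q (A := triv G T₂) (one G T₂) (one_π T₂)
    rw [← cancel_epi (th q (A := triv G T₂) (one G T₂))]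
    have e1 : th q (A := triv G T₂) (one G T₂) ≫ (bq q).map d ≫ b = trivMap H t₂ ≫ rm h ≫ th q s := by
      rw [← Category.assoc, th_map, hd', th_comp, Category.assoc, hαe]
    have e2 : th q (A := triv G T₂) (one G T₂) ≫ (bq q).map a =
        rm (g⁻¹ ≫ q) ≫ th q (t₂ ≫ s) := by
      rw [th_map, ha', ← th_act q g, ← act_mul, mul_inv_cancel, act_one]
    rw [e1, e2, hg, th_comp, ← Category.assoc, ← Category.assoc, rm_nat]

/-- Cohomological affineness of `BG` passes to `BH` for a faithfully flat `q : G ⟶ H`. -/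
theorem isCohAffine_quot [IsAffineHom G.hom] [Flat G.hom] [IsAffineHom H.hom] [Flat H.hom] (q : G ⟶ H) [IsMonHom q]
    (hqf : Flat q.left) (hqs : Surjective q.left)
    (σ : AlgSt.BG Scheme.fppfPrecoverage G ⥤ᵇ AlgSt.ofSch (Over.mk (𝟙 S)))
    (τ : AlgSt.BG Scheme.fppfPrecoverage H ⥤ᵇ AlgSt.ofSch (Over.mk (𝟙 S)))
    (h : StMod.IsCohAffine σ) : StMod.IsCohAffine τ := by
  refine isCohAffine_of_comp (lSurj q) (lFull q hqf hqs) τ ?_
  rwa [ToBase.functor_eq (BasedFunctor.comp (bq q) τ) σ]

end K908.BGSurj
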