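import Groth.Agent.StMod.K908.BqPres
import Groth.Agent.StMod.K784.Geo

/-!
# The flat atlas of `BH` by trivial torsors over affine schemes étale over the base
-/

set_option autoImplicit false
set_option linter.unusedVariables false
set_option linter.style.haveILetI false
set_option backward.isDefEq.respectTransparency false
set_option backward.isDefEq.respectTransparency.types false
set_option linter.dupNamespace false
set_option linter.unusedSectionVars false

universe u

open CategoryTheory CategoryTheory.Limits MonoidalCategory CartesianMonoidalCategory MonObj GrpObj AlgebraicGeometry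
open StMod AlgSt K750.TorsPts K736.QuotTriv

namespace K908.BGAtlas

open K906 K907.Sec K908.Cmp K908.BG K908.BGPts K908.BqPres K908.AMod K784.Geo

variable {S : Scheme.{u}} {H : Over S} [GrpObj H]

/-- The scheme of pairs of an element of the group and a pair of points. -/
noncomputable abbrev Y (H W W' : Over S) : Over S := H ⊗ (W ⊗ W')

/-- First leg of the universal span. -/
noncomputable def p₀ (H W W' : Over S) [GrpObj H] : triv H (Y H W W') ⟶ triv H W :=
  trivMap H (snd H (W ⊗ W') ≫ fst W W')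

/-- Second leg of the universal span. -/
noncomputable def q₀ (H W W' : Over S) [GrpObj H] : triv H (Y H W W') ⟶ triv H W' :=
  rm (fst H (W ⊗ W')) ≫ trivMap H (snd H (W ⊗ W') ≫ snd W W')

theorem comp_p₀ {W W' V : Over S} (a : V ⟶ H) (f : V ⟶ Y H W W') :
    (rm a ≫ trivMap H f) ≫ p₀ H W W' = rm a ≫ trivMap H (f ≫ snd H (W ⊗ W') ≫ fst W W') := by
  rw [p₀, Category.assoc, ← trivMap_comp]

theorem comp_q₀ {W W' V : Over S} (a : V ⟶ H) (f : V ⟶ Y H W W') :
    (rm a ≫ trivMap H f) ≫ q₀ H W W' =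
      rm (a * (f ≫ fst H (W ⊗ W'))) ≫ trivMap H (f ≫ snd H (W ⊗ W') ≫ snd W W') := by
  rw [q₀, decomp_comp]

/-- The universal span is a product. -/
theorem exists_pair {W W' : Over S} {χ : (AlgSt.BG Scheme.fppfPrecoverage H).obj} (x : χ ⟶ triv H W)
    (y : χ ⟶ triv H W') : ∃ k : χ ⟶ triv H (Y H W W'), k ≫ p₀ H W W' = x ∧ k ≫ q₀ H W W' = y := by
  obtain ⟨i, hi, -, hx⟩ := exists_iso_triv x
  obtain ⟨g, e, hg⟩ := exists_decomp (i ≫ y)
  refine ⟨inv i ≫ rm 1 ≫ trivMap H (lift g (lift x.base e)), ?_, ?_⟩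
  · have h1 := comp_p₀ (H := H) (W := W) (W' := W') 1 (lift g (lift x.base e))
    rw [Category.assoc, h1, IsIso.inv_comp_eq, hx, rm_one, Category.id_comp]
    congr 1
    simp
  · have h1 := comp_q₀ (H := H) (W := W) (W' := W') 1 (lift g (lift x.base e))
    rw [Category.assoc, h1, IsIso.inv_comp_eq, hg, _root_.one_mul]
    congr 2
    · simp
    · simp

theorem pair_ext {W W' : Over S} {χ : (AlgSt.BG Scheme.fppfPrecoverage H).obj} {k k' : χ ⟶ triv H (Y H W W')}
    (h1 : k ≫ p₀ H W W' = k' ≫ p₀ H W W') (h2 : k ≫ q₀ H W W' = k' ≫ q₀ H W W') : k = k' := by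
  obtain ⟨i, hi, -, hx⟩ := exists_iso_triv k
  rw [← cancel_epi i]
  obtain ⟨a, f, ha⟩ := exists_decomp (i ≫ k)
  obtain ⟨a', f', ha'⟩ := exists_decomp (i ≫ k')
  have h1' : (i ≫ k) ≫ p₀ H W W' = (i ≫ k') ≫ p₀ H W W' := by rw [Category.assoc, h1, Category.assoc]
  have h2' : (i ≫ k) ≫ q₀ H W W' = (i ≫ k') ≫ q₀ H W W' := by rw [Category.assoc, h2, Category.assoc]
  rw [ha, ha', comp_p₀, comp_p₀] at h1'
  rw [ha, ha', comp_q₀, comp_q₀] at h2'
  obtain ⟨e1, e2⟩ := decomp_inj h1'
  obtain ⟨e3, e4⟩ := decomp_inj h2'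
  have e5 : f ≫ fst H (W ⊗ W') = f' ≫ fst H (W ⊗ W') := by
    rw [e1] at e3
    exact mul_left_cancel e3
  have e6 : f = f' := by
    apply CartesianMonoidalCategory.hom_ext
    · exact e5
    · apply CartesianMonoidalCategory.hom_ext
      · simpa using e2
      · simpa using e4
  rw [ha, ha', e1, e6]

theorem spanWith₀ (W W' : Over S) : Span.SpanWith @Flat (p₀ H W W') (q₀ H W W') := by
  intro χ x y
  obtain ⟨k, h1, h2⟩ := exists_pair x y
  refine ⟨χ, k, 𝟙 χ, ⟨by rw [h1, Category.id_comp], by rw [h2, Category.id_comp], ?_⟩, ?_⟩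
  · intro ρ k' l' h3 h4
    refine ⟨l', ⟨?_, Category.comp_id _⟩, ?_⟩
    · refine pair_ext ?_ ?_
      · rw [Category.assoc, h1, h3]
      · rw [Category.assoc, h2, h4]
    · rintro v ⟨-, hv⟩
      rw [← hv, Category.comp_id]
  · rw [bmap_id]
    infer_instance

theorem bmap_trivMap {V V' : Over S} (f : V ⟶ V') :
    bmap (AlgSt.BG Scheme.fppfPrecoverage H) (trivMap H f) = f.left := rfl

theorem bmap_rm {V : Over S} (g : V ⟶ H) : bmap (AlgSt.BG Scheme.fppfPrecoverage H) (rm g) = 𝟙 _ := rfl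

theorem flat_fst_left (A B : Over S) [Flat B.hom] : Flat (fst A B).left := by
  change Flat (pullback.fst A.hom B.hom)
  infer_instance

theorem flat_snd_left (A B : Over S) [Flat A.hom] : Flat (snd A B).left := by
  change Flat (pullback.snd A.hom B.hom)
  infer_instance

theorem flat_p₀ (W W' : Over S) [Flat H.hom] [Flat W'.hom] :
    Flat (bmap (AlgSt.BG Scheme.fppfPrecoverage H) (p₀ H W W')) := by
  have h1 := flat_snd_left H (W ⊗ W')
  have h2 := flat_fst_left W W'
  change Flat (snd H (W ⊗ W') ≫ fst W W').left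
  rw [Over.comp_left]
  infer_instance

theorem flat_q₀ (W W' : Over S) [Flat H.hom] [Flat W.hom] :
    Flat (bmap (AlgSt.BG Scheme.fppfPrecoverage H) (q₀ H W W')) := by
  have h1 := flat_snd_left H (W ⊗ W')
  have h2 := flat_snd_left W W'
  rw [q₀, bmap_comp, bmap_rm]
  change Flat (𝟙 _ ≫ (snd H (W ⊗ W') ≫ snd W W').left)
  rw [Category.id_comp, Over.comp_left]
  infer_instance

/-- Affine schemes étale over the base. -/
def Ix (S : Scheme.{u}) : Type (u + 1) := {W : Over S // IsAffine W.left ∧ Etale W.hom}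

variable [IsAffineHom H.hom] [Flat H.hom]

variable (H) in
/-- The flat atlas of the classifying stack. -/
noncomputable def atl : FAtlas.{u + 1} (AlgSt.BG Scheme.fppfPrecoverage H) where
  J := Ix S
  Z W := ⟨triv H W.1, W.2.1⟩
  cov z := by
    have hP : IsAffine z.obj.P.left := affine_tot z.obj z.property
    obtain ⟨z', X', f, e, j, h1, h2, h3, h4, h5, h6⟩ := SchFac.exists_affine_factor z.obj.P.hom
    let X₁ : Over S := Over.mk j
    let z₁ : Over S := Over.mk (f ≫ z.obj.P.hom)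
    let f₁ : z₁ ⟶ z.obj.P := Over.homMk f rfl
    let e₁ : z₁ ⟶ X₁ := Over.homMk e h6.symm
    have hf : IsFCov (trivMap H f₁) := BGSurj.isFCov_of_base _ (by
      change Flat f
      infer_instance) h4
    refine ⟨⟨triv H z₁, h1⟩, ObjectProperty.homMk (trivMap H f₁ ≫ tot z.obj), ⟨X₁, h2, h5⟩,
      ObjectProperty.homMk (trivMap H e₁), hf.comp (isFCov_tot _)⟩
  span z W W' a b := by
    have hP : IsAffine z.obj.P.left := affine_tot z.obj z.property
    have fW : Flat W.1.hom := by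
      have := W.2.2
      infer_instance
    have fW' : Flat W'.1.hom := by
      have := W'.2.2
      infer_instance
    obtain ⟨k, hk1, hk2⟩ := exists_pair (tot z.obj ≫ a.hom) (tot z.obj ≫ b.hom)
    obtain ⟨g, m, hm⟩ := exists_decomp k
    obtain ⟨z', X', f, e, j, h1, h2, h3, h4, h5, h6⟩ := SchFac.exists_affine_factor m.left
    let X₁ : Over S := Over.mk (j ≫ (Y H W.1 W'.1).hom)
    let z₁ : Over S := Over.mk (f ≫ z.obj.P.hom)
    let f₁ : z₁ ⟶ z.obj.P := Over.homMk f rfl
    let j₁ : X₁ ⟶ Y H W.1 W'.1 := Over.homMk j rfl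
    have hm' : m.left ≫ (Y H W.1 W'.1).hom = z.obj.P.hom := Over.w m
    let e₁ : z₁ ⟶ X₁ := Over.homMk e (by
      change e ≫ j ≫ (Y H W.1 W'.1).hom = f ≫ z.obj.P.hom
      rw [← Category.assoc, ← h6, Category.assoc, hm'])
    have he₁ : e₁ ≫ j₁ = f₁ ≫ m := Over.OverMorphism.ext h6.symm
    have hf : IsFCov (trivMap H f₁) := BGSurj.isFCov_of_base _ (by
      change Flat f
      infer_instance) h4
    have hj : Flat (bmap (AlgSt.BG Scheme.fppfPrecoverage H) (trivMap H j₁)) := by
      change Flat j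
      infer_instance
    have hE : (rm (f₁ ≫ g) ≫ trivMap H e₁) ≫ trivMap H j₁ = trivMap H f₁ ≫ k := by
      rw [hm, Category.assoc, ← trivMap_comp, he₁, trivMap_comp, ← Category.assoc, ← Category.assoc, rm_nat]
    refine ⟨⟨triv H z₁, h1⟩, ⟨triv H X₁, h2⟩, ObjectProperty.homMk (trivMap H f₁ ≫ tot z.obj),
      ObjectProperty.homMk (trivMap H j₁ ≫ p₀ H W.1 W'.1), ObjectProperty.homMk (trivMap H j₁ ≫ q₀ H W.1 W'.1),
      ObjectProperty.homMk (rm (f₁ ≫ g) ≫ trivMap H e₁), hf.comp (isFCov_tot _),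
      (spanWith₀ W.1 W'.1).comp_left (isFibGrpd H) _ hj, ?_, ?_, ObjectProperty.hom_ext _ ?_,
      ObjectProperty.hom_ext _ ?_⟩
    · have := flat_p₀ (H := H) W.1 W'.1
      change Flat (bmap _ (trivMap H j₁ ≫ p₀ H W.1 W'.1))
      rw [bmap_comp]
      infer_instance
    · have := flat_q₀ (H := H) W.1 W'.1
      change Flat (bmap _ (trivMap H j₁ ≫ q₀ H W.1 W'.1))
      rw [bmap_comp]
      infer_instance
    · change (rm (f₁ ≫ g) ≫ trivMap H e₁) ≫ trivMap H j₁ ≫ p₀ H W.1 W'.1 = (trivMap H f₁ ≫ tot z.obj) ≫ a.hom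
      rw [← Category.assoc, hE, Category.assoc, hk1, Category.assoc]
    · change (rm (f₁ ≫ g) ≫ trivMap H e₁) ≫ trivMap H j₁ ≫ q₀ H W.1 W'.1 = (trivMap H f₁ ≫ tot z.obj) ≫ b.hom
      rw [← Category.assoc, hE, Category.assoc, hk2, Category.assoc]

end K908.BGAtlas
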