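import Groth.Agent.StMod.K908.Dense
import Groth.Agent.StMod.K906.FlatLoc

/-!
# Surjectivity of morphisms of quasi-coherent modules on a dense class of affine objects
-/

set_option autoImplicit false
set_option linter.unusedVariables false
set_option linter.style.haveILetI false
set_option backward.isDefEq.respectTransparency false
set_option backward.isDefEq.respectTransparency.types false
set_option linter.dupNamespace false
set_option linter.unusedSectionVars false

universe v' w' v w u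

open CategoryTheory CategoryTheory.Limits AlgebraicGeometry Opposite TopologicalSpace StMod
open Groth.Agent.CohqA.BaseChangeMod

namespace K908.Dense

open K908.AMod K908.Fam K908.Ext K908.QSec K908.QHom K907.Sec K908.Desc

variable {S : Scheme.{u}} {𝒳 : BasedCategory.{v, w} (Over S)} [hX : FibCat.IsFibGrpd 𝒳.p] {C : ASieve 𝒳}

/-- A morphism which is surjective over a dense class is surjective. -/
theorem isSurj_of_dense (hC : Dense C) {F G : QCoh 𝒳} (u : F.obj ⟶ G.obj)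
    (h : ∀ ζ : C.cat.obj, Function.Surjective (fun x : Γ(F.obj.obj ζ.obj, ⊤) => (u.app ζ.obj).app ⊤ x)) :
    Mod.IsSurj u := by
  intro ξ hξ
  obtain ⟨ζ, c, hc⟩ := hC ξ hξ
  have hζ : IsAffine (sch 𝒳 ζ.obj) := C.aff ζ.property
  have hξ' := hξ
  let d : Γ(F.obj.obj ξ, ⊤) →ₗ[Γ(sch 𝒳 ξ, ⊤)] Γ(G.obj.obj ξ, ⊤) :=
    (restMap u (ASieve.all 𝒳)).app ⟨ξ, hξ⟩
  let d' : Γ(F.obj.obj ζ.obj, ⊤) →ₗ[Γ(sch 𝒳 ζ.obj, ⊤)] Γ(G.obj.obj ζ.obj, ⊤) :=
    (restMap u (ASieve.all 𝒳)).app ⟨ζ.obj, hζ⟩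
  let ζ₁ : (ASieve.all 𝒳).cat.obj := ⟨ζ.obj, hζ⟩
  let ξ₁ : (ASieve.all 𝒳).cat.obj := ⟨ξ, hξ⟩
  let k : ζ₁ ⟶ ξ₁ := ObjectProperty.homMk c
  have h1 : Function.Surjective d := by
    refine K906.FlatLoc.surjective_of_flat_local d fun m hm => ?_
    refine ⟨Γ(sch 𝒳 ζ.obj, ⊤), inferInstance, (bmap 𝒳 c).appTop.hom, Γ(F.obj.obj ζ.obj, ⊤), Γ(G.obj.obj ζ.obj, ⊤),
      inferInstance, inferInstance, inferInstance, inferInstance, (rest F.obj (ASieve.all 𝒳)).map k,
      (rest G.obj (ASieve.all 𝒳)).map k, d', ?_, ?_, ?_, ?_, ?_, ?_⟩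
    · exact ringMap_flat c hc.flat
    · have hp : m.IsPrime := hm.isPrime
      apply K906.FlatLoc.map_ne_top_of_mem_range (bmap 𝒳 c) m
      exact hc.surj.surj _
    · exact rest_isCart F (ASieve.all 𝒳) k
    · exact rest_isCart G (ASieve.all 𝒳) k
    · intro x
      exact (Mod.mapTop_app u c x).symm
    · exact h ζ
  exact h1

end K908.Dense
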