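import Groth.Agent.StMod.K908.Push

/-!
# Functoriality of the pushforward and sections of the pushforward along a composite
-/

set_option autoImplicit false
set_option linter.unusedVariables false
set_option linter.style.haveILetI false
set_option backward.isDefEq.respectTransparency false
set_option backward.isDefEq.respectTransparency.types false
set_option linter.dupNamespace false
set_option linter.unusedSectionVars false

universe v'' w'' v' w' v w u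

open CategoryTheory CategoryTheory.Limits AlgebraicGeometry Opposite TopologicalSpace StMod
open Groth.Agent.CohqA.BaseChangeMod

namespace K908.Leray

open K908.AMod K908.Fam K908.Ext K908.QSec K908.QHom K908.Push

variable {S : Scheme.{u}} {𝒳 : BasedCategory.{v, w} (Over S)} {𝒴 : BasedCategory.{v', w'} (Over S)}
  {𝒵 : BasedCategory.{v'', w''} (Over S)}

theorem relRes_relSectMap (p : 𝒴 ⥤ᵇ 𝒳) {F G : Mod 𝒴} (u : F ⟶ G) {ξ' ξ : 𝒳.obj} (φ : ξ' ⟶ ξ)
    (s : Mod.RelSect p F ξ) :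
    relRes p G φ (Mod.relSectMap p u ξ s) = Mod.relSectMap p u ξ' (relRes p F φ s) := rfl

section Functorial

variable [hX : FibCat.IsFibGrpd 𝒳.p] {p : 𝒴 ⥤ᵇ 𝒳} {F G : Mod 𝒴} {E E' : QCoh 𝒳}

/-- The morphism of pushforwards induced by a morphism. -/
noncomputable def pushMap (hE : IsPush p F E.obj) (hE' : IsPush p G E'.obj) (u : F ⟶ G) : E.obj ⟶ E'.obj :=
  homMk (C := ASieve.all 𝒳) zloc_all
    { app := fun ξ => (show Γ(E.obj.obj ξ.obj, ⊤) →ₗ[Γ(sch 𝒳 ξ.obj, ⊤)] Γ(E'.obj.obj ξ.obj, ⊤) from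
        (hE'.ev ξ.obj ξ.property).symm.toLinearMap.comp
          ((Mod.relSectMap p u ξ.obj).comp (hE.ev ξ.obj ξ.property).toLinearMap))
      comm := fun {ξ' ξ} φ x => by
        change (hE'.ev ξ'.obj ξ'.property).symm (Mod.relSectMap p u ξ'.obj
          (hE.ev ξ'.obj ξ'.property (E.obj.mapTop φ.hom x))) =
          E'.obj.mapTop φ.hom ((hE'.ev ξ.obj ξ.property).symm (Mod.relSectMap p u ξ.obj (hE.ev ξ.obj ξ.property x)))
        rw [LinearEquiv.symm_apply_eq, hE'.comm φ.hom ξ'.property ξ.property, LinearEquiv.apply_symm_apply,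
          hE.comm φ.hom ξ'.property ξ.property]
        rfl }

theorem ev_pushMap (hE : IsPush p F E.obj) (hE' : IsPush p G E'.obj) (u : F ⟶ G) (ξ : 𝒳.obj)
    (h : IsAffine (sch 𝒳 ξ)) (x : Γ(E.obj.obj ξ, ⊤)) :
    hE'.ev ξ h (((pushMap hE hE' u).app ξ).app ⊤ x) = Mod.relSectMap p u ξ (hE.ev ξ h x) := by
  have h1 := homMk_app (C := ASieve.all 𝒳) zloc_all (F := E) (G := E')
    { app := fun ξ => (show Γ(E.obj.obj ξ.obj, ⊤) →ₗ[Γ(sch 𝒳 ξ.obj, ⊤)] Γ(E'.obj.obj ξ.obj, ⊤) from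
        (hE'.ev ξ.obj ξ.property).symm.toLinearMap.comp
          ((Mod.relSectMap p u ξ.obj).comp (hE.ev ξ.obj ξ.property).toLinearMap))
      comm := fun {ξ' ξ} φ x => by
        change (hE'.ev ξ'.obj ξ'.property).symm (Mod.relSectMap p u ξ'.obj
          (hE.ev ξ'.obj ξ'.property (E.obj.mapTop φ.hom x))) =
          E'.obj.mapTop φ.hom ((hE'.ev ξ.obj ξ.property).symm (Mod.relSectMap p u ξ.obj (hE.ev ξ.obj ξ.property x)))
        rw [LinearEquiv.symm_apply_eq, hE'.comm φ.hom ξ'.property ξ.property, LinearEquiv.apply_symm_apply,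
          hE.comm φ.hom ξ'.property ξ.property]
        rfl } ⟨ξ, h⟩ x
  rw [← LinearEquiv.eq_symm_apply]
  exact h1

theorem isSurj_pushMap (hE : IsPush p F E.obj) (hE' : IsPush p G E'.obj) (u : F ⟶ G)
    (h : ∀ ξ : 𝒳.obj, IsAffine (sch 𝒳 ξ) → Function.Surjective (Mod.relSectMap p u ξ)) :
    Mod.IsSurj (pushMap hE hE' u) := by
  intro ξ hξ y
  obtain ⟨s, hs⟩ := h ξ hξ (hE'.ev ξ hξ y)
  refine ⟨(hE.ev ξ hξ).symm s, (hE'.ev ξ hξ).injective ?_⟩
  rw [ev_pushMap, LinearEquiv.apply_symm_apply, hs]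

end Functorial

section Leray

variable [hX : FibCat.IsFibGrpd 𝒳.p] [hY : FibCat.IsFibGrpd 𝒴.p] {p : 𝒴 ⥤ᵇ 𝒳} {F : QCoh 𝒴} {E : QCoh 𝒳}

omit hX hY in
theorem isAffine_obj (p : 𝒴 ⥤ᵇ 𝒳) {θ : 𝒴.obj} (h : IsAffine (sch 𝒴 θ)) : IsAffine (sch 𝒳 (p.obj θ)) := by
  have h1 : 𝒳.p.obj (p.obj θ) = 𝒴.p.obj θ := p.w_obj θ
  change IsAffine (𝒳.p.obj (p.obj θ)).left
  rw [h1]
  exact h

theorem exists_leray (hE : IsPush p F.obj E.obj) (π : 𝒳 ⥤ᵇ 𝒵) (η : 𝒵.obj) (t : Mod.RelSect π E.obj η) :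
    ∃ s : Mod.RelSect (BasedFunctor.comp p π) F.obj η, ∀ (θ : 𝒴.obj) (h : IsAffine (sch 𝒴 θ))
      (γ : π.obj (p.obj θ) ⟶ η), s.1 θ γ = (hE.ev (p.obj θ) (isAffine_obj p h) (t.1 (p.obj θ) γ)).1 θ (𝟙 _) := by
  obtain ⟨s, hs⟩ := exists_relSect (C := ASieve.all 𝒴) zloc_all (BasedFunctor.comp p π) F η
    (fun θ γ => (hE.ev (p.obj θ.obj) (isAffine_obj p θ.property) (t.1 (p.obj θ.obj) γ)).1 θ.obj (𝟙 _)) (by
      intro θ' θ φ γ
      refine ((hE.ev (p.obj θ.obj) (isAffine_obj p θ.property) (t.1 (p.obj θ.obj) γ)).2 φ.hom (𝟙 _)).trans ?_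
      have h1 : t.1 (p.obj θ'.obj) (π.map (p.map φ.hom) ≫ γ) = E.obj.mapTop (p.map φ.hom) (t.1 (p.obj θ.obj) γ) :=
        (t.2 (p.map φ.hom) γ).symm
      change _ = (hE.ev (p.obj θ'.obj) _ (t.1 (p.obj θ'.obj) (π.map (p.map φ.hom) ≫ γ))).1 θ'.obj (𝟙 _)
      rw [h1, hE.comm (p.map φ.hom) (isAffine_obj p θ'.property) (isAffine_obj p θ.property), relRes_val,
        Category.comp_id, Category.id_comp])
  exact ⟨s, fun θ h γ => hs ⟨θ, h⟩ γ⟩

/-- The comparison map. -/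
noncomputable def lerayFun (hE : IsPush p F.obj E.obj) (π : 𝒳 ⥤ᵇ 𝒵) (η : 𝒵.obj) (t : Mod.RelSect π E.obj η) :
    Mod.RelSect (BasedFunctor.comp p π) F.obj η := (exists_leray hE π η t).choose

theorem lerayFun_val (hE : IsPush p F.obj E.obj) (π : 𝒳 ⥤ᵇ 𝒵) (η : 𝒵.obj) (t : Mod.RelSect π E.obj η) (θ : 𝒴.obj)
    (h : IsAffine (sch 𝒴 θ)) (γ : π.obj (p.obj θ) ⟶ η) :
    (lerayFun hE π η t).1 θ γ = (hE.ev (p.obj θ) (isAffine_obj p h) (t.1 (p.obj θ) γ)).1 θ (𝟙 _) :=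
  (exists_leray hE π η t).choose_spec θ h γ

omit hX hY in
theorem baseOver_leray (π : 𝒳 ⥤ᵇ 𝒵) (η : 𝒵.obj) (θ : 𝒴.obj) (γ : π.obj (p.obj θ) ⟶ η) :
    baseOver p θ (𝟙 (p.obj θ)) ≫ baseOver π (p.obj θ) γ = baseOver (BasedFunctor.comp p π) θ γ := by
  simp [baseOver]

/-- Sections of the pushforward along a composite. -/
noncomputable def leray (hE : IsPush p F.obj E.obj) (π : 𝒳 ⥤ᵇ 𝒵) (η : 𝒵.obj) :
    Mod.RelSect π E.obj η →ₗ[Γ(sch 𝒵 η, ⊤)] Mod.RelSect (BasedFunctor.comp p π) F.obj η where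
  toFun := lerayFun hE π η
  map_add' s t := by
    refine relSect_ext (C := ASieve.all 𝒴) zloc_all _ F η fun θ γ => ?_
    have e1 := lerayFun_val hE π η (s + t) θ.obj θ.property γ
    have e2 := lerayFun_val hE π η s θ.obj θ.property γ
    have e3 := lerayFun_val hE π η t θ.obj θ.property γ
    refine e1.trans ?_
    rw [Mod.RelSect.add_val, map_add, Mod.RelSect.add_val]
    refine Eq.trans ?_ (Mod.RelSect.add_val _ _ _ _ _ _ _).symm
    exact congrArg₂ (· + ·) e2.symm e3.symm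
  map_smul' r t := by
    refine relSect_ext (C := ASieve.all 𝒴) zloc_all _ F η fun θ γ => ?_
    have e1 := lerayFun_val hE π η (r • t) θ.obj θ.property γ
    have e2 := lerayFun_val hE π η t θ.obj θ.property γ
    refine e1.trans ?_
    rw [Mod.RelSect.smul_val]
    have e0 := (hE.ev (p.obj θ.obj) (isAffine_obj p θ.property)).map_smul
      (show Γ(sch 𝒳 (p.obj θ.obj), ⊤) from (baseOver π (p.obj θ.obj) γ).left.appTop r) (t.1 (p.obj θ.obj) γ)
    refine (congrArg (fun z : Mod.RelSect p F.obj (p.obj θ.obj) => z.1 θ.obj (𝟙 _)) e0).trans ?_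
    refine (Mod.RelSect.smul_val _ _ _ _ _ _ _).trans ?_
    refine Eq.trans ?_ (Mod.RelSect.smul_val _ _ _ _ _ _ _).symm
    have e3 : (baseOver p θ.obj (𝟙 (p.obj θ.obj))).left.appTop ((baseOver π (p.obj θ.obj) γ).left.appTop r) =
        (baseOver (BasedFunctor.comp p π) θ.obj γ).left.appTop r := by
      have := congrArg (fun k => k.left.appTop r) (baseOver_leray (p := p) π η θ.obj γ)
      simp only [Over.comp_left, Scheme.Hom.comp_appTop] at this
      exact this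
    exact congrArg₂ (· • ·) e3 e2.symm

theorem leray_val (hE : IsPush p F.obj E.obj) (π : 𝒳 ⥤ᵇ 𝒵) (η : 𝒵.obj) (t : Mod.RelSect π E.obj η) (θ : 𝒴.obj)
    (h : IsAffine (sch 𝒴 θ)) (γ : π.obj (p.obj θ) ⟶ η) :
    (leray hE π η t).1 θ γ = (hE.ev (p.obj θ) (isAffine_obj p h) (t.1 (p.obj θ) γ)).1 θ (𝟙 _) :=
  lerayFun_val hE π η t θ h γ

/-- The inverse direction, before identification. -/
def toRel (π : 𝒳 ⥤ᵇ 𝒵) (η : 𝒵.obj) (s : Mod.RelSect (BasedFunctor.comp p π) F.obj η) (ξ : 𝒳.obj)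
    (β : π.obj ξ ⟶ η) : Mod.RelSect p F.obj ξ :=
  ⟨fun θ α => s.1 θ (π.map α ≫ β), fun θ' θ φ α => by
    refine (s.2 φ (π.map α ≫ β)).trans ?_
    change s.1 θ' (π.map (p.map φ) ≫ π.map α ≫ β) = s.1 θ' (π.map (p.map φ ≫ α) ≫ β)
    rw [Functor.map_comp, Category.assoc]⟩

theorem toRel_val (π : 𝒳 ⥤ᵇ 𝒵) (η : 𝒵.obj) (s : Mod.RelSect (BasedFunctor.comp p π) F.obj η) (ξ : 𝒳.obj)
    (β : π.obj ξ ⟶ η) (θ : 𝒴.obj) (α : p.obj θ ⟶ ξ) : (toRel π η s ξ β).1 θ α = s.1 θ (π.map α ≫ β) := rfl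

theorem leray_bijective (hE : IsPush p F.obj E.obj) (π : 𝒳 ⥤ᵇ 𝒵) (η : 𝒵.obj) :
    Function.Bijective (leray hE π η) := by
  constructor
  · intro t t' htt
    refine relSect_ext (C := ASieve.all 𝒳) zloc_all π E η fun ξ β => ?_
    apply (hE.ev ξ.obj ξ.property).injective
    refine relSect_ext (C := ASieve.all 𝒴) zloc_all p F ξ.obj fun θ α => ?_
    have key : ∀ t : Mod.RelSect π E.obj η, (hE.ev ξ.obj ξ.property (t.1 ξ.obj β)).1 θ.obj α =
        (leray hE π η t).1 θ.obj (π.map α ≫ β) := by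
      intro t
      rw [leray_val hE π η t θ.obj θ.property, ← t.2 α β,
        hE.comm α (isAffine_obj p θ.property) ξ.property, relRes_val, Category.id_comp]
    rw [key, key, htt]
  · intro s
    obtain ⟨t, ht⟩ := exists_relSect (C := ASieve.all 𝒳) zloc_all π E η
      (fun ξ β => (hE.ev ξ.obj ξ.property).symm (toRel π η s ξ.obj β)) (by
        intro ξ' ξ φ β
        apply (hE.ev ξ'.obj ξ'.property).injective
        rw [hE.comm φ.hom ξ'.property ξ.property, LinearEquiv.apply_symm_apply, LinearEquiv.apply_symm_apply]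
        apply Mod.RelSect.ext
        intro θ α
        rw [relRes_val, toRel_val, toRel_val, Functor.map_comp, Category.assoc])
    refine ⟨t, ?_⟩
    refine relSect_ext (C := ASieve.all 𝒴) zloc_all _ F η fun θ γ => ?_
    have e1 := ht ⟨p.obj θ.obj, isAffine_obj p θ.property⟩ γ
    have e2 := leray_val hE π η t θ.obj θ.property γ
    refine e2.trans ?_
    refine (congrArg (fun z => (hE.ev (p.obj θ.obj) (isAffine_obj p θ.property) z).1 θ.obj (𝟙 _)) e1).trans ?_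
    rw [LinearEquiv.apply_symm_apply, toRel_val, CategoryTheory.Functor.map_id]
    exact congrArg (s.1 θ.obj) (Category.id_comp γ)

/-- Naturality of the comparison. -/
theorem leray_pushMap {G : QCoh 𝒴} {E' : QCoh 𝒳} (hE : IsPush p F.obj E.obj) (hE' : IsPush p G.obj E'.obj)
    (u : F.obj ⟶ G.obj) (π : 𝒳 ⥤ᵇ 𝒵) (η : 𝒵.obj) (t : Mod.RelSect π E.obj η) :
    leray hE' π η (Mod.relSectMap π (pushMap hE hE' u) η t) =
      Mod.relSectMap (BasedFunctor.comp p π) u η (leray hE π η t) := by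
  refine relSect_ext (C := ASieve.all 𝒴) zloc_all _ G η fun θ γ => ?_
  have e1 := leray_val hE' π η (Mod.relSectMap π (pushMap hE hE' u) η t) θ.obj θ.property γ
  have e2 := leray_val hE π η t θ.obj θ.property γ
  refine e1.trans ?_
  rw [Mod.relSectMap_val, ev_pushMap, Mod.relSectMap_val]
  refine Eq.trans ?_ (Mod.relSectMap_val _ _ _ _ _ _).symm
  exact congrArg _ e2.symm

theorem surjective_comp {G : QCoh 𝒴} {E' : QCoh 𝒳} (hE : IsPush p F.obj E.obj) (hE' : IsPush p G.obj E'.obj)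
    (u : F.obj ⟶ G.obj) (π : 𝒳 ⥤ᵇ 𝒵) (η : 𝒵.obj)
    (h : Function.Surjective (Mod.relSectMap π (pushMap hE hE' u) η)) :
    Function.Surjective (Mod.relSectMap (BasedFunctor.comp p π) u η) := by
  intro s
  obtain ⟨t, rfl⟩ := (leray_bijective hE' π η).2 s
  obtain ⟨t', rfl⟩ := h t
  exact ⟨leray hE π η t', (leray_pushMap hE hE' u π η t').symm⟩

end Leray

end K908.Leray
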