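import Groth.Agent.StMod.K908.BGInv
import Groth.Agent.StMod.K908.BGAtlas
import Groth.Agent.StMod.K908.DenseSurj
import Groth.Agent.StMod.K908.Leray
import Groth.Agent.StMod.K784.LiftQ
import Groth.Agent.StMod.K784.BC2
import Groth.Agent.StMod.K906.PushFl

/-!
# Extensions of linearly reductive groups are linearly reductive
-/

set_option autoImplicit false
set_option linter.unusedVariables false
set_option linter.style.haveILetI false
set_option backward.isDefEq.respectTransparency false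
set_option backward.isDefEq.respectTransparency.types false
set_option linter.dupNamespace false
set_option linter.unusedSectionVars false

universe v w u

open CategoryTheory CategoryTheory.Limits MonoidalCategory CartesianMonoidalCategory MonObj GrpObj AlgebraicGeometry
open StMod AlgSt K750.TorsPts K736.QuotTriv

namespace K908.BGExt

open K906 K907.Sec K908.Cmp K908.BG K908.BGPts K908.BqPres K908.Comap K908.BGInv K908.BGAtlas K908.Push K907.L1
open K784.Geo

variable {S : Scheme.{u}} {G' G H : Over S} [GrpObj G'] [GrpObj G] [GrpObj H] (κ : G' ⟶ G) [IsMonHom κ]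
  (q : G ⟶ H) [IsMonHom q] [IsAffineHom G'.hom] [IsAffineHom G.hom] [IsAffineHom H.hom] [Flat G'.hom] [Flat G.hom]
  [Flat H.hom]

theorem isIso_th_one (W : Over S) : IsIso (th κ (A := triv G' W) (one G' W)) :=
  isIso_th κ (A := triv G' W) (one G' W) (one_π W)

/-- Restriction of arrows between trivial torsors along the functor of a homomorphism. -/
theorem th_one_map {V W : Over S} (k : V ⟶ G') (f : V ⟶ W) :
    th κ (A := triv G' V) (one G' V) ≫ (bq κ).map (rm k ≫ trivMap G' f) =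
      (rm (k ≫ κ) ≫ trivMap G f) ≫ th κ (A := triv G' W) (one G' W) := by
  have h1 : one G' V ≫ (rm k ≫ trivMap G' f).top = act (triv G' W).act k (f ≫ one G' W) := by
    have := pt_rm_comp k (trivMap G' f)
    rw [pt_trivMap] at this
    exact this
  rw [th_map, h1, th_act', th_comp, Category.assoc]

theorem th_one_trivMap {V W : Over S} (f : V ⟶ W) :
    th κ (A := triv G' V) (one G' V) ≫ (bq κ).map (trivMap G' f) =
      trivMap G f ≫ th κ (A := triv G' W) (one G' W) := by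
  have h1 := th_one_map κ (1 : V ⟶ G') f
  rw [one_comp_hom, rm_one, rm_one, Category.id_comp, Category.id_comp] at h1
  exact h1

/-- The kernel: surjectivity on sections over trivial `H`-torsors. -/
theorem surjective_kernel (hqf : Flat q.left) (hqs : Surjective q.left)
    (hker : IsPullback κ (toUnit G') q (MonObj.one : 𝟙_ (Over S) ⟶ H))
    (σ' : AlgSt.BG Scheme.fppfPrecoverage G' ⥤ᵇ PtC S) (w₀ : (PtC S).obj) (hW : IsAffine w₀.base.left)
    {F F' : QCoh (AlgSt.BG Scheme.fppfPrecoverage G)} (u : F ⟶ F')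
    (h' : Function.Surjective (Mod.relSectMap σ' ((comapQ (bq κ)).map u).hom w₀)) :
    Function.Surjective (Mod.relSectMap (bq q) u.hom (triv H w₀.base)) := by
  intro s'
  have hiso := isIso_th_one κ w₀.base
  -- the invariant element
  let m₁ : Γ(F'.obj.obj (triv G w₀.base), ⊤) := s'.1 (xH q w₀.base).pt (xH q w₀.base).arr
  have hm₁ : IsInv κ F'.obj m₁ := isInv_valH κ q hker.w s'
  let m₂ : Γ((Mod.comap (bq κ) F'.obj).obj (triv G' w₀.base), ⊤) :=
    ct (bq κ) F'.obj (triv G' w₀.base) (F'.obj.mapTop (inv (th κ (A := triv G' w₀.base) (one G' w₀.base))) m₁)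
  have key : ∀ (V : Over S) (k : V ⟶ G') (f : V ⟶ w₀.base),
      (bq κ).map (rm k ≫ trivMap G' f) ≫ inv (th κ (A := triv G' w₀.base) (one G' w₀.base)) =
        inv (th κ (A := triv G' V) (one G' V)) ≫ rm (k ≫ κ) ≫ trivMap G f := by
    intro V k f
    rw [IsIso.eq_inv_comp, ← Category.assoc, IsIso.comp_inv_eq, th_one_map]
  have key' : ∀ (V : Over S) (f : V ⟶ w₀.base),
      (bq κ).map (trivMap G' f) ≫ inv (th κ (A := triv G' w₀.base) (one G' w₀.base)) =
        inv (th κ (A := triv G' V) (one G' V)) ≫ trivMap G f := by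
    intro V f
    rw [IsIso.eq_inv_comp, ← Category.assoc, IsIso.comp_inv_eq, th_one_trivMap]
  have hm₂ : IsInv (𝟙 G') (Mod.comap (bq κ) F'.obj) m₂ := by
    intro V hV k f
    rw [ct_mapTop, ct_mapTop]
    congr 1
    rw [← F'.obj.mapTop_comp, ← F'.obj.mapTop_comp, Category.comp_id, key, key',
      F'.obj.mapTop_comp (inv (th κ (A := triv G' V) (one G' V))), hm₁ V hV k f, ← F'.obj.mapTop_comp]
  obtain ⟨t', ht'⟩ := exists_sect (σ := σ') (w₀ := w₀) ((comapQ (bq κ)).obj F') hW m₂ hm₂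
  obtain ⟨t, ht⟩ := h' t'
  -- the value of the lift
  let y : Γ(F.obj.obj ((bq κ).obj (triv G' w₀.base)), ⊤) :=
    (ct (bq κ) F.obj (triv G' w₀.base)).symm (t.1 (triv G' w₀.base) (arr σ' w₀ (𝟙 w₀.base)))
  have hy : ct (bq κ) F.obj (triv G' w₀.base) y = t.1 (triv G' w₀.base) (arr σ' w₀ (𝟙 w₀.base)) :=
    AddEquiv.apply_symm_apply _ _
  have hinv : IsInv κ F.obj (F.obj.mapTop (th κ (A := triv G' w₀.base) (one G' w₀.base)) y) := by
    intro V hV k f
    have h1 : IsInv (𝟙 G') (Mod.comap (bq κ) F.obj) (t.1 (triv G' w₀.base) (arr σ' w₀ (𝟙 w₀.base))) := isInv_val t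
    have h2 := h1 V hV k f
    rw [← hy, ct_mapTop, ct_mapTop, Category.comp_id] at h2
    have h3 := (ct (bq κ) F.obj (triv G' V)).injective h2
    rw [← F.obj.mapTop_comp, ← F.obj.mapTop_comp, ← th_one_map, ← th_one_trivMap, F.obj.mapTop_comp,
      F.obj.mapTop_comp, h3]
  obtain ⟨s, hs⟩ := exists_sectH κ q hqf hqs hker hW F _ hinv
  refine ⟨s, sectH_ext q hqf hqs F' ?_⟩
  rw [Mod.relSectMap_val]
  refine (congrArg (fun k => (u.hom.app _).app ⊤ k) hs).trans ?_
  rw [← Mod.mapTop_app]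
  have h4 : (u.hom.app ((bq κ).obj (triv G' w₀.base))).app ⊤ y =
      F'.obj.mapTop (inv (th κ (A := triv G' w₀.base) (one G' w₀.base))) m₁ := by
    apply (ct (bq κ) F'.obj (triv G' w₀.base)).injective
    rw [← ct_app, hy]
    have h5 := congrArg (fun k : Mod.RelSect σ' (Mod.comap (bq κ) F'.obj) w₀ =>
      k.1 (triv G' w₀.base) (arr σ' w₀ (𝟙 w₀.base))) ht
    exact h5.trans ht'
  rw [h4, ← F'.obj.mapTop_comp, IsIso.hom_inv_id, F'.obj.mapTop_id]

variable {κ q}

/-- Étale affine test objects of the base. -/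
theorem etale_base (E : AlgSp.EtOver ((AlgSp.yon S).obj (Over.mk (𝟙 S)))) : Etale E.obj.left.hom := by
  obtain ⟨e, he⟩ := (AlgSp.yon S).map_surjective E.obj.hom
  have h1 : AlgSp.RepWith @Etale ((AlgSp.yon S).map e) := by
    rw [he]
    exact E.property
  have h2 : Etale e.left := (AlgSp.repWith_yon_map_iff @Etale e).1 h1
  have h3 : e.left ≫ 𝟙 S = E.obj.left.hom := Over.w e
  have h4 : e.left = E.obj.left.hom := (Category.comp_id _).symm.trans h3
  rw [← h4]
  exact h2

/-- The test object of an étale affine scheme. -/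
noncomputable def tst (W : Over S) (h : Etale W.hom) : AlgSp.EtOver ((AlgSp.yon S).obj (Over.mk (𝟙 S))) :=
  AlgSp.EtOver.mk ((AlgSp.yon S).map (Over.homMk W.hom (Category.comp_id _) : W ⟶ Over.mk (𝟙 S)))
    ((AlgSp.repWith_yon_map_iff @Etale _).2 h)

theorem isAffine_bq {x : (AlgSt.BG Scheme.fppfPrecoverage G).obj}
    (hx : IsAffine (sch (AlgSt.BG Scheme.fppfPrecoverage G) x)) :
    IsAffine (sch (AlgSt.BG Scheme.fppfPrecoverage H) ((bq q).obj x)) := Leray.isAffine_obj (bq q) hx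

/-- Sections of the pushforward along the composite from sections of a pushforward. -/
theorem exists_leray {F : QCoh (AlgSt.BG Scheme.fppfPrecoverage G)} {A : QCoh (AlgSt.BG Scheme.fppfPrecoverage H)}
    (P : PushEv (bq q) F.obj A.obj) (σ'' : AlgSt.BG Scheme.fppfPrecoverage H ⥤ᵇ PtC S) (w₀ : (PtC S).obj)
    (t : Mod.RelSect σ'' A.obj w₀) :
    ∃ s : Mod.RelSect (BasedFunctor.comp (bq q) σ'') F.obj w₀,
      ∀ (x : (AlgSt.BG Scheme.fppfPrecoverage G).obj) (h : IsAffine (sch (AlgSt.BG Scheme.fppfPrecoverage G) x))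
        (γ : σ''.obj ((bq q).obj x) ⟶ w₀),
        s.1 x γ = (P.ev ((bq q).obj x) (isAffine_bq h) (t.1 ((bq q).obj x) γ)).1 x (𝟙 _) := by
  obtain ⟨s, hs⟩ := QHom.exists_relSect (C := AMod.ASieve.all (AlgSt.BG Scheme.fppfPrecoverage G)) Fam.zloc_all (BasedFunctor.comp (bq q) σ'') F w₀
    (fun θ γ => (P.ev ((bq q).obj θ.obj) (isAffine_bq θ.property) (t.1 ((bq q).obj θ.obj) γ)).1 θ.obj (𝟙 _)) (by
      intro θ' θ φ γ
      refine ((P.ev ((bq q).obj θ.obj) (isAffine_bq θ.property) (t.1 ((bq q).obj θ.obj) γ)).2 φ.hom (𝟙 _)).trans ?_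
      have h1 : t.1 ((bq q).obj θ'.obj) (σ''.map ((bq q).map φ.hom) ≫ γ) =
          A.obj.mapTop ((bq q).map φ.hom) (t.1 ((bq q).obj θ.obj) γ) := (t.2 ((bq q).map φ.hom) γ).symm
      change _ = (P.ev ((bq q).obj θ'.obj) _ (t.1 ((bq q).obj θ'.obj) (σ''.map ((bq q).map φ.hom) ≫ γ))).1 θ'.obj (𝟙 _)
      rw [h1, P.comm ((bq q).map φ.hom) (isAffine_bq θ'.property) (isAffine_bq θ.property), relRes_val,
        Category.comp_id, Category.id_comp])
  exact ⟨s, fun x h γ => hs ⟨x, h⟩ γ⟩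

omit [IsAffineHom G'.hom] [Flat G'.hom] [IsAffineHom H.hom] [Flat H.hom] in
/-- The inverse image of a surjection. -/
theorem isSurj_comap {F F' : QCoh (AlgSt.BG Scheme.fppfPrecoverage G)} (u : F ⟶ F') (hu : Mod.IsSurj u.hom) :
    Mod.IsSurj ((comapQ (bq κ)).map u).hom := by
  intro x hx y
  obtain ⟨y, rfl⟩ := (ct (bq κ) F'.obj x).surjective y
  obtain ⟨z, rfl⟩ := hu ((bq κ).obj x) (Leray.isAffine_obj (bq κ) hx) y
  exact ⟨ct (bq κ) F.obj x z, ct_app (bq κ) u.hom x z⟩

/-- Extensions of linearly reductive groups are linearly reductive. -/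
theorem isCohAffine_ext (hqf : Flat q.left) (hqs : Surjective q.left)
    (hker : IsPullback κ (toUnit G') q (MonObj.one : 𝟙_ (Over S) ⟶ H))
    (σ' : AlgSt.BG Scheme.fppfPrecoverage G' ⥤ᵇ PtC S) (σ'' : AlgSt.BG Scheme.fppfPrecoverage H ⥤ᵇ PtC S)
    (h' : StMod.IsCohAffine σ') (h'' : StMod.IsCohAffine σ'') :
    StMod.IsCohAffine (BasedFunctor.comp (bq q) σ'') := by
  intro F F' u hu E hE s'
  have hW : IsAffine E.obj.left.left := hE
  have hWe : Etale E.obj.left.hom := etale_base E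
  let W : Over S := E.obj.left
  haveI := isFibGrpd H
  haveI := isFibGrpd G
  have hRel : ∀ (F : QCoh (AlgSt.BG Scheme.fppfPrecoverage G)) {z' z : (AlgSt.BG Scheme.fppfPrecoverage H).obj}
      (g : z' ⟶ z), IsAffine (sch (AlgSt.BG Scheme.fppfPrecoverage H) z') →
      IsAffine (sch (AlgSt.BG Scheme.fppfPrecoverage H) z) → Flat (bmap (AlgSt.BG Scheme.fppfPrecoverage H) g) →
      RelBC (bq q) F.obj g := fun F _ _ g h1 h2 h3 => BqPres.relBC q g h1 h2 h3 F
  obtain ⟨A, P, hP⟩ := PushFl.exists_pushEv (bq q) (isFibGrpd H) (atl H) F (hRel F)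
  obtain ⟨A', P', hP'⟩ := PushFl.exists_pushEv (bq q) (isFibGrpd H) (atl H) F' (hRel F')
  have hH : K784.Tr.FC (fun _ => True) (PushFl.relPM (bq q) F'.obj) := K784.Tr.FC.of_flatCart fun x z φ hφ =>
    PushFl.isBC_of_relBC (hRel F' φ.hom x.property z.property ((fl_iff φ).1 hφ))
  obtain ⟨t, ht⟩ := exists_lift_qcoh (isFibGrpd H) (atl H) hH (fun _ => trivial) (F := A) (G := A')
    (fun z _ => P'.ev z.obj z.property) (fun x z φ _ _ m => P'.comm φ.hom x.property z.property m)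
    (fun z _ j b hb => hP' z.obj z.property j b.hom ((fl_iff b).1 hb))
    (fun z _ => (Mod.relSectMap (bq q) u.hom z.obj).comp (P.ev z.obj z.property))
    (fun x z φ _ _ m => by
      change Mod.relSectMap (bq q) u.hom x.obj (P.ev x.obj x.property (A.obj.mapTop φ.hom m)) = _
      rw [P.comm φ.hom x.property z.property m]
      rfl)
  have ht' : ∀ (z : (AlgSt.BG Scheme.fppfPrecoverage H).obj)
      (hz : IsAffine (sch (AlgSt.BG Scheme.fppfPrecoverage H) z)) (m : Γ(A.obj.obj z, ⊤)),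
      P'.ev z hz ((t.app z).app ⊤ m) = Mod.relSectMap (bq q) u.hom z (P.ev z hz m) := fun z hz m =>
    ht ⟨z, hz⟩ trivial m
  have hid : ∀ z : (AlgSt.BG Scheme.fppfPrecoverage H).obj, Flat (bmap (AlgSt.BG Scheme.fppfPrecoverage H) (𝟙 z)) :=
    fun z => by rw [bmap_id]; infer_instance
  -- surjectivity
  have hsurj : Mod.IsSurj t := by
    refine Dense.isSurj_of_dense (atl H).dense t fun ζ => ?_
    obtain ⟨j, ⟨b⟩⟩ := ζ.property.2
    have h1 : Function.Surjective (gsMap t ((atl H).Z j)) := by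
      intro y
      have hj : IsAffine j.1.left := j.2.1
      obtain ⟨s, hs⟩ := surjective_kernel κ q hqf hqs hker σ' (etaOf (tst j.1 j.2.2)) hj u
        (h' ((comapQ (bq κ)).map u) (isSurj_comap u hu) (tst j.1 j.2.2) hj)
        (P'.ev ((atl H).Z j).obj ((atl H).Z j).property y)
      obtain ⟨a, ha⟩ := (hP ((atl H).Z j).obj ((atl H).Z j).property j (𝟙 _) (hid _)).2 s
      refine ⟨a, (hP' ((atl H).Z j).obj ((atl H).Z j).property j (𝟙 _) (hid _)).1 ?_⟩
      rw [gsMap_apply, ht', ha]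
      exact hs
    let z₁ : (Aff (AlgSt.BG Scheme.fppfPrecoverage H)).obj := ⟨ζ.obj, ζ.property.1⟩
    let b' : z₁ ⟶ (atl H).Z j := ObjectProperty.homMk b
    exact (gs_cart A b').map_surjective (gs_cart A' b') (gsMap t ((atl H).Z j)) (gsMap t z₁) (gsMap_nat t b') h1
  -- the descended section
  have hz₀ : IsAffine (sch (AlgSt.BG Scheme.fppfPrecoverage H) (triv H W)) := hW
  let j₀ : (atl H).J := ⟨W, hW, hWe⟩
  let β₀ : σ''.obj (triv H W) ⟶ etaOf E := arr σ'' (etaOf E) (𝟙 W)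
  let r : Mod.RelSect (bq q) F'.obj (triv H W) := Leray.toRel σ'' (etaOf E) s' (triv H W) β₀
  obtain ⟨m, hm⟩ := (hP' (triv H W) hz₀ j₀ (𝟙 _) (hid _)).2 r
  have hY : IsAffine (sch (AlgSt.BG Scheme.fppfPrecoverage H) (triv H (H ⊗ W))) := isAffine_tensor W hW
  have hinv : IsInv (𝟙 H) A'.obj m := by
    refine isInv_of_univ ?_
    apply (hP' (triv H (H ⊗ W)) hY j₀ (trivMap H (snd H W)) (flat_snd_left H W)).1
    rw [P'.comm _ hY hz₀, P'.comm _ hY hz₀, hm]
    apply Mod.RelSect.ext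
    intro θ α
    rw [relRes_val, relRes_val]
    change s'.1 θ (σ''.map (α ≫ rm (fst H W ≫ 𝟙 H) ≫ trivMap H (snd H W)) ≫ β₀) =
      s'.1 θ (σ''.map (α ≫ trivMap H (snd H W)) ≫ β₀)
    rw [map_arr, map_arr]
    congr 2
  obtain ⟨t', ht₁⟩ := exists_sect (σ := σ'') (w₀ := etaOf E) A' hW m hinv
  obtain ⟨tt, htt⟩ := h'' (F := A) (G := A') ⟨t⟩ hsurj E hE t'
  obtain ⟨s, hs⟩ := exists_leray P σ'' (etaOf E) tt
  refine ⟨s, BGInv.sect_ext F' ?_⟩
  have hx : IsAffine (sch (AlgSt.BG Scheme.fppfPrecoverage G) (triv G W)) := hW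
  rw [Mod.relSectMap_val]
  let γ : σ''.obj ((bq q).obj (triv G W)) ⟶ etaOf E := arr (BasedFunctor.comp (bq q) σ'') (etaOf E) (𝟙 W)
  have e1 := hs (triv G W) hx γ
  refine (congrArg (fun k => (u.hom.app (triv G W)).app ⊤ k) e1).trans ?_
  have e2 : (u.hom.app (triv G W)).app ⊤
      ((P.ev ((bq q).obj (triv G W)) (isAffine_bq hx) (tt.1 ((bq q).obj (triv G W)) γ)).1 (triv G W) (𝟙 _)) =
      (P'.ev ((bq q).obj (triv G W)) (isAffine_bq hx)
        ((t.app _).app ⊤ (tt.1 ((bq q).obj (triv G W)) γ))).1 (triv G W) (𝟙 _) := by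
    rw [ht', Mod.relSectMap_val]
  rw [e2]
  have hiso : IsIso (th q (A := triv G W) (one G W)) := isIso_one q W
  let c : (bq q).obj (triv G W) ⟶ triv H W := inv (th q (A := triv G W) (one G W))
  have e3 : (t.app _).app ⊤ (tt.1 ((bq q).obj (triv G W)) γ) = t'.1 ((bq q).obj (triv G W)) γ :=
    congrArg (fun k : Mod.RelSect σ'' A'.obj (etaOf E) => k.1 ((bq q).obj (triv G W)) γ) htt
  have e4 : γ = σ''.map c ≫ β₀ := by
    have h0 : σ''.map (th q (A := triv G W) (one G W)) ≫ σ''.map c = 𝟙 _ := by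
      rw [← Functor.map_comp, IsIso.hom_inv_id, CategoryTheory.Functor.map_id]
    have h1 : IsIso (σ''.map (th q (A := triv G W) (one G W))) := inferInstance
    rw [← cancel_epi (σ''.map (th q (A := triv G W) (one G W))), ← Category.assoc, h0, Category.id_comp]
    apply arr_ext
    rw [baseOver_arr, ← map_comp_baseOver]
    have h2 := th_lift q (A := triv G W) (one G W)
    have h3 : one G W ≫ (triv G W).π = 𝟙 W := one_π W
    rw [h3] at h2
    have h4 : (AlgSt.BG Scheme.fppfPrecoverage H).p.map (th q (A := triv G W) (one G W)) = _ :=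
      IsHomLift.fac' (AlgSt.BG Scheme.fppfPrecoverage H).p (𝟙 W) (th q (A := triv G W) (one G W))
    rw [h4]
    have h5 : baseOver σ'' ((bq q).obj (triv G W)) γ = eqToHom ((bq q).w_obj (triv G W)) := by
      change eqToHom _ ≫ eqToHom _ ≫ 𝟙 W = _
      rw [eqToHom_trans_assoc]
      exact Category.comp_id _
    rw [h5]
    simp
    rfl
  have e5 : t'.1 ((bq q).obj (triv G W)) γ = A'.obj.mapTop c m := by
    rw [e4, ← t'.2 c β₀]
    exact congrArg (fun k => A'.obj.mapTop c k) ht₁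
  rw [e3, e5, P'.comm c (isAffine_bq hx) hz₀, hm, relRes_val, Category.id_comp]
  change s'.1 (triv G W) (σ''.map c ≫ β₀) = _
  rw [← e4]
  rfl

end K908.BGExt
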