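import Groth.Agent.CohqA.BaseChangeMod
import Mathlib.AlgebraicGeometry.Modules.Sheaf
import Mathlib.Topology.Sheaves.SheafCondition.UniqueGluing
import Mathlib.RingTheory.Flat.FaithfullyFlat.Basic
import Groth.Agent.Etbase.FFExact

/-!
# Complements on semilinear base change and on gluing of sections of modules on schemes
-/

set_option autoImplicit false
set_option linter.dupNamespace false
set_option linter.unusedVariables false
set_option linter.style.haveILetI false

universe u

open CategoryTheory AlgebraicGeometry Opposite TopologicalSpace TensorProduct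

namespace K908.BC

open Groth.Agent.CohqA.BaseChangeMod

section Alg

variable {A B : Type u} [CommRing A] [CommRing B] {M N : Type u} [AddCommGroup M] [Module A M]
  [AddCommGroup N] [Module B N]

/-- A base change along a bijective ring homomorphism is bijective. -/
theorem bijective_of_bijective {φ : A →+* B} (hφ : Function.Bijective φ) {f : M →+ N} (h : IsBC φ f) :
    Function.Bijective f := by
  let e : A ≃+* B := RingEquiv.ofBijective φ hφ
  have he : ∀ a, e.symm (φ a) = a := e.symm_apply_apply
  letI : Module B M := Module.compHom M e.symm.toRingHom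
  have hB : ∀ (b : B) (x : M), b • x = e.symm b • x := fun b x => rfl
  have h1 : IsBC φ (AddMonoidHom.id M) := by
    refine IsBC.of_bijective φ hφ _ Function.bijective_id ?_
    intro r x
    change r • x = e.symm (φ r) • x
    rw [he]
  let g : M →ₗ[B] N := { f with
    map_smul' := fun b x => by
      change f (e.symm b • x) = b • f x
      rw [h.map_smul]
      congr 1
      exact e.apply_symm_apply b }
  exact h1.bijective_of_isBC h g (fun x => rfl)

/-- Comparison of the two forms of semilinear base change. -/
theorem isBC_iff_ff (φ : A →+* B) (f : M →+ N) : IsBC φ f ↔ Groth.Agent.Etbase.FFExact.IsBC φ f := by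
  let : Algebra A B := φ.toAlgebra
  let : Module A N := Module.compHom N φ
  have : IsScalarTower A B N := ⟨fun a b m => by
      change (φ a * b) • m = φ a • b • m
      rw [mul_smul]⟩
  constructor
  · intro h
    exact ⟨h.map_smul, (isBC_iff_isBaseChange ({ toFun := f, map_add' := f.map_add, map_smul' := h.map_smul } :
      M →ₗ[A] N)).1 h⟩
  · rintro ⟨h1, h2⟩
    exact (isBC_iff_isBaseChange ({ toFun := f, map_add' := f.map_add, map_smul' := h1 } :
      M →ₗ[A] N)).2 h2

/-- Base change is stable under restriction along pushout squares of rings. -/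
theorem isBC_of_isPushout {A B A' B' : Type u} [CommRing A] [CommRing B] [CommRing A'] [CommRing B']
    (α : A →+* A') (φ : A →+* B) (φ' : A' →+* B') (β : B →+* B')
    (hpush : IsPushout (CommRingCat.ofHom φ) (CommRingCat.ofHom α) (CommRingCat.ofHom β)
      (CommRingCat.ofHom φ'))
    {M M' : Type u} [AddCommGroup M] [AddCommGroup M'] [Module A' M] [Module B' M'] {ψ : M →+ M'}
    [Module A M] [Module B M'] (hM : ∀ (a : A) (m : M), a • m = α a • m)
    (hM' : ∀ (b : B) (m : M'), b • m = β b • m) (h : IsBC φ' ψ) : IsBC φ ψ := by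
  rw [isBC_iff_ff] at h ⊢
  have comm : φ'.comp α = β.comp φ := by
    ext a
    exact congr($(hpush.w).hom a).symm
  refine Groth.Agent.Etbase.FFExact.IsBC.of_isPushout α φ φ' β comm ?_ ψ hM hM' h
  let := α.toAlgebra
  let := φ.toAlgebra
  let := φ'.toAlgebra
  let := β.toAlgebra
  let := (φ'.comp α).toAlgebra
  have : IsScalarTower A A' B' := IsScalarTower.of_algebraMap_eq' rfl
  have : IsScalarTower A B B' := IsScalarTower.of_algebraMap_eq' comm
  exact Algebra.IsPushout.symm (CommRingCat.isPushout_iff_isPushout.1 hpush.flip)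

/-- Faithfully flat base change maps are injective. -/
theorem injective_of_faithfullyFlat {φ : A →+* B} (hφ : φ.FaithfullyFlat) {f : M →+ N} (h : IsBC φ f) :
    Function.Injective f := by
  let := φ.toAlgebra
  have : Module.FaithfullyFlat A B := hφ
  let : Module A N := Module.compHom N φ
  have : IsScalarTower A B N := ⟨fun a b m => by
      change (φ a * b) • m = φ a • b • m
      rw [mul_smul]⟩
  let f' : M →ₗ[A] N := { toFun := f, map_add' := f.map_add, map_smul' := h.map_smul }
  have h1 : IsBaseChange B f' := (isBC_iff_isBaseChange f').1 h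
  rw [injective_iff_map_eq_zero]
  intro m hm
  have h2 : (1 : B) ⊗ₜ[A] m = 0 := by
    apply h1.equiv.injective
    rw [IsBaseChange.equiv_tmul, one_smul, map_zero]
    exact hm
  exact (Module.FaithfullyFlat.one_tmul_eq_zero_iff A M m).1 h2

end Alg

section Glue

variable {X : Scheme.{u}} (M : X.Modules)

theorem sec_ext {ι : Type*} (U : ι → X.Opens) (V : X.Opens) (hU : ∀ i, U i ≤ V) (hV : V ≤ iSup U)
    (s t : Γ(M, V)) (h : ∀ i, M.presheaf.map (homOfLE (hU i)).op s = M.presheaf.map (homOfLE (hU i)).op t) :
    s = t :=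
  TopCat.Sheaf.eq_of_locally_eq' (⟨M.presheaf, M.isSheaf⟩ : TopCat.Sheaf Ab.{u} X) U V
    (fun i => homOfLE (hU i)) hV s t h

theorem sec_glue {ι : Type*} (U : ι → X.Opens) (V : X.Opens) (hU : ∀ i, U i ≤ V) (hV : V ≤ iSup U)
    (s : ∀ i, Γ(M, U i))
    (h : ∀ i j, M.presheaf.map (homOfLE (inf_le_left : U i ⊓ U j ≤ U i)).op (s i) =
      M.presheaf.map (homOfLE (inf_le_right : U i ⊓ U j ≤ U j)).op (s j)) :
    ∃ t : Γ(M, V), ∀ i, M.presheaf.map (homOfLE (hU i)).op t = s i := by
  obtain ⟨t, ht, -⟩ := TopCat.Sheaf.existsUnique_gluing' (⟨M.presheaf, M.isSheaf⟩ : TopCat.Sheaf Ab.{u} X) U V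
    (fun i => homOfLE (hU i)) hV s h
  exact ⟨t, ht⟩

end Glue

end K908.BC
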