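import Groth.Agent.StMod.K907.Closed
import Groth.Agent.StMod.K907.Gen
import Groth.Agent.StMod.K907.Free
import Groth.Agent.StMod.K907.Disj
import Groth.Agent.StMod.K908.BC
import Mathlib.RingTheory.Ideal.MinimalPrime.Localization

/-!
# Points of a closed class with the same values of the global functions
-/

set_option autoImplicit false
set_option linter.unusedVariables false
set_option linter.style.haveILetI false
set_option backward.isDefEq.respectTransparency false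
set_option backward.isDefEq.respectTransparency.types false

universe v' w' v w u

open CategoryTheory CategoryTheory.Limits AlgebraicGeometry Opposite StMod AlgSt

namespace K908.LunaN1

open Groth.Agent.CohqA.BaseChangeMod K906 K907.Alg K907.Sec K907.QDesc K907.Quot K907.Atl K907.Pt K907.Van K907.Closed K907.Free
  K907.Tens K908.AMod

variable {S : Scheme.{u}} {𝒴 : BasedCategory.{v, w} (Over S)} (h𝒴 : FibCat.IsFibGrpd 𝒴.p) (P : Pres 𝒴)
  (W : Set (Points 𝒴))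

/-- The ideal of a closed set over an affine object. -/
noncomputable def II (ξ : 𝒴.obj) (hξ : IsAffine (sch 𝒴 ξ)) : Ideal Γ(sch 𝒴 ξ, ⊤) := allI h𝒴 (smCov_of_pres.{0} P) W ξ

variable {W} (hW : IsCl h𝒴 W)

include hW in
theorem map_II {ξ' ξ : 𝒴.obj} (hξ' : IsAffine (sch 𝒴 ξ')) (hξ : IsAffine (sch 𝒴 ξ)) (φ : ξ' ⟶ ξ) :
    (II h𝒴 P W ξ hξ).map (ringMap φ) = II h𝒴 P W ξ' hξ' := map_allI h𝒴 (smCov_of_pres.{0} P) hW φ

include hW in
theorem ringMap_mem_II {ξ' ξ : 𝒴.obj} (hξ' : IsAffine (sch 𝒴 ξ')) (hξ : IsAffine (sch 𝒴 ξ)) (φ : ξ' ⟶ ξ)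
    {a : Γ(sch 𝒴 ξ, ⊤)} (ha : a ∈ II h𝒴 P W ξ hξ) : ringMap φ a ∈ II h𝒴 P W ξ' hξ' := by
  rw [← map_II h𝒴 P hW hξ' hξ φ]
  exact Ideal.mem_map_of_mem _ ha

include hW in
theorem mem_II_iff {ξ' ξ : 𝒴.obj} (hξ' : IsAffine (sch 𝒴 ξ')) (hξ : IsAffine (sch 𝒴 ξ)) (φ : ξ' ⟶ ξ) (hφ : IsFCov φ)
    {a : Γ(sch 𝒴 ξ, ⊤)} : ringMap φ a ∈ II h𝒴 P W ξ' hξ' ↔ a ∈ II h𝒴 P W ξ hξ := by
  rw [← map_II h𝒴 P hW hξ' hξ φ]
  exact mem_pull_iff (F := OQ 𝒴) φ hφ (N := (II h𝒴 P W ξ hξ : Ideal Γ(sch 𝒴 ξ, ⊤))) (x := a)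

include hW in
theorem II_le_van (ξ : 𝒴.obj) (hξ : IsAffine (sch 𝒴 ξ)) : II h𝒴 P W ξ hξ ≤ van (prei h𝒴 W ξ) :=
  allI_le_van h𝒴 (smCov_of_pres.{0} P) hW ξ

include hW in
theorem II_ζ : II h𝒴 P W P.ζ P.affζ = van (prei h𝒴 W P.ζ) :=
  haveI := P.affζ
  allI_atlas h𝒴 (smCov_of_pres.{0} P) hW PUnit.unit

/-- The affine objects with an arrow to the atlas. -/
def ovA (P : Pres 𝒴) : ASieve 𝒴 where
  P θ := IsAffine (sch 𝒴 θ) ∧ Nonempty (θ ⟶ P.ζ)
  aff _ h := h.1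
  down _ _ φ h h' := ⟨h', h.2.map fun b => φ ≫ b⟩

theorem dense_ovA : K908.Desc.Dense (ovA P) := by
  intro θ hθ
  obtain ⟨z', f, d, h1, h2, h3⟩ := P.cov θ hθ
  exact ⟨⟨z', h1, ⟨d⟩⟩, f, isFCov_of_smooth h2 h3⟩

include h𝒴 hW in
/-- Invariant functions on the atlas modulo the ideal of a closed set come from global functions. -/
theorem exists_fn {B : Type u} [CommRing B] (s : Fn B 𝒴) (hs : IsFn s) (hex : K907.Free.Exact 𝒴) (c : Γ(sch 𝒴 P.ζ, ⊤))
    (hc : ringMap P.s c - ringMap P.t c ∈ II h𝒴 P W P.ρ P.affρ) : ∃ b : B, s.σ P.ζ b - c ∈ II h𝒴 P W P.ζ P.affζ := by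
  haveI := h𝒴
  have hZ := smCov_of_pres.{0} P
  have hK := compat_fam h𝒴 hZ hW
  obtain ⟨Q, q, hq, hker⟩ := exists_quotient_atlas h𝒴 hZ.covers (OQ 𝒴) hK
  have hker' : ∀ (ξ : 𝒴.obj) (hξ : IsAffine (sch 𝒴 ξ)) (a b : Γ(sch 𝒴 ξ, ⊤)),
      (q.hom.app ξ).app ⊤ a = (q.hom.app ξ).app ⊤ b ↔ a - b ∈ II h𝒴 P W ξ hξ := by
    intro ξ hξ a b
    refine Iff.trans ?_ (hker ξ (show Γ(sch 𝒴 ξ, ⊤) from (a - b)))
    have e1 : (q.hom.app ξ).app ⊤ (show Γ(sch 𝒴 ξ, ⊤) from (a - b)) = (q.hom.app ξ).app ⊤ a - (q.hom.app ξ).app ⊤ b :=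
      map_sub ((q.hom.app ξ).app ⊤).hom a b
    rw [e1, sub_eq_zero]
  have key : ∀ (z : 𝒴.obj) (hz : IsAffine (sch 𝒴 z)) (a b : z ⟶ P.ζ), ringMap a c - ringMap b c ∈ II h𝒴 P W z hz := by
    intro z hz a b
    obtain ⟨z', f, e, hz', h1, h2, h3, h4⟩ := P.lift z a b hz
    rw [← mem_II_iff h𝒴 P hW hz' hz f (isFCov_of_smooth inferInstance h2)]
    have h5 := ringMap_mem_II h𝒴 P hW hz' P.affρ e hc
    rw [map_sub, ← RingHom.comp_apply, ← RingHom.comp_apply, ← ringMap_comp, ← ringMap_comp, h3, h4, ringMap_comp,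
      ringMap_comp, RingHom.comp_apply, RingHom.comp_apply, ← map_sub] at h5
    exact h5
  obtain ⟨e, he⟩ := K908.Dense.exists_globSect (dense_ovA P) Q
    (fun θ => (q.hom.app θ.obj).app ⊤ (ringMap θ.property.2.some c)) (by
      intro ζ' ζ φ
      rw [Mod.mapTop_app]
      refine (hker' ζ'.obj ζ'.property.1 _ _).2 ?_
      have h1 := key ζ'.obj ζ'.property.1 (φ.hom ≫ ζ.property.2.some) ζ'.property.2.some
      rw [ringMap_comp] at h1
      exact h1)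
  obtain ⟨t, ht⟩ := hex q hq e
  obtain ⟨b, hb⟩ := hs.2 t
  refine ⟨b, ?_⟩
  rw [← hker']
  have h1 : t.1 P.ζ = s.σ P.ζ b := by rw [← hb]; rfl
  have h2 : (q.hom.app P.ζ).app ⊤ (t.1 P.ζ) = e.1 P.ζ := by
    rw [← ht]
    rfl
  rw [← h1, h2]
  let θ : (ovA P).cat.obj := ⟨P.ζ, P.affζ, ⟨𝟙 _⟩⟩
  refine (he θ).trans ?_
  refine (hker' P.ζ P.affζ _ _).2 ?_
  have h3 := key P.ζ P.affζ θ.property.2.some (𝟙 _)
  rw [ringMap_id] at h3
  exact h3

section Transfer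

theorem isBC_self {A B : Type u} [CommRing A] [CommRing B] (φ : A →+* B) : IsBC φ (φ : A →+* B).toAddMonoidHom := by
  refine ⟨fun r x => by simp, ?_⟩
  intro Q _ _ g hg
  refine ⟨LinearMap.toSpanSingleton B Q (g 1), ?_, ?_⟩
  · intro r
    change φ r • g 1 = g r
    rw [← hg, smul_eq_mul, mul_one]
  · intro g' hg'
    apply LinearMap.ext_ring
    have := hg' 1
    change g' (φ 1) = g 1 at this
    rw [map_one] at this
    rw [this]
    simp

/-- Flat base change of linear relations. -/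
theorem rel_transfer {R R' G G' : Type u} [CommRing R] [CommRing R'] [CommRing G] [CommRing G'] (α : R →+* G)
    (φ : R →+* R') (φ' : G →+* G') (β : R' →+* G')
    (hpush : IsPushout (CommRingCat.ofHom φ) (CommRingCat.ofHom α) (CommRingCat.ofHom β) (CommRingCat.ofHom φ'))
    (hφ : φ.Flat) {ι : Type u} (v : ι → G) (c' : ι →₀ R') (hc' : (c'.sum fun i r => β r * φ' (v i)) = 0)
    (N : Submodule R' (ι →₀ R')) (hN : ∀ c : ι →₀ R, (c.sum fun i r => α r * v i) = 0 → frMap φ ι c ∈ N) : c' ∈ N := by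
  letI : Module R G := Module.compHom G α
  letI : Module R' G' := Module.compHom G' β
  let d : (ι →₀ R) →ₗ[R] G := Finsupp.linearCombination R v
  let d' : (ι →₀ R') →ₗ[R'] G' := Finsupp.linearCombination R' (fun i => φ' (v i))
  have hg : IsBC φ φ'.toAddMonoidHom :=
    K908.BC.isBC_of_isPushout α φ φ' β hpush (fun _ _ => rfl) (fun _ _ => rfl) (isBC_self φ')
  have hw : ∀ r, φ' (α r) = β (φ r) := fun r => (congrArg (fun k => k.hom r) hpush.w).symm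
  have comm : ∀ x, d' (frMap φ ι x) = φ'.toAddMonoidHom (d x) := by
    intro x
    induction x using Finsupp.induction_linear with
    | zero => simp
    | add x y hx hy => rw [map_add, map_add, map_add, map_add, hx, hy]
    | single i r =>
      have e1 : frMap φ ι (Finsupp.single i r) = Finsupp.single i (φ r) := by
        change Finsupp.mapRange.addMonoidHom φ.toAddMonoidHom (Finsupp.single i r) = _
        rw [Finsupp.mapRange.addMonoidHom_apply, Finsupp.mapRange_single]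
        rfl
      rw [e1]
      change Finsupp.linearCombination R' (fun i => φ' (v i)) (Finsupp.single i (φ r)) =
        φ' (Finsupp.linearCombination R v (Finsupp.single i r))
      rw [Finsupp.linearCombination_single, Finsupp.linearCombination_single]
      change β (φ r) * φ' (v i) = φ' (α r * v i)
      rw [map_mul, hw]
  have h1 := ext_ker_eq hφ (isBC_frMap φ ι) hg d d' comm
  have h2 : c' ∈ LinearMap.ker d' := hc'
  rw [← h1] at h2
  refine (ext_le (frMap φ ι)).2 ?_ h2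
  intro x hx
  exact hN x hx

end Transfer

section Rel

variable {u : 𝒴.obj} {ι : Type u} (e : ι → Γ(sch 𝒴 u, ⊤))

/-- A linear combination over an object with arrows to `w` and `u`. -/
noncomputable def rl {z w : 𝒴.obj} (α : z ⟶ w) (β : z ⟶ u) (c : ι →₀ Γ(sch 𝒴 w, ⊤)) : Γ(sch 𝒴 z, ⊤) :=
  c.sum fun i r => ringMap α r * ringMap β (e i)

theorem rl_add {z w : 𝒴.obj} (α : z ⟶ w) (β : z ⟶ u) (c c' : ι →₀ Γ(sch 𝒴 w, ⊤)) :
    rl e α β (c + c') = rl e α β c + rl e α β c' := by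
  unfold rl
  rw [Finsupp.sum_add_index']
  · intro i
    rw [map_zero, zero_mul]
  · intro i a b
    rw [map_add, add_mul]

theorem rl_zero {z w : 𝒴.obj} (α : z ⟶ w) (β : z ⟶ u) : rl e α β (0 : ι →₀ Γ(sch 𝒴 w, ⊤)) = 0 := Finsupp.sum_zero_index

theorem rl_single {z w : 𝒴.obj} (α : z ⟶ w) (β : z ⟶ u) (i : ι) (r : Γ(sch 𝒴 w, ⊤)) :
    rl e α β (Finsupp.single i r) = ringMap α r * ringMap β (e i) := by
  unfold rl
  rw [Finsupp.sum_single_index]
  rw [map_zero, zero_mul]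

theorem rl_neg {z w : 𝒴.obj} (α : z ⟶ w) (β : z ⟶ u) (c : ι →₀ Γ(sch 𝒴 w, ⊤)) :
    rl e α β (-c) = - rl e α β c := by
  rw [eq_neg_iff_add_eq_zero, ← rl_add, neg_add_cancel, rl_zero]

theorem rl_sub {z w : 𝒴.obj} (α : z ⟶ w) (β : z ⟶ u) (c c' : ι →₀ Γ(sch 𝒴 w, ⊤)) :
    rl e α β (c - c') = rl e α β c - rl e α β c' := by
  rw [sub_eq_add_neg, rl_add, rl_neg, ← sub_eq_add_neg]

theorem rl_smul {z w : 𝒴.obj} (α : z ⟶ w) (β : z ⟶ u) (a : Γ(sch 𝒴 w, ⊤)) (c : ι →₀ Γ(sch 𝒴 w, ⊤)) :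
    rl e α β (a • c) = ringMap α a * rl e α β c := by
  induction c using Finsupp.induction_linear with
  | zero => rw [smul_zero, rl_zero, mul_zero]
  | add x y hx hy => rw [smul_add, rl_add, rl_add, hx, hy, mul_add]
  | single i r => rw [Finsupp.smul_single, rl_single, rl_single, smul_eq_mul, map_mul, mul_assoc]

theorem ringMap_rl {z' z w : 𝒴.obj} (f : z' ⟶ z) (α : z ⟶ w) (β : z ⟶ u) (c : ι →₀ Γ(sch 𝒴 w, ⊤)) :
    ringMap f (rl e α β c) = rl e (f ≫ α) (f ≫ β) c := by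
  unfold rl
  rw [Finsupp.sum, Finsupp.sum, map_sum]
  refine Finset.sum_congr rfl fun i _ => ?_
  rw [map_mul, ringMap_comp, ringMap_comp]
  rfl

theorem rl_frMap {z w w' : 𝒴.obj} (d : w' ⟶ w) (α : z ⟶ w') (β : z ⟶ u) (c : ι →₀ Γ(sch 𝒴 w, ⊤)) :
    rl e α β (frMap (ringMap d) ι c) = rl e (α ≫ d) β c := by
  induction c using Finsupp.induction_linear with
  | zero => rw [map_zero, rl_zero, rl_zero]
  | add x y hx hy => rw [map_add, rl_add, rl_add, hx, hy]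
  | single i r =>
    have e1 : frMap (ringMap d) ι (Finsupp.single i r) = Finsupp.single i (ringMap d r) := by
      change Finsupp.mapRange.addMonoidHom (ringMap d).toAddMonoidHom (Finsupp.single i r) = _
      rw [Finsupp.mapRange.addMonoidHom_apply, Finsupp.mapRange_single]
      rfl
    rw [e1, rl_single, rl_single, ringMap_comp]
    rfl

variable {e}

/-- A chart of the product of the atlas with an affine object. -/
structure Ch (P : Pres 𝒴) (u : 𝒴.obj) where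
  H : 𝒴.obj
  k : H ⟶ P.ζ
  l : H ⟶ u
  aff : IsAffine (sch 𝒴 H)
  fac : ∀ (z : 𝒴.obj) (α : z ⟶ P.ζ) (β : z ⟶ u), IsAffine (sch 𝒴 z) → ∃ (z' : 𝒴.obj) (f : z' ⟶ z) (κ : z' ⟶ H),
      IsAffine (sch 𝒴 z') ∧ IsFCov f ∧ κ ≫ k = f ≫ α ∧ κ ≫ l = f ≫ β

include h𝒴 in
/-- The chart of the product of the atlas with an affine object. -/
theorem nonempty_ch (u : 𝒴.obj) (hu : IsAffine (sch 𝒴 u)) : Nonempty (Ch P u) := by
  obtain ⟨v, g, d, hv, hg1, hg2⟩ := P.cov u hu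
  obtain ⟨H, k₁, k₂, hH⟩ := Grpd.exists_isPullback h𝒴 P.t d
  haveI := P.affζ
  haveI := P.affρ
  have hHa : IsAffine (sch 𝒴 H) := isAffine_of_isPullback (Grpd.isPullback_bmap h𝒴 hH)
  refine ⟨⟨H, k₁ ≫ P.s, k₂ ≫ g, hHa, ?_⟩⟩
  intro z α β hz
  obtain ⟨z₁, f₁, β₁, hz₁⟩ := Grpd.exists_isPullback h𝒴 β g
  have hsq := Grpd.isPullback_bmap h𝒴 hz₁
  have hz₁a : IsAffine (sch 𝒴 z₁) := isAffine_of_isPullback hsq
  have hf₁ : IsFCov f₁ := IsFCov.of_isPullback hsq.flip (isFCov_of_smooth hg1 hg2)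
  obtain ⟨z₂, f₂, e₂, hz₂, h1, h2, h3, h4⟩ := P.lift z₁ (f₁ ≫ α) (β₁ ≫ d) hz₁a
  refine ⟨z₂, f₂ ≫ f₁, hH.lift e₂ (f₂ ≫ β₁) (by rw [h4, Category.assoc]), hz₂,
    (isFCov_of_smooth inferInstance h2).comp hf₁, ?_, ?_⟩
  · rw [← Category.assoc, hH.lift_fst, h3, Category.assoc]
  · rw [← Category.assoc, hH.lift_snd, Category.assoc, ← hz₁.w, Category.assoc]

theorem ringMap_injective {z' z : 𝒴.obj} (f : z' ⟶ z) (hz' : IsAffine (sch 𝒴 z')) (hz : IsAffine (sch 𝒴 z)) (hf : IsFCov f)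
    {a b : Γ(sch 𝒴 z, ⊤)} (h : ringMap f a = ringMap f b) : a = b :=
  K907.Gen.mapTop_injective (OQ 𝒴) f hz hz' hf (x := a) (y := b) h

variable {P}

/-- A relation on the chart holds everywhere. -/
theorem rl_eq_zero (C : Ch P u) {c : ι →₀ Γ(sch 𝒴 P.ζ, ⊤)} (h : rl e C.k C.l c = 0) {z : 𝒴.obj} (α : z ⟶ P.ζ) (β : z ⟶ u)
    (hz : IsAffine (sch 𝒴 z)) : rl e α β c = 0 := by
  obtain ⟨z', f, κ, hz', hf, h1, h2⟩ := C.fac z α β hz
  refine ringMap_injective f hz' hz hf ?_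
  rw [map_zero, ringMap_rl, ← h1, ← h2, ← ringMap_rl, h, map_zero]

include h𝒴 in
/-- Flat base change of the relations. -/
theorem mem_of_flat (C : Ch P u) {ξ : 𝒴.obj} (hξ : IsAffine (sch 𝒴 ξ)) (d : ξ ⟶ P.ζ) (hd : Flat (bmap 𝒴 d))
    (c' : ι →₀ Γ(sch 𝒴 ξ, ⊤)) (hc' : ∀ (z : 𝒴.obj) (α : z ⟶ ξ) (β : z ⟶ u), IsAffine (sch 𝒴 z) → rl e α β c' = 0)
    (N : Submodule Γ(sch 𝒴 ξ, ⊤) (ι →₀ Γ(sch 𝒴 ξ, ⊤)))
    (hN : ∀ c : ι →₀ Γ(sch 𝒴 P.ζ, ⊤), rl e C.k C.l c = 0 → frMap (ringMap d) ι c ∈ N) : c' ∈ N := by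
  obtain ⟨H', k', p, hH'⟩ := Grpd.exists_isPullback h𝒴 d C.k
  haveI := P.affζ
  haveI := C.aff
  have hsq := Grpd.isPullback_bmap h𝒴 hH'
  have hH'a : IsAffine (sch 𝒴 H') := isAffine_of_isPullback hsq
  have hpush := isPushout_appTop_of_isPullback hsq
  refine rel_transfer (ringMap C.k) (ringMap d) (ringMap p) (ringMap k') hpush (ringMap_flat d hd)
    (fun i => ringMap C.l (e i)) c' ?_ N hN
  have h1 := hc' H' k' (p ≫ C.l) hH'a
  unfold rl at h1
  rw [ringMap_comp] at h1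
  exact h1

end Rel

section Link

include h𝒴 in
/-- Points of the same class are linked by an affine object. -/
theorem exists_link {ξ ξ' : 𝒴.obj} {c : ↥(sch 𝒴 ξ)} {c' : ↥(sch 𝒴 ξ')} (h : pt h𝒴 ξ c = pt h𝒴 ξ' c') :
    ∃ (z : 𝒴.obj) (a : z ⟶ ξ) (a' : z ⟶ ξ'), IsAffine (sch 𝒴 z) ∧ Nonempty ↥(sch 𝒴 z) ∧ (∀ t, bmap 𝒴 a t = c) ∧
      ∀ t, bmap 𝒴 a' t = c' := by
  obtain ⟨r, a, b, -⟩ := (K735.Pts.mk_eq_mk_iff h𝒴).1 h
  have hr : IsAffine (sch 𝒴 r.obj) := by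
    change IsAffine (𝒴.p.obj r.obj).left
    rw [r.lies]
    change IsAffine (Spec (CommRingCat.of r.K))
    infer_instance
  have key : ∀ {η : 𝒴.obj} {s : ↥(sch 𝒴 η)} (c : r.obj ⟶ (fpt h𝒴 η s).obj) (t : ↥(sch 𝒴 r.obj)),
      bmap 𝒴 (c ≫ fptArr h𝒴 η s) t = s := by
    intro η s c t
    rw [bmap_comp]
    change bmap 𝒴 (fptArr h𝒴 η s) (bmap 𝒴 c t) = s
    rw [eq_ptt (fpt h𝒴 η s) (bmap 𝒴 c t), bmap_fptArr_ptt]
  exact ⟨r.obj, a ≫ fptArr h𝒴 ξ c, b ≫ fptArr h𝒴 ξ' c', hr, ⟨ptt r⟩, key a, key b⟩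

/-- An invariant ideal on the atlas containing the ideal of a one-point closed set is this ideal or the unit ideal. -/
theorem dichotomy {x : Points 𝒴} (hx : IsCl h𝒴 {x}) (J : Ideal Γ(sch 𝒴 P.ζ, ⊤)) (hI : II h𝒴 P {x} P.ζ P.affζ ≤ J)
    (hinv : ∀ a ∈ J, ringMap P.s a ∈ J.map (ringMap P.t)) {a : Γ(sch 𝒴 P.ζ, ⊤)} (ha : a ∈ J)
    (hne : a ∉ II h𝒴 P {x} P.ζ P.affζ) : J = ⊤ := by
  by_contra htop
  obtain ⟨m, hm, hJm⟩ := Ideal.exists_le_maximal J htop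
  haveI := P.affζ
  obtain ⟨c', hc'⟩ := (sp_bijective (X := sch 𝒴 P.ζ)).2 ⟨m, hm.isPrime⟩
  have hc'm : (sp c').asIdeal = m := congrArg PrimeSpectrum.asIdeal hc'
  rw [II_ζ h𝒴 P hx, mem_van] at hne
  push Not at hne
  obtain ⟨c, hc, hac⟩ := hne
  have hc'x : c' ∈ prei h𝒴 {x} P.ζ := mem_of_forall_van (hx P.ζ P.affζ) fun f hf => by
    rw [hc'm]
    refine hJm (hI ?_)
    rw [II_ζ h𝒴 P hx]
    exact hf
  have hcc : pt h𝒴 P.ζ c = pt h𝒴 P.ζ c' := by
    have h1 : pt h𝒴 P.ζ c = x := hc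
    have h2 : pt h𝒴 P.ζ c' = x := hc'x
    rw [h1, h2]
  obtain ⟨z, a₁, a₂, hz, ⟨t₀⟩, h1, h2⟩ := exists_link h𝒴 hcc
  obtain ⟨z', f, e, hz', hf1, hf2, h3, h4⟩ := P.lift z a₁ a₂ hz
  obtain ⟨t, ht⟩ := hf2.surj t₀
  have h5 : ringMap e (ringMap P.s a) ∈ (J.map (ringMap P.t)).map (ringMap e) := Ideal.mem_map_of_mem _ (hinv a ha)
  rw [Ideal.map_map, ← ringMap_comp, h4, ← RingHom.comp_apply, ← ringMap_comp, h3] at h5
  have h6 : J.map (ringMap (f ≫ a₂)) ≤ (sp t).asIdeal := by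
    rw [Ideal.map_le_iff_le_comap]
    intro b hb
    rw [Ideal.mem_comap]
    change (bmap 𝒴 (f ≫ a₂)).appTop b ∈ (sp t).asIdeal
    rw [← mem_sp_comp]
    have h7 : bmap 𝒴 (f ≫ a₂) t = c' := by
      rw [bmap_comp]
      exact h2 _
    rw [h7, hc'm]
    exact hJm hb
  have h8 := h6 h5
  have h9 : (bmap 𝒴 (f ≫ a₁)).appTop a ∈ (sp t).asIdeal := h8
  rw [← mem_sp_comp] at h9
  have h10 : bmap 𝒴 (f ≫ a₁) t = c := by
    rw [bmap_comp]
    exact h1 _
  rw [h10] at h9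
  exact hac h9

end Link

section Main

variable {B : Type u} [CommRing B] (s : Fn B 𝒴)

/-- Independence over the global functions. -/
def Ind (u : 𝒴.obj) {ι : Type u} (e : ι → Γ(sch 𝒴 u, ⊤)) : Prop :=
  ∀ b : ι →₀ B, (b.sum fun i r => s.σ u r * e i) = 0 → ∀ i, s.σ u (b i) = 0

theorem rl_option {u : 𝒴.obj} {ι : Type u} (e : Option ι → Γ(sch 𝒴 u, ⊤)) {z w : 𝒴.obj} (α : z ⟶ w) (β : z ⟶ u)
    (c : Option ι →₀ Γ(sch 𝒴 w, ⊤)) :
    rl e α β c = ringMap α (c none) * ringMap β (e none) + rl (fun i => e (some i)) α β c.some := by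
  unfold rl
  refine Finsupp.sum_option_index c _ ?_ ?_
  · intro i
    rw [map_zero, zero_mul]
  · intro i a b
    rw [map_add, add_mul]

theorem Ind.some {u : 𝒴.obj} {ι : Type u} {e : Option ι → Γ(sch 𝒴 u, ⊤)} (he : Ind s u e) :
    Ind s u (fun i => e (some i)) := by
  intro b hb i
  have h1 := he (b.optionElim 0) (by
    rw [Finsupp.sum_option_index]
    · rw [Finsupp.optionElim_apply_none, map_zero, zero_mul, zero_add, Finsupp.some_optionElim]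
      exact hb
    · intro i
      rw [map_zero, zero_mul]
    · intro i a b
      rw [map_add, add_mul]) (Option.some i)
  rwa [Finsupp.optionElim_apply_some] at h1

theorem frMap_apply' {R R' : Type u} [CommRing R] [CommRing R'] (φ : R →+* R') {ι : Type u} (c : ι →₀ R) (i : ι) :
    (frMap φ ι c : ι →₀ R') i = φ (c i) := rfl

/-- Independent elements of the field under a point of a closed class satisfy no relation over the atlas. -/
theorem rel_indep (hs : IsFn s) (hex : K907.Free.Exact 𝒴) {x : Points 𝒴} (hx : IsCl h𝒴 {x}) {u : 𝒴.obj}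
    (hu : IsAffine (sch 𝒴 u)) (hune : Nonempty ↥(sch 𝒴 u)) (hIu : II h𝒴 P {x} u hu = ⊥) (C : Ch P u)
    (ι : Type u) [Finite ι] : ∀ (e : ι → Γ(sch 𝒴 u, ⊤)), Ind s u e → ∀ c : ι →₀ Γ(sch 𝒴 P.ζ, ⊤), rl e C.k C.l c = 0 →
      ∀ i, c i ∈ II h𝒴 P {x} P.ζ P.affζ := by
  have hIz : ∀ (z : 𝒴.obj) (hz : IsAffine (sch 𝒴 z)) (β : z ⟶ u), II h𝒴 P {x} z hz = ⊥ := by
    intro z hz β
    rw [← map_II h𝒴 P hx hz hu β, hIu, Ideal.map_bot]
  have hkill : ∀ (z w : 𝒴.obj) (hz : IsAffine (sch 𝒴 z)) (hw : IsAffine (sch 𝒴 w)) (α : z ⟶ w) (β : z ⟶ u)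
      (a : Γ(sch 𝒴 w, ⊤)), a ∈ II h𝒴 P {x} w hw → ringMap α a = 0 := by
    intro z w hz hw α β a ha
    have h1 := ringMap_mem_II h𝒴 P hx hz hw α ha
    rw [hIz z hz β] at h1
    exact h1
  refine Finite.induction_empty_option (P := fun ι : Type u => ∀ (e : ι → Γ(sch 𝒴 u, ⊤)), Ind s u e →
    ∀ c : ι →₀ Γ(sch 𝒴 P.ζ, ⊤), rl e C.k C.l c = 0 → ∀ i, c i ∈ II h𝒴 P {x} P.ζ P.affζ) ?_ ?_ ?_ ι
  · intro α β σ h e he c hc i
    have h1 := h (fun a => e (σ a)) (by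
      intro b hb a
      have h2 := he (b.mapDomain σ) (by
        rw [Finsupp.sum_mapDomain_index]
        · exact hb
        · intro i
          rw [map_zero, zero_mul]
        · intro i a b
          rw [map_add, add_mul]) (σ a)
      rwa [Finsupp.mapDomain_apply σ.injective] at h2) (c.mapDomain σ.symm) (by
      unfold rl
      rw [Finsupp.sum_mapDomain_index]
      · simp only [Equiv.apply_symm_apply]
        exact hc
      · intro i
        rw [map_zero, zero_mul]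
      · intro i a b
        rw [map_add, add_mul]) (σ.symm i)
    rwa [Finsupp.mapDomain_apply σ.symm.injective] at h1
  · intro e he c hc i
    exact i.elim
  · intro α _ IH e he c hc
    have he' := he.some s
    let e' : α → Γ(sch 𝒴 u, ⊤) := fun i => e (some i)
    have key1 : ∀ c : Option α →₀ Γ(sch 𝒴 P.ζ, ⊤), rl e C.k C.l c = 0 → c none ∈ II h𝒴 P {x} P.ζ P.affζ →
        ∀ i, c i ∈ II h𝒴 P {x} P.ζ P.affζ := by
      intro c hc h0 i
      cases i with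
      | none => exact h0
      | some i =>
        rw [rl_option, hkill C.H P.ζ C.aff P.affζ C.k C.l _ h0, zero_mul, zero_add] at hc
        exact IH e' he' c.some hc i
    refine key1 c hc ?_
    by_contra hcn
    haveI := P.affζ
    haveI := P.affρ
    -- the ideal of the values at `none`
    let N : Submodule Γ(sch 𝒴 P.ζ, ⊤) (Option α →₀ Γ(sch 𝒴 P.ζ, ⊤)) :=
      { carrier := {c | rl e C.k C.l c = 0}
        add_mem' := fun {a b} ha hb => by
          change rl e C.k C.l (a + b) = 0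
          rw [rl_add, show rl e C.k C.l a = 0 from ha, show rl e C.k C.l b = 0 from hb, add_zero]
        zero_mem' := rl_zero e C.k C.l
        smul_mem' := fun r a ha => by
          change rl e C.k C.l (r • a) = 0
          rw [rl_smul, show rl e C.k C.l a = 0 from ha, mul_zero] }
    let J : Ideal Γ(sch 𝒴 P.ζ, ⊤) := N.map (Finsupp.lapply none)
    have hIJ : II h𝒴 P {x} P.ζ P.affζ ≤ J := by
      intro a ha
      refine ⟨Finsupp.single none a, ?_, ?_⟩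
      · change rl e C.k C.l (Finsupp.single none a) = 0
        rw [rl_single, hkill C.H P.ζ C.aff P.affζ C.k C.l _ ha, zero_mul]
      · change (Finsupp.single none a : Option α →₀ Γ(sch 𝒴 P.ζ, ⊤)) none = a
        rw [Finsupp.single_eq_same]
    have hsm : Flat (bmap 𝒴 P.s) := by
      have := P.smooth_s
      infer_instance
    have htm : Flat (bmap 𝒴 P.t) := by
      have := P.smooth_t
      infer_instance
    have hinv : ∀ a ∈ J, ringMap P.s a ∈ J.map (ringMap P.t) := by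
      rintro _ ⟨c, hc, rfl⟩
      have hc0 : rl e C.k C.l c = 0 := hc
      let N' : Submodule Γ(sch 𝒴 P.ρ, ⊤) (Option α →₀ Γ(sch 𝒴 P.ρ, ⊤)) :=
        Submodule.comap (Finsupp.lapply none) (J.map (ringMap P.t) : Ideal Γ(sch 𝒴 P.ρ, ⊤))
      have h1 : (frMap (ringMap P.s) (Option α) c : Option α →₀ Γ(sch 𝒴 P.ρ, ⊤)) ∈ N' := by
        refine mem_of_flat h𝒴 (e := e) C P.affρ P.t htm _ ?_ N' ?_
        · intro z α₁ β hz
          rw [rl_frMap]
          exact rl_eq_zero C hc0 _ β hz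
        · intro c' hc'
          change ringMap P.t (c' none) ∈ J.map (ringMap P.t)
          exact Ideal.mem_map_of_mem _ ⟨c', hc', rfl⟩
      exact h1
    have hJ := dichotomy h𝒴 P hx J hIJ hinv (a := c none) ⟨c, hc, rfl⟩ hcn
    obtain ⟨c₁, hc₁, hc₁n⟩ : (1 : Γ(sch 𝒴 P.ζ, ⊤)) ∈ J := by
      rw [hJ]
      trivial
    have hc₁0 : rl e C.k C.l c₁ = 0 := hc₁
    have hc₁n' : c₁ none = 1 := hc₁n
    -- invariance of the coefficients
    have hinv₁ : ∀ i, ringMap P.s (c₁ i) - ringMap P.t (c₁ i) ∈ II h𝒴 P {x} P.ρ P.affρ := by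
      let N' : Submodule Γ(sch 𝒴 P.ρ, ⊤) (α →₀ Γ(sch 𝒴 P.ρ, ⊤)) :=
        { carrier := {c | ∀ i, c i ∈ II h𝒴 P {x} P.ρ P.affρ}
          add_mem' := fun {a b} ha hb i => Ideal.add_mem _ (ha i) (hb i)
          zero_mem' := fun i => Ideal.zero_mem _
          smul_mem' := fun r a ha i => Ideal.mul_mem_left _ r (ha i) }
      let c₂ : Option α →₀ Γ(sch 𝒴 P.ρ, ⊤) := frMap (ringMap P.s) (Option α) c₁ - frMap (ringMap P.t) (Option α) c₁
      have hc₂n : c₂ none = 0 := by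
        change ringMap P.s (c₁ none) - ringMap P.t (c₁ none) = 0
        rw [hc₁n', map_one, map_one, sub_self]
      have h1 : c₂.some ∈ N' := by
        refine mem_of_flat h𝒴 (e := e') C P.affρ P.s hsm _ ?_ N' ?_
        · intro z α₁ β hz
          have h2 : rl e α₁ β c₂ = 0 := by
            rw [rl_sub, rl_frMap, rl_frMap, rl_eq_zero C hc₁0 _ β hz, rl_eq_zero C hc₁0 _ β hz, sub_zero]
          rw [rl_option, hc₂n, map_zero, zero_mul, zero_add] at h2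
          exact h2
        · intro c' hc' i
          exact ringMap_mem_II h𝒴 P hx P.affρ P.affζ P.s (IH e' he' c' hc' i)
      intro i
      cases i with
      | none =>
        change c₂ none ∈ _
        rw [hc₂n]
        exact Ideal.zero_mem _
      | some i => exact h1 i
    choose b hb using fun i => exists_fn h𝒴 P hx s hs hex (c₁ i) (hinv₁ i)
    let bb : Option α →₀ B := Finsupp.equivFunOnFinite.symm b
    -- evaluation at a cover of `u`
    obtain ⟨v, g, d, hv, hg1, hg2⟩ := P.cov u hu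
    have hg : IsFCov g := isFCov_of_smooth hg1 hg2
    have hσ : ∀ r, ringMap d (s.σ P.ζ r) = s.σ v r := fun r => congrArg (fun k => k r) (s.comm d)
    have hσ' : ∀ r, ringMap g (s.σ u r) = s.σ v r := fun r => congrArg (fun k => k r) (s.comm g)
    have h1 : (bb.sum fun i r => s.σ u r * e i) = 0 := by
      refine ringMap_injective g hv hu hg ?_
      rw [map_zero]
      have h2 : rl e d g (Finsupp.equivFunOnFinite.symm (fun i => s.σ P.ζ (b i)) : Option α →₀ Γ(sch 𝒴 P.ζ, ⊤)) = 0 := by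
        have h3 := rl_eq_zero C hc₁0 d g hv
        have h4 : rl e d g ((Finsupp.equivFunOnFinite.symm (fun i => s.σ P.ζ (b i)) : Option α →₀ Γ(sch 𝒴 P.ζ, ⊤)) - c₁) = 0 := by
          unfold rl
          refine Finset.sum_eq_zero fun i _ => ?_
          change ringMap d (s.σ P.ζ (b i) - c₁ i) * _ = 0
          rw [hkill v P.ζ hv P.affζ d g _ (hb i), zero_mul]
        rw [rl_sub, h3, sub_zero] at h4
        exact h4
      unfold rl at h2
      rw [Finsupp.sum_fintype _ _ (fun i => by rw [map_zero, zero_mul])] at h2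
      rw [Finsupp.sum_fintype _ _ (fun i => by rw [map_zero, zero_mul]), map_sum]
      rw [← h2]
      refine Finset.sum_congr rfl fun i _ => ?_
      rw [map_mul]
      change ringMap g (s.σ u (b i)) * _ = ringMap d (s.σ P.ζ (b i)) * _
      rw [hσ, hσ']
    have h2 := he bb h1 none
    have h3 : s.σ v (b none) = 0 := by
      rw [← hσ', show s.σ u (b none) = 0 from h2, map_zero]
    have h4 := hkill v P.ζ hv P.affζ d g _ (hb none)
    rw [map_sub, hσ, h3, hc₁n', map_one, zero_sub, neg_eq_zero] at h4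
    obtain ⟨t₀⟩ := hune
    obtain ⟨t, -⟩ := hg2.surj t₀
    exact (sp t).isPrime.ne_top ((Ideal.eq_top_iff_one _).2 (h4 ▸ Ideal.zero_mem _))

variable {P}

/-- Relations over one point of a closed class hold over another point with the same values of the global functions. -/
theorem rl_eq_zero_of (hs : IsFn s) (hex : K907.Free.Exact 𝒴) {x : Points 𝒴} (hx : IsCl h𝒴 {x}) {K : Type u} [Field K]
    (τ : B →+* K) {u : 𝒴.obj} (hu : IsAffine (sch 𝒴 u)) (hune : Nonempty ↥(sch 𝒴 u)) (hIu : II h𝒴 P {x} u hu = ⊥)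
    (C : Ch P u) (θ : K →+* Γ(sch 𝒴 u, ⊤)) (hθ : ∀ b, s.σ u b = θ (τ b)) {u' : 𝒴.obj} (hu' : IsAffine (sch 𝒴 u'))
    (hIu' : II h𝒴 P {x} u' hu' = ⊥) (C' : Ch P u') (θ' : K →+* Γ(sch 𝒴 u', ⊤)) (hθ' : ∀ b, s.σ u' b = θ' (τ b)) :
    ∀ (n : ℕ) (c : K →₀ Γ(sch 𝒴 P.ζ, ⊤)), c.support.card ≤ n → rl θ C.k C.l c = 0 → rl θ' C'.k C'.l c = 0 := by
  classical
  have hθi : Function.Injective θ := by
    haveI : Nontrivial Γ(sch 𝒴 u, ⊤) := by
      obtain ⟨t⟩ := hune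
      refine ⟨⟨0, 1, fun h => ?_⟩⟩
      exact (sp t).isPrime.ne_top ((Ideal.eq_top_iff_one _).2 (h ▸ Ideal.zero_mem _))
    exact θ.injective
  have hσ : ∀ {z w : 𝒴.obj} (d : z ⟶ w) (r : B), ringMap d (s.σ w r) = s.σ z r :=
    fun d r => congrArg (fun k => k r) (s.comm d)
  intro n
  induction n with
  | zero =>
    intro c hc _
    have h1 : c = 0 := by
      rw [← Finsupp.support_eq_empty, ← Finset.card_eq_zero]
      omega
    rw [h1, rl_zero]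
  | succ n IH =>
    intro c hc h0
    by_cases hind : ∀ b : K →₀ B, b.support ⊆ c.support → (b.sum fun i r => τ r * i) = 0 → ∀ i, τ (b i) = 0
    · -- independent elements
      let ι : Type u := {i : K // i ∈ c.support}
      let e : ι → Γ(sch 𝒴 u, ⊤) := fun i => θ i.1
      have he : Ind s u e := by
        intro b hb i
        have h1 := hind (b.mapDomain Subtype.val) (by
          intro k hk
          obtain ⟨i', -, rfl⟩ := Finset.mem_image.1 (Finsupp.mapDomain_support hk)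
          exact i'.2) (by
          rw [Finsupp.sum_mapDomain_index]
          · refine hθi ?_
            rw [map_zero, Finsupp.sum, map_sum, ← hb, Finsupp.sum]
            refine Finset.sum_congr rfl fun i _ => ?_
            rw [map_mul, hθ]
          · intro i
            rw [map_zero, zero_mul]
          · intro i a b
            rw [map_add, add_mul]) i.1
        rw [Finsupp.mapDomain_apply Subtype.val_injective] at h1
        rw [hθ, h1, map_zero]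
      have h1 : rl e C.k C.l (c.subtypeDomain (· ∈ c.support)) = 0 := by
        rw [← h0]
        exact Finsupp.sum_subtypeDomain_index (h := fun i r => ringMap C.k r * ringMap C.l (θ i)) (fun x hx => hx)
      have h2 := rel_indep h𝒴 P s hs hex hx hu hune hIu C ι e he _ h1
      unfold rl
      refine Finset.sum_eq_zero fun i hi => ?_
      have h3 : c i ∈ II h𝒴 P {x} P.ζ P.affζ := h2 ⟨i, hi⟩
      have h4 := ringMap_mem_II h𝒴 P hx C'.aff P.affζ C'.k h3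
      rw [← map_II h𝒴 P hx C'.aff hu' C'.l, hIu', Ideal.map_bot] at h4
      have h5 : ringMap C'.k (c i) = 0 := h4
      change ringMap C'.k (c i) * _ = 0
      rw [h5, zero_mul]
    · push Not at hind
      obtain ⟨b, hbs, hb0, j, hj⟩ := hind
      have hbj : j ∈ b.support := by
        rw [Finsupp.mem_support_iff]
        intro h
        rw [h, map_zero] at hj
        exact hj rfl
      -- the relation with coefficients in `B`
      have hrel : ∀ {u : 𝒴.obj} (θ : K →+* Γ(sch 𝒴 u, ⊤)) (hθ : ∀ b, s.σ u b = θ (τ b)) {z : 𝒴.obj} (α : z ⟶ P.ζ)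
          (β : z ⟶ u), rl θ α β (frMap (s.σ P.ζ) K b) = 0 := by
        intro u θ hθ z α β
        unfold rl
        change ((b.mapRange (s.σ P.ζ) (map_zero _)).sum fun i r => ringMap α r * ringMap β (θ i)) = 0
        rw [Finsupp.sum_mapRange_index (fun i => by rw [map_zero, zero_mul])]
        have h1 : (b.sum fun i r => ringMap α (s.σ P.ζ r) * ringMap β (θ i)) =
            ringMap β (θ (b.sum fun i r => τ r * i)) := by
          rw [Finsupp.sum, Finsupp.sum, map_sum, map_sum]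
          refine Finset.sum_congr rfl fun i _ => ?_
          rw [map_mul, map_mul, hσ, ← hθ, hσ]
        rw [h1, hb0, map_zero, map_zero]
      let c' : K →₀ Γ(sch 𝒴 P.ζ, ⊤) := s.σ P.ζ (b j) • c - c j • (frMap (s.σ P.ζ) K b : K →₀ Γ(sch 𝒴 P.ζ, ⊤))
      have hc' : c'.support.card ≤ n := by
        have h1 : c'.support ⊆ c.support.erase j := by
          intro i hi
          rw [Finsupp.mem_support_iff] at hi
          have h2 : c' i = s.σ P.ζ (b j) * c i - c j * s.σ P.ζ (b i) := rfl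
          rw [Finset.mem_erase]
          refine ⟨?_, ?_⟩
          · rintro rfl
            exact hi (by rw [h2, mul_comm, sub_self])
          · by_contra h3
            have h4 : c i = 0 := Finsupp.notMem_support_iff.1 h3
            have h5 : b i = 0 := Finsupp.notMem_support_iff.1 fun h => h3 (hbs h)
            exact hi (by rw [h2, h4, h5, map_zero, mul_zero, mul_zero, sub_self])
        have h2 := Finset.card_le_card h1
        have h3 := Finset.card_erase_lt_of_mem (hbs hbj)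
        omega
      have hval : ∀ {u : 𝒴.obj} (θ : K →+* Γ(sch 𝒴 u, ⊤)) (hθ : ∀ b, s.σ u b = θ (τ b)) {z : 𝒴.obj} (α : z ⟶ P.ζ)
          (β : z ⟶ u), rl θ α β c' = ringMap β (θ (τ (b j))) * rl θ α β c := by
        intro u θ hθ z α β
        rw [rl_sub, rl_smul, rl_smul, hrel θ hθ α β, mul_zero, sub_zero, hσ, ← hθ, hσ]
      have h1 := IH c' hc' (by rw [hval θ hθ, h0, mul_zero])
      rw [hval θ' hθ'] at h1
      have h2 : IsUnit (ringMap C'.l (θ' (τ (b j)))) := ((IsUnit.mk0 _ hj).map θ').map (ringMap C'.l)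
      exact (h2.mul_right_eq_zero).1 h1

end Main

section Final

/-- Two affine schemes over the spectrum of a ring injecting into both rings of functions. -/
theorem exists_common_sch {X X' : Scheme.{u}} [IsAffine X] [IsAffine X'] {T : Type u} [CommRing T] [Nontrivial T]
    (j : T →+* Γ(X, ⊤)) (j' : T →+* Γ(X', ⊤)) (hj : Function.Injective j) (hj' : Function.Injective j') :
    ∃ (Q : Scheme.{u}) (p : Q ⟶ X) (p' : Q ⟶ X'), IsAffine Q ∧ Nonempty ↥Q ∧ ∀ t, p.appTop (j t) = p'.appTop (j' t) := by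
  let f : X ⟶ Spec (CommRingCat.of T) := X.toSpecΓ ≫ Spec.map (CommRingCat.ofHom j)
  let f' : X' ⟶ Spec (CommRingCat.of T) := X'.toSpecΓ ≫ Spec.map (CommRingCat.ofHom j')
  obtain ⟨⟨q, hq⟩⟩ := Ideal.nonempty_minimalPrimes (bot_ne_top (α := Ideal T))
  obtain ⟨q₁, hq₁, h₁⟩ := Ideal.exists_comap_eq_of_mem_minimalPrimes_of_injective hj q hq
  obtain ⟨q₂, hq₂, h₂⟩ := Ideal.exists_comap_eq_of_mem_minimalPrimes_of_injective hj' q hq
  obtain ⟨x, hx⟩ := (sp_bijective (X := X)).2 ⟨q₁, hq₁⟩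
  obtain ⟨x', hx'⟩ := (sp_bijective (X := X')).2 ⟨q₂, hq₂⟩
  have hf : f x = f' x' := by
    have e1 : f x = (PrimeSpectrum.comap j (sp x) : PrimeSpectrum T) := rfl
    have e2 : f' x' = (PrimeSpectrum.comap j' (sp x') : PrimeSpectrum T) := rfl
    rw [e1, e2, hx, hx']
    exact PrimeSpectrum.ext (h₁.trans h₂.symm)
  obtain ⟨z, -, -⟩ := Scheme.Pullback.exists_preimage_pullback x x' hf
  refine ⟨pullback f f', pullback.fst f f', pullback.snd f f', inferInstance, ⟨z⟩, ?_⟩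
  intro t
  have key : ∀ {X : Scheme.{u}} (j : T →+* Γ(X, ⊤)),
      (X.toSpecΓ ≫ Spec.map (CommRingCat.ofHom j)).appTop ((Scheme.ΓSpecIso (CommRingCat.of T)).inv t) = j t := by
    intro X j
    have e1 : (Scheme.ΓSpecIso (CommRingCat.of T)).inv ≫ (X.toSpecΓ ≫ Spec.map (CommRingCat.ofHom j)).appTop =
        CommRingCat.ofHom j := by
      rw [Scheme.Hom.comp_appTop, ← Category.assoc, ← Scheme.ΓSpecIso_inv_naturality, Category.assoc,
        Scheme.toSpecΓ_appTop, Iso.inv_hom_id, Category.comp_id]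
    exact congrArg (fun k => k.hom t) e1
  have hfj : f.appTop ((Scheme.ΓSpecIso (CommRingCat.of T)).inv t) = j t := key j
  have hfj' : f'.appTop ((Scheme.ΓSpecIso (CommRingCat.of T)).inv t) = j' t := key j'
  rw [← hfj, ← hfj']
  have h3 := congrArg (fun k => k.appTop ((Scheme.ΓSpecIso (CommRingCat.of T)).inv t)) (pullback.condition (f := f) (g := f'))
  simp only [Scheme.Hom.comp_appTop] at h3
  exact h3

/-- The object under a field point of class `x`. -/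
theorem exists_side {x : Points 𝒴} (hx : IsCl h𝒴 {x}) {K : Type u} [Field K] (y : 𝒴.obj)
    (a : Spec (CommRingCat.of K) ⟶ sch 𝒴 y) (hy : pt h𝒴 y (a (IsLocalRing.closedPoint K)) = x) :
    ∃ (u : 𝒴.obj) (ψ : u ⟶ y) (ε : sch 𝒴 u ≅ Spec (CommRingCat.of K)) (hu : IsAffine (sch 𝒴 u)),
      Nonempty ↥(sch 𝒴 u) ∧ II h𝒴 P {x} u hu = ⊥ ∧ bmap 𝒴 ψ = ε.hom ≫ a := by
  obtain ⟨u, ψ, ε, he⟩ := Grpd.exists_lift_sch h𝒴 y a
  have hu : IsAffine (sch 𝒴 u) := IsAffine.of_isIso ε.hom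
  have hred : IsReduced (sch 𝒴 u) := isReduced_of_isOpenImmersion ε.hom
  refine ⟨u, ψ, ε, hu, ⟨ε.inv (IsLocalRing.closedPoint K)⟩, ?_, he⟩
  have h1 : prei h𝒴 {x} u = Set.univ := by
    ext t
    refine ⟨fun _ => trivial, fun _ => ?_⟩
    change pt h𝒴 u t = x
    rw [← pt_map h𝒴 ψ, he]
    have h2 : ε.hom t = IsLocalRing.closedPoint K := Subsingleton.elim _ _
    change pt h𝒴 y (a (ε.hom t)) = x
    rw [h2, hy]
  have h2 := II_le_van h𝒴 P hx u hu
  rw [h1, van_univ] at h2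
  exact le_bot_iff.1 h2

/-- The chart is not empty. -/
theorem Ch.nonempty {P : Pres 𝒴} {u : 𝒴.obj} (C : Ch P u) (hu : IsAffine (sch 𝒴 u)) (hune : Nonempty ↥(sch 𝒴 u)) :
    Nonempty ↥(sch 𝒴 C.H) := by
  obtain ⟨v, g, d, hv, hg1, hg2⟩ := P.cov u hu
  obtain ⟨z', f, κ, hz', hf, -, -⟩ := C.fac v d g hv
  obtain ⟨t⟩ := hune
  obtain ⟨t', -⟩ := hg2.surj t
  obtain ⟨t'', -⟩ := hf.2.surj t'
  exact ⟨bmap 𝒴 κ t''⟩

/-- The ring of linear combinations. -/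
noncomputable def Phi {P : Pres 𝒴} {u : 𝒴.obj} (C : Ch P u) {K : Type u} [Field K] (θ : K →+* Γ(sch 𝒴 u, ⊤)) :
    MonoidAlgebra Γ(sch 𝒴 P.ζ, ⊤) K →+* Γ(sch 𝒴 C.H, ⊤) :=
  MonoidAlgebra.liftNCRingHom (ringMap C.k) (((ringMap C.l).comp θ : K →+* Γ(sch 𝒴 C.H, ⊤)) : K →* Γ(sch 𝒴 C.H, ⊤))
    fun _ _ => Commute.all _ _

theorem Phi_apply {P : Pres 𝒴} {u : 𝒴.obj} (C : Ch P u) {K : Type u} [Field K] (θ : K →+* Γ(sch 𝒴 u, ⊤))
    (m : MonoidAlgebra Γ(sch 𝒴 P.ζ, ⊤) K) : Phi C θ m = rl θ C.k C.l m.coeff := by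
  unfold Phi
  change MonoidAlgebra.liftNC _ _ m = _
  rfl

theorem Phi_single {P : Pres 𝒴} {u : 𝒴.obj} (C : Ch P u) {K : Type u} [Field K] (θ : K →+* Γ(sch 𝒴 u, ⊤))
    (a : K) (r : Γ(sch 𝒴 P.ζ, ⊤)) : Phi C θ (MonoidAlgebra.single a r) = ringMap C.k r * ringMap C.l (θ a) :=
  MonoidAlgebra.liftNCRingHom_single _ _ _ _ _

/-- Two points of a closed class with the same values of the global functions have a common extension. -/
theorem exists_common {S : Scheme.{u}} {𝒴 : BasedCategory.{v, w} (Over S)} (h𝒴 : FibCat.IsFibGrpd 𝒴.p) (P : Pres 𝒴)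
    {B : Type u} [CommRing B] (s : Fn B 𝒴) (hs : IsFn s) (hex : K907.Free.Exact 𝒴) (x : Points 𝒴)
    (hx : IsCl h𝒴 {x}) {K : Type u} [Field K] (y₁ y₂ : 𝒴.obj) (h₁ : IsAffine (sch 𝒴 y₁)) (h₂ : IsAffine (sch 𝒴 y₂))
    (a₁ : Spec (CommRingCat.of K) ⟶ sch 𝒴 y₁) (a₂ : Spec (CommRingCat.of K) ⟶ sch 𝒴 y₂)
    (hx₁ : pt h𝒴 y₁ (a₁ (IsLocalRing.closedPoint K)) = x) (hx₂ : pt h𝒴 y₂ (a₂ (IsLocalRing.closedPoint K)) = x)
    (hB : ∀ b : B, a₁.appTop (s.σ y₁ b) = a₂.appTop (s.σ y₂ b)) :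
    ∃ (z : 𝒴.obj) (φ₁ : z ⟶ y₁) (φ₂ : z ⟶ y₂) (r : sch 𝒴 z ⟶ Spec (CommRingCat.of K)), IsAffine (sch 𝒴 z) ∧
      Nonempty ↥(sch 𝒴 z) ∧ bmap 𝒴 φ₁ = r ≫ a₁ ∧ bmap 𝒴 φ₂ = r ≫ a₂ := by
  obtain ⟨u₁, ψ₁, ε₁, hu₁, hne₁, hI₁, he₁⟩ := exists_side h𝒴 P hx y₁ a₁ hx₁
  obtain ⟨u₂, ψ₂, ε₂, hu₂, hne₂, hI₂, he₂⟩ := exists_side h𝒴 P hx y₂ a₂ hx₂
  obtain ⟨C₁⟩ := nonempty_ch h𝒴 (P := P) u₁ hu₁
  obtain ⟨C₂⟩ := nonempty_ch h𝒴 (P := P) u₂ hu₂
  let i := Scheme.ΓSpecIso (CommRingCat.of K)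
  have hi : ∀ w, i.inv (i.hom w) = w := fun w => congrArg (fun k => k.hom w) i.hom_inv_id
  let θ₁ : K →+* Γ(sch 𝒴 u₁, ⊤) := (ε₁.hom.appTop.hom).comp i.inv.hom
  let θ₂ : K →+* Γ(sch 𝒴 u₂, ⊤) := (ε₂.hom.appTop.hom).comp i.inv.hom
  let τ : B →+* K := (i.hom.hom).comp ((a₁.appTop.hom).comp (s.σ y₁))
  have hθ₁ : ∀ b, s.σ u₁ b = θ₁ (τ b) := by
    intro b
    have e1 : ringMap ψ₁ (s.σ y₁ b) = s.σ u₁ b := congrArg (fun k => k b) (s.comm ψ₁)
    have e2 : ringMap ψ₁ (s.σ y₁ b) = ε₁.hom.appTop (a₁.appTop (s.σ y₁ b)) := by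
      change (bmap 𝒴 ψ₁).appTop _ = _
      rw [he₁]
      simp only [Scheme.Hom.comp_appTop]
      rfl
    rw [← e1, e2]
    change _ = ε₁.hom.appTop (i.inv (i.hom (a₁.appTop (s.σ y₁ b))))
    rw [hi]
  have hθ₂ : ∀ b, s.σ u₂ b = θ₂ (τ b) := by
    intro b
    have e1 : ringMap ψ₂ (s.σ y₂ b) = s.σ u₂ b := congrArg (fun k => k b) (s.comm ψ₂)
    have e2 : ringMap ψ₂ (s.σ y₂ b) = ε₂.hom.appTop (a₂.appTop (s.σ y₂ b)) := by
      change (bmap 𝒴 ψ₂).appTop _ = _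
      rw [he₂]
      simp only [Scheme.Hom.comp_appTop]
      rfl
    rw [← e1, e2]
    change _ = ε₂.hom.appTop (i.inv (i.hom (a₁.appTop (s.σ y₁ b))))
    rw [hi, hB]
  have hker : RingHom.ker (Phi C₁ θ₁) = RingHom.ker (Phi C₂ θ₂) := by
    ext m
    rw [RingHom.mem_ker, RingHom.mem_ker, Phi_apply, Phi_apply]
    exact ⟨fun h => rl_eq_zero_of h𝒴 s hs hex hx τ hu₁ hne₁ hI₁ C₁ θ₁ hθ₁ hu₂ hI₂ C₂ θ₂ hθ₂ _ _ le_rfl h,
      fun h => rl_eq_zero_of h𝒴 s hs hex hx τ hu₂ hne₂ hI₂ C₂ θ₂ hθ₂ hu₁ hI₁ C₁ θ₁ hθ₁ _ _ le_rfl h⟩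
  let T : Type u := MonoidAlgebra Γ(sch 𝒴 P.ζ, ⊤) K ⧸ RingHom.ker (Phi C₁ θ₁)
  let q : MonoidAlgebra Γ(sch 𝒴 P.ζ, ⊤) K →+* T := Ideal.Quotient.mk _
  let j₁ : T →+* Γ(sch 𝒴 C₁.H, ⊤) := RingHom.kerLift (Phi C₁ θ₁)
  let j₂ : T →+* Γ(sch 𝒴 C₂.H, ⊤) := Ideal.Quotient.lift _ (Phi C₂ θ₂) fun a ha => by
    rw [hker] at ha
    exact ha
  have hj₁ : Function.Injective j₁ := RingHom.kerLift_injective _
  have hj₂ : Function.Injective j₂ := RingHom.lift_injective_of_ker_le_ideal _ _ (by rw [hker])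
  haveI := C₁.aff
  haveI := C₂.aff
  haveI := P.affζ
  haveI : Nontrivial Γ(sch 𝒴 C₁.H, ⊤) := by
    obtain ⟨t⟩ := C₁.nonempty hu₁ hne₁
    refine ⟨⟨0, 1, fun h => ?_⟩⟩
    exact (sp t).isPrime.ne_top ((Ideal.eq_top_iff_one _).2 (h ▸ Ideal.zero_mem _))
  haveI : Nontrivial T := RingHom.domain_nontrivial j₁
  obtain ⟨Q, p₁, p₂, hQ, hQne, hQj⟩ := exists_common_sch j₁ j₂ hj₁ hj₂
  have hval : ∀ (a : K) (r : Γ(sch 𝒴 P.ζ, ⊤)), p₁.appTop (ringMap C₁.k r * ringMap C₁.l (θ₁ a)) =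
      p₂.appTop (ringMap C₂.k r * ringMap C₂.l (θ₂ a)) := by
    intro a r
    have h3 := hQj (q (MonoidAlgebra.single a r))
    have h4 : j₁ (q (MonoidAlgebra.single a r)) = Phi C₁ θ₁ (MonoidAlgebra.single a r) := rfl
    have h5 : j₂ (q (MonoidAlgebra.single a r)) = Phi C₂ θ₂ (MonoidAlgebra.single a r) := rfl
    rw [h4, h5, Phi_single, Phi_single] at h3
    exact h3
  obtain ⟨z, χ₁, ε, hε⟩ := Grpd.exists_lift_sch h𝒴 C₁.H p₁
  have hz : IsAffine (sch 𝒴 z) := IsAffine.of_isIso ε.hom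
  have hkk : (ε.hom ≫ p₂) ≫ bmap 𝒴 C₂.k = bmap 𝒴 (χ₁ ≫ C₁.k) := by
    rw [bmap_comp, hε, Category.assoc, Category.assoc]
    congr 1
    refine ext_of_isAffine ?_
    ext r
    have h3 := hval 1 r
    rw [map_one, map_one, mul_one, map_one, map_one, mul_one] at h3
    simp only [Scheme.Hom.comp_appTop]
    exact h3.symm
  obtain ⟨χ₂, ⟨h5, h6⟩, -⟩ := Grpd.existsUnique_hom_sch h𝒴 C₂.k (χ₁ ≫ C₁.k) (ε.hom ≫ p₂) hkk
  have hll : p₁ ≫ bmap 𝒴 C₁.l ≫ ε₁.hom = p₂ ≫ bmap 𝒴 C₂.l ≫ ε₂.hom := by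
    refine ext_of_isAffine ?_
    ext r
    have h3 := hval (i.hom r) 1
    rw [map_one, map_one, one_mul, one_mul] at h3
    have h7 : ε₁.hom.appTop r = θ₁ (i.hom r) := by
      change _ = ε₁.hom.appTop (i.inv (i.hom r))
      rw [hi]
    have h8 : ε₂.hom.appTop r = θ₂ (i.hom r) := by
      change _ = ε₂.hom.appTop (i.inv (i.hom r))
      rw [hi]
    simp only [Scheme.Hom.comp_appTop]
    change p₁.appTop ((bmap 𝒴 C₁.l).appTop (ε₁.hom.appTop r)) = p₂.appTop ((bmap 𝒴 C₂.l).appTop (ε₂.hom.appTop r))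
    rw [h7, h8]
    exact h3
  obtain ⟨t⟩ := hQne
  refine ⟨z, χ₁ ≫ C₁.l ≫ ψ₁, χ₂ ≫ C₂.l ≫ ψ₂, ε.hom ≫ p₁ ≫ bmap 𝒴 C₁.l ≫ ε₁.hom, hz, ⟨ε.inv t⟩, ?_, ?_⟩
  · rw [bmap_comp, bmap_comp, hε, he₁]
    simp only [Category.assoc]
  · rw [bmap_comp, bmap_comp, h5, he₂, hll]
    simp only [Category.assoc]

end Final

end K908.LunaN1
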