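import Groth.Agent.StMod.K862.PushO
import Groth.Agent.StMod.K906.Pres

/-!
# Quasi-compactness of the structure morphisms of universal arrows

`quasiCompact_of_pres` : `p : 𝒴 ⟶ 𝒳` with universal arrows over the affine objects, `𝒴` and `𝒳` with affine presentations: the
structure morphisms of the universal arrows over affine objects are quasi-compact.
-/

set_option autoImplicit false
set_option linter.unusedVariables false
set_option linter.style.haveILetI false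
set_option backward.isDefEq.respectTransparency false
set_option backward.isDefEq.respectTransparency.types false

universe v' w' v w u

open CategoryTheory CategoryTheory.Limits AlgebraicGeometry Opposite StMod AlgSt

namespace K908.LunaQc

open K906 K862.Rep K862.PushO K908.Aff K907.Disj K907.FibTerm K907.Pt K907.Atl

variable {S : Scheme.{u}} {𝒳 : BasedCategory.{v, w} (Over S)} {𝒴 : BasedCategory.{v', w'} (Over S)} {p : 𝒴 ⥤ᵇ 𝒳}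

/-- Fibre products of affine objects. -/
theorem exists_isPullback_aff (h : FibCat.IsFibGrpd 𝒳.p) {y z x : 𝒳.obj} (a : y ⟶ x) (b : z ⟶ x)
    (hy : IsAffine (sch 𝒳 y)) (hz : IsAffine (sch 𝒳 z)) (hx : IsAffine (sch 𝒳 x)) :
    ∃ (w : 𝒳.obj) (k : w ⟶ y) (l : w ⟶ z), IsPullback k l a b ∧ IsAffine (sch 𝒳 w) ∧
      (Surjective (bmap 𝒳 b) → Surjective (bmap 𝒳 k)) := by
  obtain ⟨w, k, l, H⟩ := Grpd.exists_isPullback h a b
  have H' := Grpd.isPullback_bmap h H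
  haveI := hy
  haveI := hz
  haveI := hx
  refine ⟨w, k, l, H, ?_, fun hb => MorphismProperty.of_isPullback H'.flip hb⟩
  let t : sch 𝒳 w ≅ pullback (bmap 𝒳 a) (bmap 𝒳 b) := H'.isoPullback
  exact IsAffine.of_isIso t.hom

/-- A smooth or étale surjective affine refinement gives a cover of `𝒴` after a lift. -/
theorem compactSpace_term (h𝒳 : FibCat.IsFibGrpd 𝒳.p) (h𝒴 : FibCat.IsFibGrpd 𝒴.p) (P : Pres 𝒳) (P' : Pres 𝒴)
    {y : 𝒴.obj} {α : p.obj y ⟶ P.ζ} (hα : IsTerm p α) : CompactSpace ↥(sch 𝒴 y) := by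
  -- an atlas of `𝒴` mapping to `P.ζ`
  obtain ⟨z, φ, d, hz, hφ1, hφ2⟩ := P.cov (p.obj P'.ζ) (isAffine_pobj P'.affζ)
  obtain ⟨y₁, ψ, i, hi, hic, -, haff, hprop⟩ := exists_lift_cov h𝒳 h𝒴 φ
  have hy₁ : IsAffine (sch 𝒴 y₁) := haff hz
  have hψ : Surjective (bmap 𝒴 ψ) := hprop @Surjective inferInstance hφ2
  -- the fibre product with the chart of the diagonal
  obtain ⟨θ, k, l, H, hθ, -⟩ := exists_isPullback_aff h𝒳 (i ≫ d) P.s (isAffine_pobj hy₁) P.affρ P.affζ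
  obtain ⟨y₂, ψ₂, i₂, hi₂, hi₂c, -, haff₂, -⟩ := exists_lift_cov h𝒳 h𝒴 k
  have hy₂ : IsAffine (sch 𝒴 y₂) := haff₂ hθ
  obtain ⟨χ, hχ⟩ := exists_hom (𝟙 P.ζ) (α' := i₂ ≫ l ≫ P.t) hα
  rw [Category.comp_id] at hχ
  suffices hs : Surjective (bmap 𝒴 χ) by
    haveI := hy₂
    have h1 : CompactSpace ↥(sch 𝒴 y₂) := inferInstance
    exact (bmap 𝒴 χ).surjective.compactSpace (bmap 𝒴 χ).continuous
  constructor
  intro v
  -- the point `v`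
  let x := (fpt h𝒴 y v).obj
  let r : x ⟶ y := fptArr h𝒴 y v
  have hx : IsAffine (sch 𝒴 x) := by
    have e2 : 𝒴.p.obj x = Over.mk (fpt h𝒴 y v).str := (fpt h𝒴 y v).lies
    change IsAffine (𝒴.p.obj x).left
    rw [e2]
    change IsAffine (Spec (CommRingCat.of (fpt h𝒴 y v).K))
    infer_instance
  obtain ⟨x₁, a₁, c₁, hx₁, -, ha₁⟩ := P'.cov x hx
  obtain ⟨x₂, a₂, b₂, H₂, hx₂, ha₂⟩ := exists_isPullback_aff h𝒴 c₁ ψ hx₁ hy₁ P'.affζ
  have ha₂' : Surjective (bmap 𝒴 a₂) := ha₂ hψ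
  obtain ⟨z₃, f₃, e₃, hz₃, -, hf₃, he₃s, he₃t⟩ := P.lift (p.obj x₂) (p.map b₂ ≫ i ≫ d)
    (p.map (a₂ ≫ a₁ ≫ r) ≫ α) (isAffine_pobj hx₂)
  obtain ⟨x₃, a₃, i₃, hi₃, hi₃c, -, -, hprop₃⟩ := exists_lift_cov h𝒳 h𝒴 f₃
  have ha₃ : Surjective (bmap 𝒴 a₃) := hprop₃ @Surjective inferInstance hf₃
  -- the arrow to `y₂`
  let γ : p.obj x₃ ⟶ θ := H.lift (p.map (a₃ ≫ b₂)) (i₃ ≫ e₃) (by
    rw [Category.assoc, he₃s, ← Category.assoc i₃, hi₃c, ← Category.assoc (p.map a₃), ← Functor.map_comp])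
  have hγ1 : γ ≫ k = p.map (a₃ ≫ b₂) := H.lift_fst _ _ _
  have hγ2 : γ ≫ l = i₃ ≫ e₃ := H.lift_snd _ _ _
  obtain ⟨κ, ⟨hκ1, hκ2⟩, -⟩ := existsUnique_hom_over h𝒴 h𝒳 p ψ₂ (a₃ ≫ b₂) (γ ≫ inv i₂) (by
    rw [Category.assoc, ← hi₂c, IsIso.inv_hom_id_assoc, hγ1])
  have hκ : κ ≫ χ = a₃ ≫ a₂ ≫ a₁ ≫ r := by
    refine hom_eq hα ?_
    rw [Functor.map_comp, Category.assoc, hχ, hκ2, Category.assoc, IsIso.inv_hom_id_assoc, ← Category.assoc, hγ2,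
      Category.assoc, he₃t, ← Category.assoc i₃, hi₃c, ← Category.assoc (p.map a₃), ← Functor.map_comp]
  obtain ⟨t₁, ht₁⟩ := ha₁.surj (ptt (fpt h𝒴 y v))
  obtain ⟨t₂, ht₂⟩ := ha₂'.surj t₁
  obtain ⟨t₃, ht₃⟩ := ha₃.surj t₂
  refine ⟨bmap 𝒴 κ t₃, ?_⟩
  have h1 : bmap 𝒴 (κ ≫ χ) t₃ = bmap 𝒴 (a₃ ≫ a₂ ≫ a₁ ≫ r) t₃ := by rw [hκ]
  rw [bmap_comp, bmap_comp, bmap_comp, bmap_comp] at h1
  simp only [Scheme.Hom.comp_apply] at h1
  rw [h1, ht₃, ht₂, ht₁]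
  exact bmap_fptArr_ptt h𝒴 y v

/-- The structure morphisms of universal arrows are quasi-compact. -/
theorem quasiCompact_of_pres (h𝒳 : FibCat.IsFibGrpd 𝒳.p) (h𝒴 : FibCat.IsFibGrpd 𝒴.p) (P : Pres 𝒳) (P' : Pres 𝒴)
    {R : MorphismProperty Scheme.{u}} (hp : IsRep R p) {ξ : 𝒳.obj} (hξ : IsAffine (sch 𝒳 ξ)) {y : 𝒴.obj}
    {α : p.obj y ⟶ ξ} (hα : IsTerm p α) : QuasiCompact (str p α) := by
  obtain ⟨y₀, α₀, hα₀, -⟩ := hp P.ζ P.affζ
  have hc₀ := compactSpace_term h𝒳 h𝒴 P P' hα₀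
  obtain ⟨ξ', φ, d, hξ', hφ1, hφ2⟩ := P.cov ξ hξ
  obtain ⟨y', ψ, α', hα', hψ, sq⟩ := exists_isTerm_bc h𝒳 h𝒴 d hα₀
  obtain ⟨χ, hχ⟩ := exists_hom φ (α' := α') hα
  have sq' := isPullback_of_isTerm h𝒳 h𝒴 hα' hα hχ
  haveI := P.affζ
  haveI := hξ
  haveI := hξ'
  haveI : QuasiCompact (str p α₀) := by
    have : CompactSpace ↥(sch 𝒴 y₀) := hc₀
    infer_instance
  haveI h1 : QuasiCompact (str p α') := MorphismProperty.of_isPullback sq inferInstance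
  have h2 : CompactSpace ↥(sch 𝒴 y') := by
    have : CompactSpace ↥(sch 𝒳 ξ') := inferInstance
    exact QuasiCompact.compactSpace_of_compactSpace (str p α')
  have h3 : Surjective (bmap 𝒴 χ) := MorphismProperty.of_isPullback sq'.flip hφ2
  have h4 : CompactSpace ↥(sch 𝒴 y) := (bmap 𝒴 χ).surjective.compactSpace (bmap 𝒴 χ).continuous
  infer_instance

end K908.LunaQc
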