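import Groth.Agent.StMod.K908.LunaRep
import Groth.Agent.StMod.K908.LunaQc
import Groth.Agent.StMod.K862.FSq
import Groth.Agent.StMod.K864.Sep
import Groth.Agent.StMod.K864.Locus
import Groth.Agent.StMod.K907.EtNhd
import Groth.Agent.StMod.K907.GoodE
import Groth.Agent.StMod.K907.HasCov
import Groth.Agent.AlgSt.K738.Unr3
import Groth.Prelude.Def_StPt
import Mathlib.AlgebraicGeometry.AlgClosed.Basic

/-!
# Luna: étale localization making the functor of fibre categories étale and separated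
-/

set_option autoImplicit false
set_option linter.unusedVariables false
set_option linter.style.haveILetI false
set_option backward.isDefEq.respectTransparency false
set_option backward.isDefEq.respectTransparency.types false

universe v' w' v w u

open CategoryTheory CategoryTheory.Limits AlgebraicGeometry Opposite StMod AlgSt AlgSp

namespace K908.LunaN4

open K906 K862.Rep K862.FSq K908.Aff K907.Disj K907.FibTerm K907.Pt K907.Closed K864.Locus K899.OpenCrit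

variable {S : Scheme.{u}}

section Nhd

variable {M' M : Sp S}

/-- A nonempty scheme locally of finite type over an algebraically closed field has a rational point. -/
theorem exists_section {Ω : Type u} [Field Ω] [IsAlgClosed Ω] {Y : Scheme.{u}} (f : Y ⟶ Spec (CommRingCat.of Ω))
    [LocallyOfFiniteType f] [Nonempty Y] : ∃ s : Spec (CommRingCat.of Ω) ⟶ Y, s ≫ f = 𝟙 _ := by
  have hJ : JacobsonSpace Y := LocallyOfFiniteType.jacobsonSpace f
  have h1 : closure ((Set.univ : Set Y) ∩ closedPoints Y) = Set.univ :=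
    JacobsonSpace.closure_inter_closedPoints isClosed_univ
  have h2 : (closedPoints Y).Nonempty := by
    by_contra h
    rw [Set.not_nonempty_iff_eq_empty] at h
    rw [h, Set.inter_empty, closure_empty] at h1
    exact Set.empty_ne_univ h1
  obtain ⟨x, hx⟩ := h2
  exact ⟨pointOfClosedPoint f x hx, pointOfClosedPoint_comp f x hx⟩

/-- A section of an étale neighbourhood of a geometric point. -/
theorem exists_section_nhd {m m' : (ofSp M).obj} (a : m' ⟶ m) (ha : Etale a.hom.left) (hne : Nonempty ↥m'.base.left)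
    {K : Type u} [Field K] [IsAlgClosed K] (i : m.base.left ≅ Spec (CommRingCat.of K)) : ∃ s : m ⟶ m', s ≫ a = 𝟙 m := by
  haveI : LocallyOfFiniteType (a.hom.left ≫ i.hom) := by
    haveI := ha
    infer_instance
  obtain ⟨s, hs⟩ := exists_section (a.hom.left ≫ i.hom)
  have h1 : (i.hom ≫ s) ≫ a.hom.left = 𝟙 _ := by
    rw [← cancel_mono i.hom, Category.assoc, Category.assoc, hs]
    simp
  let t : m.base ⟶ m'.base := Over.homMk (i.hom ≫ s) (by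
    have := Over.w a.hom
    rw [← this, ← Category.assoc, h1, Category.id_comp])
  have h2 : t ≫ a.hom = 𝟙 _ := Over.OverMorphism.ext h1
  refine ⟨⟨t, ?_⟩, Stk.EltObj.hom_ext h2⟩
  rw [← a.map_sec, ← Functor.map_comp_apply, ← op_comp, h2]
  simp

/-- Affine étale neighbourhoods of a geometric point. -/
theorem exists_etOver_nhd (hM : IsAlgSpace M) (m : (ofSp M).obj) {K : Type u} [Field K] [IsAlgClosed K]
    (i : m.base.left ≅ Spec (CommRingCat.of K)) :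
    ∃ (E : EtOver M) (_ : m ⟶ etaOf E), IsAffine E.obj.left.left := by
  obtain ⟨E, hE, m', a, b, h1, h2, h3⟩ := K907.EtNhd.exists_etale_nhd hM m (i.inv (IsLocalRing.closedPoint K))
  obtain ⟨s, hs⟩ := exists_section_nhd a h2 ⟨h3.choose⟩ i
  exact ⟨E, s ≫ b, hE⟩

/-- Affine étale neighbourhoods over `M'` mapping to a given one over `M`. -/
theorem exists_isEt_map (hM' : IsAlgSpace M') (g : M' ⟶ M) (E : EtOver M) (m₀ : (ofSp M').obj) {K : Type u} [Field K]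
    [IsAlgClosed K] (i : m₀.base.left ≅ Spec (CommRingCat.of K)) (b : (ofSpMap g).obj m₀ ⟶ etaOf E) :
    ∃ (η' : (ofSp M').obj) (m : (ofSpMap g).obj η' ⟶ etaOf E) (a : m₀ ⟶ η'), SpGeo.IsEt η' ∧ IsAffine η'.base.left ∧
      (ofSpMap g).map a ≫ m = b := by
  obtain ⟨E₀, a', hE₀⟩ := exists_etOver_nhd hM' m₀ i
  obtain ⟨m', p, q, hP, -, hu⟩ := ExactE.exists_prodP E ((ofSpMap g).obj (etaOf E₀))
  obtain ⟨c, ⟨hc1, hc2⟩, -⟩ := hu ((ofSpMap g).obj m₀) ((ofSpMap g).map a') b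
  let t₀ : ↥m₀.base.left := i.inv (IsLocalRing.closedPoint K)
  obtain ⟨_, ⟨U, hU, rfl⟩, htU, -⟩ := m'.base.left.isBasis_affineOpens.exists_subset_of_mem_open
    (Set.mem_univ (c.hom.left t₀)) isOpen_univ
  let V : m'.base.left.Opens := U
  have hV : IsAffine (K864.Sep.mo m' V).base.left := hU
  let ι₁ : K864.Sep.mo m' V ⟶ m' := K864.Sep.moι m' V
  haveI : IsOpenImmersion ι₁.hom.left := inferInstanceAs (IsOpenImmersion V.ι)
  have hsub : ∀ t : ↥m₀.base.left, t = t₀ := by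
    intro t
    have h1 : Subsingleton ↥(Spec (CommRingCat.of K)) := inferInstanceAs (Subsingleton (PrimeSpectrum K))
    have h2 : i.hom t = i.hom t₀ := Subsingleton.elim _ _
    have h3 : ∀ t : ↥m₀.base.left, i.inv (i.hom t) = t := fun t => by
      rw [← Scheme.Hom.comp_apply, Iso.hom_inv_id]
      rfl
    rw [← h3 t, h2, h3]
  have hr : Set.range c.hom.left ⊆ Set.range ι₁.hom.left := by
    rintro _ ⟨t, rfl⟩
    have ht : t = t₀ := hsub t
    rw [ht]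
    rw [K864.Sep.range_moι]
    exact htU
  have hcb : m₀.base ⟶ m'.base := c.hom
  let c' : m₀.base ⟶ (K864.Sep.mo m' V).base := Over.homMk (IsOpenImmersion.lift ι₁.hom.left c.hom.left hr) (by
    have h1 := Over.w ι₁.hom
    have h2 := Over.w c.hom
    rw [← h1, ← Category.assoc, IsOpenImmersion.lift_fac]
    exact h2)
  have hc' : c' ≫ ι₁.hom = c.hom := Over.OverMorphism.ext (IsOpenImmersion.lift_fac _ _ _)
  let η' : (ofSp M').obj := ⟨(K864.Sep.mo m' V).base, M'.obj.map (ι₁.hom ≫ p.hom).op (etaOf E₀).sec⟩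
  let k₀ : η' ⟶ etaOf E₀ := ⟨ι₁.hom ≫ p.hom, rfl⟩
  have hpe : Etale p.hom.left := hP @Etale E.property
  have hk₀ : Etale k₀.hom.left := by
    change Etale (ι₁.hom.left ≫ p.hom.left)
    infer_instance
  have hm : M.obj.map (ι₁.hom ≫ q.hom).op (etaOf E).sec = ((ofSpMap g).obj η').sec := by
    have h1 : M.obj.map (ι₁.hom ≫ q.hom).op (etaOf E).sec = (K864.Sep.mo m' V).sec := (ι₁ ≫ q).map_sec
    have h2 : M.obj.map (ι₁.hom ≫ p.hom).op ((ofSpMap g).obj (etaOf E₀)).sec = (K864.Sep.mo m' V).sec :=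
      (ι₁ ≫ p).map_sec
    rw [h1, ← h2]
    exact (congrArg (fun k => k (etaOf E₀).sec) (g.hom.naturality (ι₁.hom ≫ p.hom).op)).symm
  let m : (ofSpMap g).obj η' ⟶ etaOf E := ⟨ι₁.hom ≫ q.hom, hm⟩
  have hcp : c.hom ≫ p.hom = a'.hom := congrArg Stk.EltObj.Hom.hom hc1
  have hcq : c.hom ≫ q.hom = b.hom := congrArg Stk.EltObj.Hom.hom hc2
  let a : m₀ ⟶ η' := ⟨c', by
    change M'.obj.map c'.op (M'.obj.map (ι₁.hom ≫ p.hom).op (etaOf E₀).sec) = m₀.sec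
    rw [← Functor.map_comp_apply, ← op_comp, ← Category.assoc, hc', hcp]
    exact a'.map_sec⟩
  refine ⟨η', m, a, SpGeo.isEt_of_hom (SpGeo.isEt_etaOf E₀) k₀ hk₀, hV, Stk.EltObj.hom_ext ?_⟩
  change c' ≫ ι₁.hom ≫ q.hom = b.hom
  rw [← Category.assoc, hc', hcq]

/-- Affine étale neighbourhoods over `M'` mapping to a given one over `M`. -/
theorem exists_etOver_map (hM' : IsAlgSpace M') (g : M' ⟶ M) (E : EtOver M) (m₀ : (ofSp M').obj) {K : Type u} [Field K]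
    [IsAlgClosed K] (i : m₀.base.left ≅ Spec (CommRingCat.of K)) (b : (ofSpMap g).obj m₀ ⟶ etaOf E) :
    ∃ (E' : EtOver M') (m : (ofSpMap g).obj (etaOf E') ⟶ etaOf E) (a : m₀ ⟶ etaOf E'), IsAffine E'.obj.left.left ∧
      (ofSpMap g).map a ≫ m = b := by
  obtain ⟨η', m, a, h1, h2, h3⟩ := exists_isEt_map hM' g E m₀ i b
  obtain ⟨E', rfl⟩ := SpGeo.exists_etaOf h1
  exact ⟨E', m, a, h2, h3⟩

end Nhd

section Shrink

variable {𝒳' : BasedCategory.{v, w} (Over S)} {M' : Sp S} (h𝒳' : FibCat.IsFibGrpd 𝒳'.p) {π' : 𝒳' ⥤ᵇ ofSp M'}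
  {Q : 𝒳'.obj → Prop} (hQ : HasOpenLocus Q)

include hQ in
theorem isCl_compl : IsCl h𝒳' (Set.range (Points.map (subIncl 𝒳' Q)))ᶜ := by
  intro ξ hξ
  have h1 : prei h𝒳' (Set.range (Points.map (subIncl 𝒳' Q)))ᶜ ξ = (loc hQ ξ : Set ↥(sch 𝒳' ξ))ᶜ := by
    ext t
    rw [mem_prei, Set.mem_compl_iff, pt_mem_range hQ h𝒳']
    rfl
  rw [h1]
  exact (loc hQ ξ).isOpen.isClosed_compl

include h𝒳' in
/-- If all points of an object lie in an open substack then so does the object. -/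
theorem of_forall_aff {ξ : 𝒳'.obj} (h : ∀ (x : 𝒳'.obj) (φ : x ⟶ ξ) (t : ↥(sch 𝒳' x)), IsAffine (sch 𝒳' x) → t ∈ loc hQ x) :
    Q ξ := by
  rw [iff_forall hQ]
  intro t
  have hx : IsAffine (sch 𝒳' (fpt h𝒳' ξ t).obj) := by
    have e2 : 𝒳'.p.obj (fpt h𝒳' ξ t).obj = Over.mk (fpt h𝒳' ξ t).str := (fpt h𝒳' ξ t).lies
    change IsAffine (𝒳'.p.obj (fpt h𝒳' ξ t).obj).left
    rw [e2]
    change IsAffine (Spec (CommRingCat.of (fpt h𝒳' ξ t).K))
    infer_instance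
  have h1 := h _ (fptArr h𝒳' ξ t) (ptt (fpt h𝒳' ξ t)) hx
  rw [mem_loc_map hQ h𝒳' (fptArr h𝒳' ξ t), bmap_fptArr_ptt] at h1
  exact h1

/-- Shrinking an affine étale neighbourhood of a closed point: all objects over it lie in an open substack. -/
theorem exists_shrink (hL : K864.Sep.Loc π') (hu : UnitIsIso π') (E' : EtOver M') (hE' : IsAffine E'.obj.left.left)
    {x₀ : 𝒳'.obj} (hx₀ : IsAffine (sch 𝒳' x₀)) (t₀ : ↥(sch 𝒳' x₀)) (hsub : ∀ t : ↥(sch 𝒳' x₀), t = t₀)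
    (a : π'.obj x₀ ⟶ etaOf E') (hcl : IsCl h𝒳' {pt h𝒳' x₀ t₀}) (ht₀ : t₀ ∈ loc hQ x₀) :
    ∃ (E'' : EtOver M') (k : etaOf E'' ⟶ etaOf E') (a'' : π'.obj x₀ ⟶ etaOf E''), IsAffine E''.obj.left.left ∧
      a'' ≫ k = a ∧ ∀ (ξ : 𝒳'.obj) (α : π'.obj ξ ⟶ etaOf E''), Q ξ := by
  let W : Fin 2 → Set (Points 𝒳') := ![{pt h𝒳' x₀ t₀}, (Set.range (Points.map (subIncl 𝒳' Q)))ᶜ]
  have hW : ∀ i, IsCl h𝒳' (W i) := by
    intro i
    fin_cases i
    · exact hcl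
    · exact isCl_compl h𝒳' hQ
  obtain ⟨m', k, i, hk, hm', ⟨z₀, hz₀⟩, hi⟩ := K864.Sep.exists_nbhd h𝒳' hL hu 2 W hW (etaOf E') (SpGeo.isEt_etaOf E') hE'
    ((baseOver π' x₀ a).left t₀) (by
      intro ξ α t hξ
      by_cases h1 : pt h𝒳' ξ t = pt h𝒳' x₀ t₀
      · refine ⟨1, ?_⟩
        intro h2
        refine h2 ?_
        rw [h1, pt_mem_range hQ h𝒳']
        exact ht₀
      · exact ⟨0, h1⟩)
  -- the lift of `a`
  haveI := hk
  have hr : Set.range (baseOver π' x₀ a).left ⊆ Set.range k.hom.left := by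
    rintro _ ⟨t, rfl⟩
    rw [hsub t]
    exact ⟨z₀, hz₀⟩
  let j : (π'.obj x₀).base ≅ 𝒳'.p.obj x₀ := eqToIso (π'.w_obj x₀)
  have hja : j.hom ≫ baseOver π' x₀ a = a.hom := by
    change eqToHom (π'.w_obj x₀) ≫ eqToHom (π'.w_obj x₀).symm ≫ a.hom = a.hom
    rw [eqToHom_trans_assoc, eqToHom_refl, Category.id_comp]
  let c : 𝒳'.p.obj x₀ ⟶ m'.base := Over.homMk (IsOpenImmersion.lift k.hom.left (baseOver π' x₀ a).left hr) (by
    have h1 := Over.w k.hom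
    have h2 := Over.w (baseOver π' x₀ a)
    rw [← h1, ← Category.assoc, IsOpenImmersion.lift_fac]
    exact h2)
  have hc : c ≫ k.hom = baseOver π' x₀ a := Over.OverMorphism.ext (IsOpenImmersion.lift_fac _ _ _)
  have hc2 : (j.hom ≫ c) ≫ k.hom = a.hom := by rw [Category.assoc, hc, hja]
  let a'' : π'.obj x₀ ⟶ m' := ⟨j.hom ≫ c, by
    rw [← k.map_sec, ← Functor.map_comp_apply, ← op_comp, hc2]
    exact a.map_sec⟩
  have ha'' : a'' ≫ k = a := Stk.EltObj.hom_ext hc2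
  have hi1 : ∀ (ξ : 𝒳'.obj) (α : π'.obj ξ ⟶ m'), Q ξ := by
    intro ξ α
    fin_cases i
    · exact (hi x₀ a'' t₀ hx₀ rfl).elim
    · refine of_forall_aff h𝒳' hQ (fun x φ t hx => ?_)
      have h1 := hi x (π'.map φ ≫ α) t hx
      have h2 : pt h𝒳' x t ∈ Set.range (Points.map (subIncl 𝒳' Q)) := by
        by_contra h3
        exact h1 h3
      exact (pt_mem_range hQ h𝒳').1 h2
  obtain ⟨E'', rfl⟩ := SpGeo.exists_etaOf (SpGeo.isEt_of_hom (SpGeo.isEt_etaOf E') k inferInstance)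
  exact ⟨E'', k, a'', hm', ha'', hi1⟩

end Shrink

section Term

variable {M' M : Sp S} {g : M' ⟶ M} {𝒳' : BasedCategory.{v', w'} (Over S)} {𝒳 : BasedCategory.{v, w} (Over S)}
  {f : 𝒳' ⥤ᵇ 𝒳} {π' : 𝒳' ⥤ᵇ ofSp M'} {π : 𝒳 ⥤ᵇ ofSp M} (e : BasedFunctor.comp f π ≅ BasedFunctor.comp π' (ofSpMap g))

/-- Factorization through an open immersion. -/
theorem existsUnique_fac_open (h𝒳' : FibCat.IsFibGrpd 𝒳'.p) {z' z w : 𝒳'.obj} (c : z' ⟶ z) [IsOpenImmersion (bmap 𝒳' c)]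
    (χ : w ⟶ z) (h : Set.range (bmap 𝒳' χ) ⊆ Set.range (bmap 𝒳' c)) : ∃! κ : w ⟶ z', κ ≫ c = χ := by
  obtain ⟨κ, ⟨h1, h2⟩, -⟩ := Grpd.existsUnique_hom_sch h𝒳' c χ (IsOpenImmersion.lift (bmap 𝒳' c) (bmap 𝒳' χ) h)
    (IsOpenImmersion.lift_fac _ _ _)
  refine ⟨κ, h2, fun κ' hκ' => ?_⟩
  refine Grpd.hom_ext_sch h𝒳' c ?_ (hκ'.trans h2.symm)
  rw [← cancel_mono (bmap 𝒳' c), ← bmap_comp, ← bmap_comp, hκ', h2]

/-- Universal arrows in the fibre categories. -/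
theorem exists_isTerm_fibSq (h𝒳' : FibCat.IsFibGrpd 𝒳'.p) {Q : 𝒳'.obj → Prop} (E' : EtOver M') (E : EtOver M)
    (hE' : IsAffine E'.obj.left.left) (hE : IsAffine E.obj.left.left) (m : (ofSpMap g).obj (etaOf E') ⟶ etaOf E)
    (hQ : ∀ (ξ : 𝒳'.obj) (α : π'.obj ξ ⟶ etaOf E'), Q ξ) (ξ : (fibCat π (etaOf E)).obj) {z : (fullSub 𝒳' Q).obj}
    (α₀ : (BasedFunctor.comp (subIncl 𝒳' Q) f).obj z ⟶ FObj.pt ξ)
    (hα₀ : IsTerm (BasedFunctor.comp (subIncl 𝒳' Q) f) α₀)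
    (he : Etale (str (BasedFunctor.comp (subIncl 𝒳' Q) f) α₀))
    (hs : IsSeparated (str (BasedFunctor.comp (subIncl 𝒳' Q) f) α₀)) :
    ∃ (y : (fibCat π' (etaOf E')).obj) (α : (fibSq e m).obj y ⟶ ξ), IsTerm (fibSq e m) α ∧
      Etale (str (fibSq e m) α) ∧ IsSeparated (str (fibSq e m) α) := by
  obtain ⟨y₁, φ, hφ, hφe, hφs, -⟩ := exists_fibObj h𝒳' π' E' z.obj
  have hφs' := hφs hE'
  let A : f.obj z.obj ⟶ FObj.pt ξ := α₀
  -- two arrows
  let a₁ : (BasedFunctor.comp f π).obj y₁.pt ⟶ etaOf E := π.map (f.map φ ≫ A) ≫ FObj.arr ξ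
  let a₂ : (BasedFunctor.comp f π).obj y₁.pt ⟶ etaOf E := eArr e y₁.pt ≫ (ofSpMap g).map y₁.arr ≫ m
  obtain ⟨W, hWc, hW⟩ := exists_agree h𝒳' (BasedFunctor.comp f π) E hE (z := y₁.pt) a₁ a₂
  have hW1 : ∀ {x : 𝒳'.obj} (c : x ⟶ y₁.pt), (BasedFunctor.comp f π).map c ≫ a₁ = π.map (f.map (c ≫ φ) ≫ A) ≫ FObj.arr ξ := by
    intro x c
    change π.map (f.map c) ≫ π.map (f.map φ ≫ A) ≫ FObj.arr ξ = _
    rw [← Category.assoc, ← Functor.map_comp, ← Category.assoc (f.map c), ← Functor.map_comp]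
  have hW2 : ∀ {x : 𝒳'.obj} (c : x ⟶ y₁.pt), (BasedFunctor.comp f π).map c ≫ a₂ =
      eArr e x ≫ (ofSpMap g).map (π'.map c ≫ y₁.arr) ≫ m := by
    intro x c
    change π.map (f.map c) ≫ eArr e y₁.pt ≫ (ofSpMap g).map y₁.arr ≫ m = _
    rw [← Category.assoc, eArr_nat, Category.assoc, Functor.map_comp, Category.assoc]
  obtain ⟨z', c, ez, hc⟩ := Grpd.exists_lift_sch h𝒳' y₁.pt W.ι
  haveI hci : IsOpenImmersion (bmap 𝒳' c) := by
    rw [hc]
    infer_instance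
  have hcr : Set.range (bmap 𝒳' c) = (W : Set ↥(sch 𝒳' y₁.pt)) := by
    rw [hc]
    ext s
    constructor
    · rintro ⟨t, rfl⟩
      rw [Scheme.Hom.comp_apply]
      exact (ez.hom t).2
    · intro h
      refine ⟨ez.inv ⟨s, h⟩, ?_⟩
      rw [← Scheme.Hom.comp_apply, Iso.inv_hom_id_assoc]
      rfl
  have hcw := (hW c).2 hcr.subset
  rw [hW1, hW2] at hcw
  let y : (fibCat π' (etaOf E')).obj := (⟨z', π'.map c ≫ y₁.arr⟩ : FObj π' (etaOf E'))
  let α : (fibSq e m).obj y ⟶ ξ := FObj.mkHom (f.map (c ≫ φ) ≫ A) hcw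
  have hstr : str (fibSq e m) α = bmap 𝒳' c ≫ bmap 𝒳' φ ≫ str f A := by
    have h1 : str (fibSq e m) α = str f (f.map (c ≫ φ) ≫ A) := rfl
    rw [h1, str_map, bmap_comp, Category.assoc]
  have hstr₀ : str f A = str (BasedFunctor.comp (subIncl 𝒳' Q) f) α₀ := rfl
  refine ⟨y, α, ?_, ?_, ?_⟩
  · intro w β
    let wQ : (fullSub 𝒳' Q).obj := ⟨FObj.pt w, hQ _ (FObj.arr w)⟩
    obtain ⟨χ₀, hχ₀, hu₀⟩ := hα₀ wQ β.hom
    obtain ⟨χ₁, hχ₁, hu₁⟩ := hφ w χ₀.hom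
    have h1 : (FObj.Hom.hom χ₁) ≫ φ = χ₀.hom := hχ₁
    have h2 : f.map χ₀.hom ≫ A = β.hom := hχ₀
    have h3 : π.map β.hom ≫ FObj.arr ξ = eArr e (FObj.pt w) ≫ (ofSpMap g).map (FObj.arr w) ≫ m := β.comm
    have h4 : π'.map (FObj.Hom.hom χ₁) ≫ y₁.arr = FObj.arr w := FObj.Hom.comm χ₁
    have h5 : (BasedFunctor.comp f π).map (FObj.Hom.hom χ₁) ≫ a₁ = (BasedFunctor.comp f π).map (FObj.Hom.hom χ₁) ≫ a₂ := by
      rw [hW1, hW2, h1, h2, h3, h4]
    have h6 := (hW _).1 h5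
    rw [← hcr] at h6
    obtain ⟨κ, hκ, huκ⟩ := existsUnique_fac_open h𝒳' c (FObj.Hom.hom χ₁) h6
    have hκ' : κ ≫ c = FObj.Hom.hom χ₁ := hκ
    refine ⟨FObj.mkHom κ ?_, ?_, ?_⟩
    · change π'.map κ ≫ π'.map c ≫ y₁.arr = FObj.arr w
      rw [← Category.assoc, ← Functor.map_comp, hκ', h4]
    · refine FObj.hom_ext ?_
      change f.map κ ≫ f.map (c ≫ φ) ≫ A = β.hom
      rw [← Category.assoc, ← Functor.map_comp, ← Category.assoc κ, hκ', h1, h2]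
    · intro χ' hχ'
      refine FObj.hom_ext ?_
      apply huκ
      have h7 : f.map (FObj.Hom.hom χ') ≫ f.map (c ≫ φ) ≫ A = β.hom := congrArg (fun t => FObj.Hom.hom t) hχ'
      have h8 : (FObj.Hom.hom χ') ≫ c ≫ φ = χ₀.hom := by
        have h9 := hu₀ (ObjectProperty.homMk (FObj.Hom.hom χ' ≫ c ≫ φ)) (by
          change f.map (FObj.Hom.hom χ' ≫ c ≫ φ) ≫ A = β.hom
          rw [Functor.map_comp, Category.assoc]
          exact h7)
        exact congrArg (fun t => t.hom) h9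
      let χ'' : w ⟶ y₁ := FObj.mkHom (FObj.Hom.hom χ' ≫ c) (by
        change π'.map (FObj.Hom.hom χ' ≫ c) ≫ y₁.arr = FObj.arr w
        rw [Functor.map_comp, Category.assoc]
        exact FObj.Hom.comm χ')
      have h10 := hu₁ χ'' (by
        change (FObj.Hom.hom χ' ≫ c) ≫ φ = χ₀.hom
        rw [Category.assoc, h8])
      exact congrArg (fun t => FObj.Hom.hom t) h10
  · rw [hstr, hstr₀]
    haveI := he
    infer_instance
  · rw [hstr, hstr₀]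
    haveI := hs
    infer_instance

end Term

/-- Node N4 of Luna's slice theorem: étale affine neighbourhoods `E'`, `E` over which the functor of fibre categories has étale,
separated and quasi-compact universal arrows. -/
theorem exists_level0 (S : Scheme.{u}) [QuasiSeparatedSpace S]
    (𝒳' 𝒳 : AlgSt.Cat S) (h𝒳' : AlgSt.IsAlgStack Scheme.fppfPrecoverage 𝒳') (h𝒳 : AlgSt.IsAlgStack Scheme.fppfPrecoverage 𝒳)
    (hq' : AlgSt.IsQuasiCompact 𝒳') (hq : AlgSt.IsQuasiCompact 𝒳)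
    (hd' : StPt.HasAffineDiag 𝒳') (hd : StPt.HasAffineDiag 𝒳)
    (X' X : AlgSp.Space S) (hX' : AlgSp.IsQuasiSeparatedSp X'.obj) (hX : AlgSp.IsQuasiSeparatedSp X.obj)
    (π' : 𝒳' ⥤ᵇ AlgSt.ofSp X'.obj) (π : 𝒳 ⥤ᵇ AlgSt.ofSp X.obj)
    (hπ'c : AlgSt.IsQuasiCompactMor Scheme.fppfPrecoverage π') (hπ's : AlgSt.IsQuasiSeparatedMor π') (hπ' : StMod.IsGoodModuli π')
    (hπc : AlgSt.IsQuasiCompactMor Scheme.fppfPrecoverage π) (hπs : AlgSt.IsQuasiSeparatedMor π) (hπ : StMod.IsGoodModuli π)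
    (f : 𝒳' ⥤ᵇ 𝒳) (hf : AlgSt.RepByAlgSpWith AlgSp.IsSeparatedMor f) (g : X'.obj ⟶ X.obj)
    (e : BasedFunctor.comp f π ≅ BasedFunctor.comp π' (AlgSt.ofSpMap g))
    (q : AlgSt.FPt 𝒳') [IsAlgClosed q.K] (ha : StPt.IsEtaleAt Scheme.fppfPrecoverage f (AlgSt.Points.mk q))
    (hc : IsClosed ({AlgSt.Points.mk q} : Set (AlgSt.Points 𝒳'))) :
    ∃ (E' : EtOver X'.obj) (E : EtOver X.obj) (m : (ofSpMap g).obj (etaOf E') ⟶ etaOf E) (_ : π'.obj q.obj ⟶ etaOf E'),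
      IsAffine E'.obj.left.left ∧ IsAffine E.obj.left.left ∧
      IsRep (@Etale ⊓ (@IsSeparated ⊓ @QuasiCompact)) (fibSq e m) := by
  have hF' := h𝒳'.isStack.1
  have hF := h𝒳.isStack.1
  have hL' : K864.Sep.Loc π' := fun E hE => K907.GM.exact_and_pres h𝒳' hX' hπ'c hπ's hπ'.1 E hE
  have hL : K864.Sep.Loc π := fun E hE => K907.GM.exact_and_pres h𝒳 hX hπc hπs hπ.1 E hE
  -- the étale neighbourhoods
  let i' : (π'.obj q.obj).base.left ≅ Spec (CommRingCat.of q.K) :=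
    (Over.forget S).mapIso (eqToIso ((π'.w_obj q.obj).trans q.lies))
  let i : (π.obj (f.obj q.obj)).base.left ≅ Spec (CommRingCat.of q.K) :=
    (Over.forget S).mapIso (eqToIso ((π.w_obj (f.obj q.obj)).trans ((f.w_obj q.obj).trans q.lies)))
  obtain ⟨E, b₀, hE⟩ := exists_etOver_nhd X.property (π.obj (f.obj q.obj)) i
  haveI := isIso_eArr e q.obj
  obtain ⟨E₁, m₁, a₁, hE₁, -⟩ := exists_etOver_map X'.property g E (π'.obj q.obj) i' (inv (eArr e q.obj) ≫ b₀)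
  -- the open substack
  obtain ⟨Q, hQ, ⟨p, hp, hpQ⟩, het⟩ := ha
  have hQ' : HasOpenLocus Q := K738.Unr.hasOpenLocus_of h𝒳' hQ
  have hmk : AlgSt.Points.mk q = pt hF' q.obj (ptt q) := K907.Disj.mk_eq_pt_self hF' q (ptt q)
  have hmkp : AlgSt.Points.mk p = pt hF' p.obj (ptt p) := K907.Disj.mk_eq_pt_self hF' p (ptt p)
  have hx₀ : IsAffine (sch 𝒳' q.obj) := by
    change IsAffine (𝒳'.p.obj q.obj).left
    rw [q.lies]
    change IsAffine (Spec (CommRingCat.of q.K))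
    infer_instance
  have ht₀ : ptt q ∈ loc hQ' q.obj := by
    rw [mem_loc_of_eq hQ' hF' (hmk.symm.trans (hp.symm.trans hmkp))]
    exact (iff_forall hQ').1 hpQ _
  have hcl : IsCl hF' {pt hF' q.obj (ptt q)} := by
    rw [← hmk]
    exact K907.Rows.isCl_of_isClosed hF' (K735.Top.chartCont_of_isAlgStack h𝒳') hc
  obtain ⟨E', k, a, hE', -, hall⟩ := exists_shrink hF' hQ' hL' hπ'.2 E₁ hE₁ hx₀ (ptt q) (fun t => eq_ptt q t) a₁ hcl ht₀
  refine ⟨E', E, (ofSpMap g).map k ≫ m₁, a, hE', hE, ?_⟩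
  have hrep := K908.LunaRep.repByAlgSpWith_etSep_comp_subIncl hF' hQ hf het
  have h1 : IsRep (@Etale ⊓ @IsSeparated) (fibSq e ((ofSpMap g).map k ≫ m₁)) := by
    intro ξ hξ
    obtain ⟨z, α₀, h2, h3, h4⟩ := K908.LunaRep.exists_isTerm_etSep hF hrep (FObj.pt ξ)
    obtain ⟨y, α, h5, h6, h7⟩ := exists_isTerm_fibSq e hF' E' E hE' hE ((ofSpMap g).map k ≫ m₁) hall ξ α₀ h2 h3 h4
    exact ⟨y, α, h5, h6, h7⟩
  obtain ⟨-, ⟨P⟩⟩ := hL E hE
  obtain ⟨-, ⟨P'⟩⟩ := hL' E' hE'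
  intro ξ hξ
  obtain ⟨y, α, h5, h6, h7⟩ := h1 ξ hξ
  exact ⟨y, α, h5, h6, h7, K908.LunaQc.quasiCompact_of_pres (isFibGrpd_fibCat hF) (isFibGrpd_fibCat hF') P P' h1 hξ h5⟩

end K908.LunaN4
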