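import Groth.Prelude.Def_StMod

/-!
# Objects of a category fibred in groupoids over `(Sch/S)`: restrictions and lifts at the level of schemes
-/

set_option autoImplicit false
set_option linter.unusedVariables false
set_option linter.style.haveILetI false
set_option backward.isDefEq.respectTransparency false
set_option backward.isDefEq.respectTransparency.types false

universe v' w' v w u

open CategoryTheory CategoryTheory.Limits AlgebraicGeometry Opposite TopologicalSpace StMod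

namespace K908.Fib

variable {S : Scheme.{u}} {𝒳 : BasedCategory.{v, w} (Over S)}

/-- Restriction of an object along a morphism of schemes. -/
theorem exists_pull [hX : FibCat.IsFibGrpd 𝒳.p] (ξ : 𝒳.obj) {T : Scheme.{u}} (g : T ⟶ sch 𝒳 ξ) :
    ∃ (ζ : 𝒳.obj) (φ : ζ ⟶ ξ) (e : T ≅ sch 𝒳 ζ), e.hom ≫ bmap 𝒳 φ = g := by
  let g' : Over.mk (g ≫ (𝒳.p.obj ξ).hom) ⟶ 𝒳.p.obj ξ := Over.homMk g rfl
  obtain ⟨ζ, φ, hφ⟩ := hX.exists_lift g'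
  have h1 : 𝒳.p.obj ζ = Over.mk (g ≫ (𝒳.p.obj ξ).hom) := IsHomLift.domain_eq 𝒳.p g' φ
  refine ⟨ζ, φ, (Over.forget S).mapIso (eqToIso h1.symm), ?_⟩
  have h2 : g' = eqToHom h1.symm ≫ 𝒳.p.map φ ≫ eqToHom rfl := IsHomLift.fac 𝒳.p g' φ
  have h3 := congrArg (fun k => k.left) h2
  simp only [Over.comp_left, eqToHom_refl, Category.comp_id] at h3
  exact h3.symm

/-- Lifts: given `φ : ζ ⟶ ξ`, `ψ : ζ' ⟶ ξ` and a factorization of the morphism of schemes under `ψ` through the one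
under `φ` there is a unique factorization of `ψ` through `φ` over it. -/
theorem existsUnique_lift [hX : FibCat.IsFibGrpd 𝒳.p] {ξ ζ ζ' : 𝒳.obj} (φ : ζ ⟶ ξ) (ψ : ζ' ⟶ ξ)
    (h : sch 𝒳 ζ' ⟶ sch 𝒳 ζ) (hh : h ≫ bmap 𝒳 φ = bmap 𝒳 ψ) :
    ∃! χ : ζ' ⟶ ζ, χ ≫ φ = ψ ∧ bmap 𝒳 χ = h := by
  have hs := hX.isStronglyCartesian φ
  have hw : h ≫ (𝒳.p.obj ζ).hom = (𝒳.p.obj ζ').hom := by
    have h1 : bmap 𝒳 φ ≫ (𝒳.p.obj ξ).hom = (𝒳.p.obj ζ).hom := Over.w (𝒳.p.map φ)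
    have h2 : bmap 𝒳 ψ ≫ (𝒳.p.obj ξ).hom = (𝒳.p.obj ζ').hom := Over.w (𝒳.p.map ψ)
    rw [← h1, ← h2, ← hh, Category.assoc]
  let g : 𝒳.p.obj ζ' ⟶ 𝒳.p.obj ζ := Over.homMk h hw
  have hg : g ≫ 𝒳.p.map φ = 𝒳.p.map ψ := by
    ext
    exact hh
  have : 𝒳.p.IsHomLift (g ≫ 𝒳.p.map φ) ψ := by
    rw [hg]
    exact IsHomLift.map 𝒳.p ψ
  obtain ⟨χ, ⟨h1, h2⟩, hu⟩ := hs.universal_property' g ψ
  refine ⟨χ, ⟨h2, ?_⟩, ?_⟩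
  · have h3 : g = 𝒳.p.map χ := IsHomLift.eq_of_isHomLift 𝒳.p g χ
    exact (congrArg (fun k => k.left) h3).symm
  · rintro χ' ⟨h3, h4⟩
    refine hu χ' ⟨?_, h3⟩
    have h5 : g = 𝒳.p.map χ' := by
      ext
      exact h4.symm
    rw [h5]
    exact IsHomLift.map 𝒳.p χ'

theorem hom_ext_of_comp [hX : FibCat.IsFibGrpd 𝒳.p] {ξ ζ ζ' : 𝒳.obj} (φ : ζ ⟶ ξ) {χ χ' : ζ' ⟶ ζ}
    (h : χ ≫ φ = χ' ≫ φ) (hb : bmap 𝒳 χ = bmap 𝒳 χ') : χ = χ' := by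
  refine (existsUnique_lift φ (χ' ≫ φ) (bmap 𝒳 χ') ?_).unique ⟨h, hb⟩ ⟨rfl, rfl⟩
  rw [bmap_comp]

theorem hom_ext_of_mono [hX : FibCat.IsFibGrpd 𝒳.p] {ξ ζ ζ' : 𝒳.obj} (φ : ζ ⟶ ξ) [Mono (bmap 𝒳 φ)]
    {χ χ' : ζ' ⟶ ζ} (h : χ ≫ φ = χ' ≫ φ) : χ = χ' := by
  refine hom_ext_of_comp φ h ?_
  rw [← cancel_mono (bmap 𝒳 φ), ← bmap_comp, ← bmap_comp, h]

/-- A lift through an arrow lying over an open immersion. -/
theorem exists_lift_open [hX : FibCat.IsFibGrpd 𝒳.p] {ξ ζ ζ' : 𝒳.obj} (φ : ζ ⟶ ξ) (ψ : ζ' ⟶ ξ)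
    [IsOpenImmersion (bmap 𝒳 φ)] (h : Set.range (bmap 𝒳 ψ) ⊆ Set.range (bmap 𝒳 φ)) :
    ∃ χ : ζ' ⟶ ζ, χ ≫ φ = ψ :=
  let ⟨χ, hχ, _⟩ := existsUnique_lift φ ψ (IsOpenImmersion.lift (bmap 𝒳 φ) (bmap 𝒳 ψ) h)
    (IsOpenImmersion.lift_fac _ _ h)
  ⟨χ, hχ.1⟩

/-- Restriction of an object to an open subscheme. -/
theorem exists_restr [hX : FibCat.IsFibGrpd 𝒳.p] (ξ : 𝒳.obj) (U : (sch 𝒳 ξ).Opens) :
    ∃ (ζ : 𝒳.obj) (φ : ζ ⟶ ξ) (_ : IsOpenImmersion (bmap 𝒳 φ)), (bmap 𝒳 φ).opensRange = U := by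
  obtain ⟨ζ, φ, e, he⟩ := exists_pull ξ U.ι
  have h1 : bmap 𝒳 φ = e.inv ≫ U.ι := by rw [← he, Iso.inv_hom_id_assoc]
  have : IsOpenImmersion (bmap 𝒳 φ) := by
    rw [h1]
    infer_instance
  refine ⟨ζ, φ, this, ?_⟩
  ext x
  constructor
  · rintro ⟨y, rfl⟩
    have : U.ι (e.inv y) ∈ U := (e.inv y).2
    have h2 : bmap 𝒳 φ y = U.ι (e.inv y) := by rw [h1]; rfl
    change bmap 𝒳 φ y ∈ U
    rw [h2]
    exact this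
  · intro hx
    refine ⟨e.hom ⟨x, hx⟩, ?_⟩
    have h2 : (e.hom ≫ bmap 𝒳 φ) ⟨x, hx⟩ = U.ι ⟨x, hx⟩ := by rw [he]
    exact h2

/-- An arrow lying over an open immersion onto an affine open has affine source. -/
theorem isAffine_of_opensRange {ξ ζ : 𝒳.obj} (φ : ζ ⟶ ξ) [IsOpenImmersion (bmap 𝒳 φ)]
    (h : IsAffineOpen (bmap 𝒳 φ).opensRange) : IsAffine (sch 𝒳 ζ) := by
  have : IsAffine (bmap 𝒳 φ).opensRange.toScheme := h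
  exact IsAffine.of_isIso (bmap 𝒳 φ).isoOpensRange.hom

end K908.Fib
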