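import Groth.Agent.StMod.K908.Cmp
import Groth.Agent.AlgSt.K750.Twist
import Groth.Agent.AlgSt.K750.QuotEff
import Groth.Agent.AlgSt.K736.QuotTriv
import Groth.Agent.AlgSt.K744.QuotFib
import Groth.Agent.AlgSt.K744.TorsProp

/-!
# The functor `BG ⟶ BH` of a homomorphism `q : G ⟶ H` of affine group schemes
-/

set_option autoImplicit false
set_option linter.unusedVariables false
set_option linter.style.haveILetI false
set_option backward.isDefEq.respectTransparency false
set_option backward.isDefEq.respectTransparency.types false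
set_option linter.dupNamespace false
set_option linter.unusedSectionVars false

universe u

open CategoryTheory CategoryTheory.Limits MonoidalCategory CartesianMonoidalCategory MonObj GrpObj AlgebraicGeometry
open StMod AlgSt K750.TorsPts K736.QuotTriv

namespace K908.BG

open K907.Sec K908.Cmp

variable {S : Scheme.{u}} {G H : Over S} [GrpObj G] [GrpObj H]

/-- The object of `ofSch` of the terminal scheme. -/
noncomputable def pt0 (V : Over S) : (ofSch (𝟙_ (Over S))).obj := ⟨V, ⟨toUnit V⟩⟩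

/-- Arrows between these objects. -/
noncomputable def ptMap {V' V : Over S} (f : V' ⟶ V) : pt0 V' ⟶ pt0 V :=
  ⟨f, ULift.ext _ _ (toUnit_unique _ _)⟩

variable (G) in
/-- The trivial torsor over `V`. -/
noncomputable def triv (V : Over S) : (AlgSt.BG Scheme.fppfPrecoverage G).obj :=
  (quotMap Scheme.fppfPrecoverage G (trivAction G)).obj (pt0 V)

variable (G) in
/-- Restriction of trivial torsors. -/
noncomputable def trivMap {V' V : Over S} (f : V' ⟶ V) : triv G V' ⟶ triv G V :=
  (quotMap Scheme.fppfPrecoverage G (trivAction G)).map (ptMap f)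

theorem trivMap_top {V' V : Over S} (f : V' ⟶ V) : (trivMap G f).top = G ◁ f := rfl

theorem trivMap_base {V' V : Over S} (f : V' ⟶ V) : (trivMap G f).base = f := rfl

theorem trivMap_id (V : Over S) : trivMap G (𝟙 V) = 𝟙 _ :=
  (quotMap Scheme.fppfPrecoverage G (trivAction G)).toFunctor.map_id (pt0 V)

theorem trivMap_comp {V'' V' V : Over S} (f : V'' ⟶ V') (g : V' ⟶ V) :
    trivMap G (f ≫ g) = trivMap G f ≫ trivMap G g :=
  (quotMap Scheme.fppfPrecoverage G (trivAction G)).toFunctor.map_comp (ptMap f) (ptMap g)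

/-- The unit point of the trivial torsor. -/
noncomputable def one (G : Over S) [GrpObj G] (V : Over S) : V ⟶ (triv G V).P :=
  show V ⟶ G ⊗ V from lift (1 : V ⟶ G) (𝟙 V)

theorem one_π (V : Over S) : one G V ≫ (triv G V).π = 𝟙 V := lift_snd _ _

/-- Right multiplication on the trivial torsor. -/
noncomputable def rm {V : Over S} (g : V ⟶ G) : triv G V ⟶ triv G V where
  base := 𝟙 V
  top := rmul g (𝟙 V)
  eqv := rmul_eqv g (𝟙 V)
  cart := isPullback_rmul g (𝟙 V)
  wφ := toUnit_unique _ _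

theorem rmul_one (V : Over S) : rmul (1 : V ⟶ G) (𝟙 V) = 𝟙 _ := by
  apply hom_eq
  intro W a t
  rw [lift_rmul, comp_one, _root_.mul_one, Category.comp_id, Category.comp_id]

theorem rmul_comp {V : Over S} (g h : V ⟶ G) : rmul g (𝟙 V) ≫ rmul h (𝟙 V) = rmul (g * h) (𝟙 V) := by
  apply hom_eq
  intro W a t
  rw [lift_rmul, ← Category.assoc, lift_rmul, lift_rmul, comp_mul, _root_.mul_assoc]
  simp only [Category.comp_id]

theorem rmul_whisker {V' V : Over S} (f : V' ⟶ V) (g : V ⟶ G) :
    rmul (f ≫ g) (𝟙 V') ≫ (G ◁ f) = (G ◁ f) ≫ rmul g (𝟙 V) := by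
  apply hom_eq
  intro W a t
  have h1 : ∀ {W : Over S} (a : W ⟶ G) (t : W ⟶ V'), lift a t ≫ (G ◁ f) = lift a (t ≫ f) := by
    intro W a t
    apply CartesianMonoidalCategory.hom_ext <;> simp
  rw [← Category.assoc, ← Category.assoc, h1, lift_rmul, h1, lift_rmul]
  simp only [Category.comp_id, Category.assoc]

theorem rm_one (V : Over S) : rm (1 : V ⟶ G) = 𝟙 _ :=
  QuotObj.hom_ext rfl (rmul_one V)

theorem rm_mul {V : Over S} (g h : V ⟶ G) : rm (g * h) = rm g ≫ rm h :=
  QuotObj.hom_ext (Category.comp_id _).symm (rmul_comp g h).symm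

theorem rm_nat {V' V : Over S} (f : V' ⟶ V) (g : V ⟶ G) : rm (f ≫ g) ≫ trivMap G f = trivMap G f ≫ rm g :=
  QuotObj.hom_ext ((Category.id_comp f).trans (Category.comp_id f).symm) (rmul_whisker f g)

/-- Every automorphism of a trivial torsor over the identity is a right multiplication. -/
theorem exists_rm {V : Over S} (α : triv G V ⟶ triv G V) (hα : α.base = 𝟙 V) : ∃ g : V ⟶ G, α = rm g := by
  obtain ⟨g, -, hg⟩ := exists_rightMul (G := G) (trivAction G) (𝟙 V) (toUnit V) (toUnit V) α.top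
    (by rw [← hα]; exact α.cart.w) α.eqv (toUnit_unique _ _)
  refine ⟨g, ?_⟩
  apply QuotObj.hom_ext
  · exact hα
  · exact hg

variable (q : G ⟶ H) [IsMonHom q]

/-- The trivial `H`-torsor with the action of `G` through `q`. -/
noncomputable def act : K750.Twist.Act G (AlgSt.BG Scheme.fppfPrecoverage H) where
  X V := triv H V
  xm f := trivMap H f
  xm_lift f := IsHomLift.map (AlgSt.BG Scheme.fppfPrecoverage H).p (trivMap H f)
  xm_id V := trivMap_id V
  xm_comp f g := trivMap_comp f g
  ρ g := rm (g⁻¹ ≫ q)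
  ρ_lift {V} g := IsHomLift.map (AlgSt.BG Scheme.fppfPrecoverage H).p (rm (g⁻¹ ≫ q))
  ρ_one V := by
    have : (1 : V ⟶ G)⁻¹ ≫ q = 1 := by rw [inv_one, Hom.one_def, Hom.one_def, Category.assoc, IsMonHom.one_hom]
    rw [this, rm_one]
  ρ_mul g h := by
    rw [_root_.mul_inv_rev, ← rm_mul]
    congr 1
    rw [Hom.mul_def, Hom.mul_def, Category.assoc, IsMonHom.mul_hom, ← Category.assoc]
    congr 1
    apply CartesianMonoidalCategory.hom_ext <;> simp
  ρ_nat f g := by
    have : (f ≫ g)⁻¹ ≫ q = f ≫ g⁻¹ ≫ q := by rw [← comp_inv, Category.assoc]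
    rw [this, rm_nat]

/-- The classifying stack of an affine group is a stack. -/
theorem isStack (H : Over S) [GrpObj H] [IsAffineHom H.hom] :
    Stk.IsStack (QuotSh.J Scheme.fppfPrecoverage S) (AlgSt.BG Scheme.fppfPrecoverage H) :=
  K750.QuotEff.isStack_quotSt Scheme.fppfPrecoverage_le_fpqcPrecoverage (trivAction H)

instance isFibGrpd (H : Over S) [GrpObj H] : FibCat.IsFibGrpd (AlgSt.BG Scheme.fppfPrecoverage H).p :=
  K744.QuotFib.isFibGrpd

section Bq

variable [IsAffineHom H.hom]

/-- The functor `BG ⟶ BH` of a homomorphism. -/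
noncomputable def bq : AlgSt.BG Scheme.fppfPrecoverage G ⥤ᵇ AlgSt.BG Scheme.fppfPrecoverage H :=
  K750.Twist.tFun (act q) (isStack H)

/-- The arrow of the trivial torsor attached to a point. -/
noncomputable def th {A : (AlgSt.BG Scheme.fppfPrecoverage G).obj} {V : Over S} (p : V ⟶ A.P) :
    triv H V ⟶ (bq q).obj A :=
  (K750.Twist.yτ (act q) (isStack H) A).θ p

theorem th_lift {A : (AlgSt.BG Scheme.fppfPrecoverage G).obj} {V : Over S} (p : V ⟶ A.P) :
    (AlgSt.BG Scheme.fppfPrecoverage H).p.IsHomLift (p ≫ A.π) (th q p) := by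
  have := (K750.Twist.yτ (act q) (isStack H) A).lift p
  rwa [Category.comp_id] at this

theorem th_comp {A : (AlgSt.BG Scheme.fppfPrecoverage G).obj} {V' V : Over S} (t : V' ⟶ V) (p : V ⟶ A.P) :
    th q (t ≫ p) = trivMap H t ≫ th q p :=
  (K750.Twist.yτ (act q) (isStack H) A).comp t p

theorem th_act {A : (AlgSt.BG Scheme.fppfPrecoverage G).obj} {V : Over S} (g : V ⟶ G) (p : V ⟶ A.P) :
    rm (g⁻¹ ≫ q) ≫ th q (K750.TorsPts.act A.act g p) = th q p :=
  (K750.Twist.yτ (act q) (isStack H) A).act g p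

theorem th_map {A B : (AlgSt.BG Scheme.fppfPrecoverage G).obj} (h : A ⟶ B) {V : Over S} (p : V ⟶ A.P) :
    th q p ≫ (bq q).map h = th q (p ≫ h.top) :=
  K750.Twist.θ_ym (act q) (isStack H) h p

theorem isIso_th {A : (AlgSt.BG Scheme.fppfPrecoverage G).obj} (p : A.base ⟶ A.P) (hp : p ≫ A.π = 𝟙 _) :
    IsIso (th q p) := by
  have h1 := th_lift q p
  rw [hp] at h1
  exact K751.FG.isIso_of_lift_id (isFibGrpd H) (th q p) h1

end Bq

end K908.BG
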