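import Groth.Agent.StMod.K908.BqPres
import Groth.Agent.StMod.K908.ToBase
import Groth.Agent.StMod.K908.Comap

/-!
# Sections over `BK ⟶ S` and `BG ⟶ BH` as invariants

* `K` affine flat: sections of `F` on `BK` over an affine `W` are the invariants of `Γ(F_{K × W})`;
* `1 ⟶ G' ⟶ G ⟶ H ⟶ 1`: sections of `F` on `BG` over the trivial `H`-torsor on `W` are the `G'`-invariants.
-/

set_option autoImplicit false
set_option linter.unusedVariables false
set_option linter.style.haveILetI false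
set_option backward.isDefEq.respectTransparency false
set_option backward.isDefEq.respectTransparency.types false
set_option linter.dupNamespace false
set_option linter.unusedSectionVars false

universe v w u

open CategoryTheory CategoryTheory.Limits MonoidalCategory CartesianMonoidalCategory MonObj GrpObj AlgebraicGeometry
open StMod AlgSt K750.TorsPts K736.QuotTriv

namespace K908.BGInv

open K906 K907.Sec K908.Cmp K908.BG K908.BGPts K908.BqPres K908.Comap

variable {S : Scheme.{u}}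

/-- The base as a category over itself. -/
abbrev PtC (S : Scheme.{u}) : AlgSt.Cat S := AlgSt.ofSch (Over.mk (𝟙 S))

theorem toPt_unique {V : Over S} (f g : V ⟶ Over.mk (𝟙 S)) : f = g :=
  Over.OverMorphism.ext (by
    have h1 : f.left ≫ 𝟙 S = V.hom := Over.w f
    have h2 : g.left ≫ 𝟙 S = V.hom := Over.w g
    exact (Category.comp_id _).symm.trans ((h1.trans h2.symm).trans (Category.comp_id _)))

section Arr

variable {𝒳 : BasedCategory.{v, w} (Over S)} (π : 𝒳 ⥤ᵇ PtC S) (w₀ : (PtC S).obj)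

/-- Arrows to an object of the base. -/
noncomputable def arr {x : 𝒳.obj} (b : 𝒳.p.obj x ⟶ w₀.base) : π.obj x ⟶ w₀ :=
  ⟨eqToHom (π.w_obj x) ≫ b, ULift.ext _ _ (toPt_unique _ _)⟩

theorem baseOver_arr {x : 𝒳.obj} (b : 𝒳.p.obj x ⟶ w₀.base) : baseOver π x (arr π w₀ b) = b := by
  change eqToHom (π.w_obj x).symm ≫ eqToHom (π.w_obj x) ≫ b = b
  simp

variable {π w₀}

theorem arr_ext {x : 𝒳.obj} {α β : π.obj x ⟶ w₀} (h : baseOver π x α = baseOver π x β) : α = β := by
  apply ToBase.hom_ext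
  unfold baseOver at h
  exact (cancel_epi (eqToHom (π.w_obj x).symm)).1 h

theorem map_arr {x y : 𝒳.obj} (φ : y ⟶ x) (b : 𝒳.p.obj x ⟶ w₀.base) :
    π.map φ ≫ arr π w₀ b = arr π w₀ (𝒳.p.map φ ≫ b) := by
  apply arr_ext
  have h1 := map_comp_baseOver π φ (arr π w₀ b)
  rw [baseOver_arr] at h1
  exact h1.symm.trans (baseOver_arr π w₀ _).symm

theorem eq_arr {x : 𝒳.obj} (α : π.obj x ⟶ w₀) : α = arr π w₀ (baseOver π x α) :=
  arr_ext (baseOver_arr π w₀ _).symm

end Arr

section Inv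

variable {K : Over S} [GrpObj K]

/-- Invariance under the group of a section over a trivial torsor, through a homomorphism. -/
def IsInv {G : Over S} [GrpObj G] (i : K ⟶ G) (F : Mod (AlgSt.BG Scheme.fppfPrecoverage G)) {W : Over S}
    (m : Γ(F.obj (triv G W), ⊤)) : Prop :=
  ∀ (V : Over S), IsAffine V.left → ∀ (k : V ⟶ K) (f : V ⟶ W),
    F.mapTop (rm (k ≫ i) ≫ trivMap G f) m = F.mapTop (trivMap G f) m

variable (σ : AlgSt.BG Scheme.fppfPrecoverage K ⥤ᵇ PtC S) (w₀ : (PtC S).obj)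

/-- The trivial torsor over an object of the base. -/
noncomputable def xW : FObj σ w₀ := ⟨triv K w₀.base, arr σ w₀ (𝟙 w₀.base)⟩

theorem covers_xW [IsAffineHom K.hom] [Flat K.hom] :
    K906.Sect.Covers (fun _ : PUnit.{1} => (xW σ w₀ : FObj σ w₀)) := by
  intro x hx
  let b : x.pt.P ⟶ w₀.base := (tot x.pt).base ≫ baseOver σ x.pt x.arr
  refine ⟨⟨triv K x.pt.P, σ.map (tot x.pt) ≫ x.arr⟩, FObj.mkHom (tot x.pt) rfl, PUnit.unit,
    FObj.mkHom (trivMap K b) ?_, affine_tot _ hx, isFCov_tot _⟩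
  change σ.map (trivMap K b) ≫ arr σ w₀ (𝟙 w₀.base) = σ.map (tot x.pt) ≫ x.arr
  rw [map_arr, eq_arr (σ.map (tot x.pt) ≫ x.arr)]
  congr 1
  rw [← map_comp_baseOver]
  exact Category.comp_id _

variable {σ w₀}

/-- Construction of a section from an invariant. -/
theorem exists_sect [IsAffineHom K.hom] [Flat K.hom] (F : QCoh (AlgSt.BG Scheme.fppfPrecoverage K))
    (hW : IsAffine w₀.base.left) (m : Γ(F.obj.obj (triv K w₀.base), ⊤)) (hm : IsInv (𝟙 K) F.obj m) :
    ∃ s : Mod.RelSect σ F.obj w₀, s.1 (triv K w₀.base) (arr σ w₀ (𝟙 w₀.base)) = m := by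
  obtain ⟨s, hs⟩ := K906.Sect.exists_relSect_of_covers (isFibGrpd K) F (covers_xW σ w₀) (fun _ => hW) (fun _ => m) (by
    intro z _ _ a b hz
    have hz' : IsAffine (sch (AlgSt.BG Scheme.fppfPrecoverage K) z.pt) := hz
    have hV : IsAffine z.pt.P.left := affine_tot z.pt hz'
    apply K906.Sect.mapTop_injective F (tot z.pt) (affine_tot z.pt hz') hz' (isFCov_tot _)
    obtain ⟨ga, ea, ha⟩ := exists_decomp (G := K) (V := z.pt.P) (V' := w₀.base) (tot z.pt ≫ a.hom)
    obtain ⟨gb, eb, hb⟩ := exists_decomp (G := K) (V := z.pt.P) (V' := w₀.base) (tot z.pt ≫ b.hom)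
    have e1 : σ.map (tot z.pt ≫ a.hom) ≫ arr σ w₀ (𝟙 w₀.base) = σ.map (tot z.pt ≫ b.hom) ≫ arr σ w₀ (𝟙 w₀.base) := by
      rw [Functor.map_comp, Functor.map_comp, Category.assoc, Category.assoc]
      exact congrArg (fun t => σ.map (tot z.pt) ≫ t) (a.comm.trans b.comm.symm)
    have e2 : ea = eb := by
      rw [ha, hb, map_arr, map_arr] at e1
      have e3 := congrArg (baseOver σ _) e1
      rw [baseOver_arr, baseOver_arr] at e3
      have e4 : (𝟙 z.pt.P ≫ ea) ≫ 𝟙 w₀.base = (𝟙 z.pt.P ≫ eb) ≫ 𝟙 w₀.base := e3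
      simpa using e4
    subst e2
    rw [← F.obj.mapTop_comp, ← F.obj.mapTop_comp, ha, hb]
    have h1 := hm z.pt.P hV ga ea
    have h2 := hm z.pt.P hV gb ea
    rw [Category.comp_id] at h1 h2
    exact h1.trans h2.symm)
  exact ⟨s, hs PUnit.unit⟩

theorem sect_ext [IsAffineHom K.hom] [Flat K.hom] (F : QCoh (AlgSt.BG Scheme.fppfPrecoverage K))
    {s t : Mod.RelSect σ F.obj w₀} (h : s.1 (triv K w₀.base) (arr σ w₀ (𝟙 w₀.base)) =
      t.1 (triv K w₀.base) (arr σ w₀ (𝟙 w₀.base))) : s = t :=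
  K906.Sect.relSect_ext_of_covers (isFibGrpd K) F (covers_xW σ w₀) fun _ => h

/-- The value of a section is invariant. -/
theorem isInv_val {F : Mod (AlgSt.BG Scheme.fppfPrecoverage K)} (s : Mod.RelSect σ F w₀) :
    IsInv (𝟙 K) F (s.1 (triv K w₀.base) (arr σ w₀ (𝟙 w₀.base))) := by
  intro V hV k f
  rw [s.2, s.2, map_arr, map_arr]
  have h1 : (AlgSt.BG Scheme.fppfPrecoverage K).p.map (rm (k ≫ 𝟙 K) ≫ trivMap K f) =
      (AlgSt.BG Scheme.fppfPrecoverage K).p.map (trivMap K f) := by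
    change 𝟙 V ≫ f = f
    rw [Category.id_comp]
  rw [h1]

/-- Invariance in the universal case suffices. -/
theorem isInv_of_univ {G : Over S} [GrpObj G] {F : Mod (AlgSt.BG Scheme.fppfPrecoverage G)} {W : Over S}
    {i : K ⟶ G} {m : Γ(F.obj (triv G W), ⊤)}
    (h : F.mapTop (rm (fst K W ≫ i) ≫ trivMap G (snd K W)) m = F.mapTop (trivMap G (snd K W)) m) :
    IsInv i F m := by
  intro V hV k f
  have e1 : rm (k ≫ i) ≫ trivMap G f = trivMap G (lift k f) ≫ rm (fst K W ≫ i) ≫ trivMap G (snd K W) := by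
    rw [← Category.assoc (trivMap G (lift k f)), rm_trivMap_rm, Category.assoc, ← trivMap_comp, lift_snd,
      ← Category.assoc (lift k f), lift_fst]
  have e2 : trivMap G f = trivMap G (lift k f) ≫ trivMap G (snd K W) := by
    rw [← trivMap_comp, lift_snd]
  rw [e1, F.mapTop_comp (trivMap G (lift k f)), h, ← F.mapTop_comp, ← e2]

end Inv

section Ext

variable {G' G H : Over S} [GrpObj G'] [GrpObj G] [GrpObj H] (κ : G' ⟶ G) [IsMonHom κ] (q : G ⟶ H) [IsMonHom q]
  [IsAffineHom G.hom] [IsAffineHom H.hom] [Flat G.hom]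

/-- The trivial torsor over `W` as an object over the trivial `H`-torsor. -/
noncomputable def xH (W : Over S) : FObj (bq q) (triv H W) := xp q (triv H W) (one H W)

theorem act_one_pt {W V : Over S} (g : V ⟶ H) (f : V ⟶ W) : act (triv H W).act g (f ≫ one H W) = lift g f := by
  have h1 := pt_eq g f
  rw [pt_rm_comp, pt_trivMap] at h1
  exact h1

theorem covers_xH (hqf : Flat q.left) (hqs : Surjective q.left) (W : Over S) :
    K906.Sect.Covers (fun _ : PUnit.{1} => (xH q W : FObj (bq q) (triv H W))) := by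
  intro x hx
  have hx' : IsAffine (sch (AlgSt.BG Scheme.fppfPrecoverage G) x.pt) := hx
  have hV : IsAffine x.pt.P.left := affine_tot x.pt hx'
  obtain ⟨e, he⟩ := exists_xp q (z := triv H W) ((bq q).map (tot x.pt) ≫ x.arr)
  let e₁ : x.pt.P ⟶ H ⊗ W := e
  let h : x.pt.P ⟶ H := e₁ ≫ fst H W
  let f : x.pt.P ⟶ W := e₁ ≫ snd H W
  let T₂ : Over S := pullback q h
  let g : T₂ ⟶ G := pullback.fst q h
  let t₂ : T₂ ⟶ x.pt.P := pullback.snd q h
  have sq2 : IsPullback g t₂ q h := IsPullback.of_hasPullback _ _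
  have sq2' := K744.TorsProp.isPullback_left sq2
  have aq := BGSurj.isAffineHom_left q
  have ft : Flat t₂.left := MorphismProperty.of_isPullback (P := @Flat) sq2' hqf
  have st : Surjective t₂.left := MorphismProperty.of_isPullback (P := @Surjective) sq2' hqs
  have at' : IsAffineHom t₂.left := MorphismProperty.of_isPullback (P := @IsAffineHom) sq2' aq
  have aff3 : IsAffine T₂.left := isAffine_of_isAffineHom t₂.left
  let z' : FObj (bq q) (triv H W) := ⟨triv G x.pt.P, (bq q).map (tot x.pt) ≫ x.arr⟩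
  have he' : z' = xp q (triv H W) e := he
  let a₁ : xp q (triv H W) (t₂ ≫ e) ⟶ xp q (triv H W) e := xa q 1 t₂ e (t₂ ≫ e) (by rw [one_comp_hom, act_one])
  let a₂ : xp q (triv H W) (t₂ ≫ e) ⟶ xH q W := xa q g (t₂ ≫ f) (one H W) (t₂ ≫ e) (by
    rw [act_one_pt]
    apply CartesianMonoidalCategory.hom_ext
    · rw [lift_fst, sq2.w]
      exact (Category.assoc t₂ e₁ (fst H W)).symm
    · rw [lift_snd]
      exact (Category.assoc t₂ e₁ (snd H W)).symm)
  have hc : ∀ {z₁ : FObj (bq q) (triv H W)} (hz : z₁ = xp q (triv H W) e), IsFCov (a₁ ≫ eqToHom hz.symm).hom := by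
    rintro _ rfl
    rw [eqToHom_refl, Category.comp_id]
    refine BGSurj.isFCov_of_base _ ?_ ?_
    · change Flat (𝟙 T₂ ≫ t₂).left
      rw [Category.id_comp]; exact ft
    · change Surjective (𝟙 T₂ ≫ t₂).left
      rw [Category.id_comp]; exact st
  exact ⟨xp q (triv H W) (t₂ ≫ e), (a₁ ≫ eqToHom he'.symm) ≫ FObj.mkHom (tot x.pt) rfl, PUnit.unit, a₂, aff3,
    (hc he').comp (isFCov_tot _)⟩

/-- The value of a section is invariant under the kernel. -/
theorem isInv_valH (hκq : κ ≫ q = toUnit G' ≫ (MonObj.one : 𝟙_ (Over S) ⟶ H)) {W : Over S}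
    {F : Mod (AlgSt.BG Scheme.fppfPrecoverage G)} (s : Mod.RelSect (bq q) F (triv H W)) :
    IsInv κ F (s.1 (xH q W).pt (xH q W).arr) := by
  intro V hV k f
  have hk : (k ≫ κ) ≫ q = 1 := by
    rw [Category.assoc, hκq, ← Category.assoc, Hom.one_def]
    congr 1
    exact toUnit_unique _ _
  have h1 := (comm_iff q (z := triv H W) (k ≫ κ) f (one H W) (f ≫ one H W)).2 (by rw [hk, act_one])
  have h2 := (comm_iff q (z := triv H W) 1 f (one H W) (f ≫ one H W)).2 (by rw [one_comp_hom, act_one])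
  rw [rm_one, Category.id_comp] at h2
  have h3 := s.2 (rm (k ≫ κ) ≫ trivMap G f) (xH q W).arr
  have h4 := s.2 (trivMap G f) (xH q W).arr
  have e1 : (bq q).map (rm (k ≫ κ) ≫ trivMap G f) ≫ (xH q W).arr = (bq q).map (trivMap G f) ≫ (xH q W).arr :=
    h1.trans h2.symm
  rw [e1] at h3
  exact h3.trans h4.symm

/-- Construction of a section over a trivial `H`-torsor from an invariant under the kernel. -/
theorem exists_sectH (hqf : Flat q.left) (hqs : Surjective q.left)
    (hker : IsPullback κ (toUnit G') q (MonObj.one : 𝟙_ (Over S) ⟶ H)) {W : Over S} (hW : IsAffine W.left)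
    (F : QCoh (AlgSt.BG Scheme.fppfPrecoverage G)) (m : Γ(F.obj.obj (triv G W), ⊤)) (hm : IsInv κ F.obj m) :
    ∃ s : Mod.RelSect (bq q) F.obj (triv H W), s.1 (xH q W).pt (xH q W).arr = m := by
  obtain ⟨s, hs⟩ := K906.Sect.exists_relSect_of_covers (isFibGrpd G) F (covers_xH q hqf hqs W) (fun _ => hW)
    (fun _ => m) (by
    intro z _ _ a b hz
    have hz' : IsAffine (sch (AlgSt.BG Scheme.fppfPrecoverage G) z.pt) := hz
    have hV : IsAffine z.pt.P.left := affine_tot z.pt hz'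
    apply K906.Sect.mapTop_injective F (tot z.pt) (affine_tot z.pt hz') hz' (isFCov_tot _)
    obtain ⟨ga, ea, ha⟩ := exists_decomp (G := G) (V := z.pt.P) (V' := W) (tot z.pt ≫ a.hom)
    obtain ⟨gb, eb, hb⟩ := exists_decomp (G := G) (V := z.pt.P) (V' := W) (tot z.pt ≫ b.hom)
    have e1 : (bq q).map (tot z.pt ≫ a.hom) ≫ (xH q W).arr = (bq q).map (tot z.pt ≫ b.hom) ≫ (xH q W).arr := by
      rw [Functor.map_comp, Functor.map_comp, Category.assoc, Category.assoc]
      exact congrArg (fun t => (bq q).map (tot z.pt) ≫ t) (a.comm.trans b.comm.symm)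
    have e2 : lift (ga ≫ q) ea = lift (gb ≫ q) eb := by
      have e3 := BqPres.map_arr q (z := triv H W) ga ea (one H W)
      have e4 := BqPres.map_arr q (z := triv H W) gb eb (one H W)
      rw [← ha] at e3
      rw [← hb] at e4
      have e5 := congrArg (fun t => th q (A := triv G z.pt.P) (one G z.pt.P) ≫ t) e1
      have e6 := congrArg pt (e3.symm.trans (e5.trans e4))
      rw [pt_ofPt, pt_ofPt, act_one_pt, act_one_pt] at e6
      exact e6
    have e3 : ga ≫ q = gb ≫ q := by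
      have := congrArg (fun t => t ≫ fst H W) e2
      simpa using this
    have e4 : ea = eb := by
      have := congrArg (fun t => t ≫ snd H W) e2
      simpa using this
    subst e4
    have e5 : (ga⁻¹ * gb) ≫ q = toUnit z.pt.P ≫ (MonObj.one : 𝟙_ (Over S) ⟶ H) := by
      rw [mul_comp_hom, inv_comp_hom, e3, inv_mul_cancel, Hom.one_def]
    let k : z.pt.P ⟶ G' := hker.lift (ga⁻¹ * gb) (toUnit _) e5
    have hk : k ≫ κ = ga⁻¹ * gb := hker.lift_fst _ _ _
    have e6 : gb = ga * (k ≫ κ) := by rw [hk, mul_inv_cancel_left]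
    have h1 := hm z.pt.P hV k ea
    rw [← F.obj.mapTop_comp, ← F.obj.mapTop_comp, ha, hb, e6, rm_mul, Category.assoc, F.obj.mapTop_comp,
      F.obj.mapTop_comp, h1])
  exact ⟨s, hs PUnit.unit⟩

theorem sectH_ext (hqf : Flat q.left) (hqs : Surjective q.left) {W : Over S}
    (F : QCoh (AlgSt.BG Scheme.fppfPrecoverage G)) {s t : Mod.RelSect (bq q) F.obj (triv H W)}
    (h : s.1 (xH q W).pt (xH q W).arr = t.1 (xH q W).pt (xH q W).arr) : s = t :=
  K906.Sect.relSect_ext_of_covers (isFibGrpd G) F (covers_xH q hqf hqs W) fun _ => h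

end Ext

end K908.BGInv
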