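import Groth.Agent.StMod.K908.BGSurj

/-!
# Arrows out of trivial torsors as points
-/

set_option autoImplicit false
set_option linter.unusedVariables false
set_option linter.style.haveILetI false
set_option backward.isDefEq.respectTransparency false
set_option backward.isDefEq.respectTransparency.types false
set_option linter.dupNamespace false
set_option linter.unusedSectionVars false

universe u

open CategoryTheory CategoryTheory.Limits MonoidalCategory CartesianMonoidalCategory MonObj GrpObj AlgebraicGeometry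
open StMod AlgSt K750.TorsPts K736.QuotTriv

namespace K908.BGPts

open K907.Sec K908.Cmp K908.BG

variable {S : Scheme.{u}} {G : Over S} [GrpObj G]

/-- The point of an arrow out of a trivial torsor. -/
noncomputable def pt {V : Over S} {A : (AlgSt.BG Scheme.fppfPrecoverage G).obj} (α : triv G V ⟶ A) : V ⟶ A.P :=
  one G V ≫ α.top

variable {V V' V'' : Over S} {A B : (AlgSt.BG Scheme.fppfPrecoverage G).obj}

theorem ext_pt {α β : triv G V ⟶ A} (h : pt α = pt β) : α = β :=
  hom_ext_of_section (A := triv G V) (one G V) (one_π V) h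

theorem base_eq (α : triv G V ⟶ A) : α.base = pt α ≫ A.π := by
  have h1 : α.top ≫ A.π = (triv G V).π ≫ α.base := α.cart.w
  rw [pt, Category.assoc, h1, ← Category.assoc, one_π]
  exact (Category.id_comp _).symm

/-- The arrow of a point. -/
noncomputable def ofPt (A : (AlgSt.BG Scheme.fppfPrecoverage G).obj) {V : Over S} (p : V ⟶ A.P) : triv G V ⟶ A :=
  (BGSurj.exists_ofPt A p).choose

theorem ofPt_base (p : V ⟶ A.P) : (ofPt A p).base = p ≫ A.π := (BGSurj.exists_ofPt A p).choose_spec.1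

@[simp] theorem pt_ofPt (p : V ⟶ A.P) : pt (ofPt A p) = p := (BGSurj.exists_ofPt A p).choose_spec.2

@[simp] theorem ofPt_pt (α : triv G V ⟶ A) : ofPt A (pt α) = α := ext_pt (pt_ofPt _)

theorem pt_comp (α : triv G V ⟶ A) (β : A ⟶ B) : pt (α ≫ β) = pt α ≫ β.top := by
  change one G V ≫ (α.top ≫ β.top) = _
  rw [← Category.assoc]
  rfl

theorem one_trivMap (f : V' ⟶ V) : one G V' ≫ (trivMap G f).top = f ≫ one G V := by
  change lift (1 : V' ⟶ G) (𝟙 V') ≫ (G ◁ f) = f ≫ lift (1 : V ⟶ G) (𝟙 V)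
  apply CartesianMonoidalCategory.hom_ext <;> simp

theorem pt_trivMap (f : V' ⟶ V) : pt (trivMap G f) = f ≫ one G V := one_trivMap f

theorem pt_trivMap_comp (f : V' ⟶ V) (α : triv G V ⟶ A) : pt (trivMap G f ≫ α) = f ≫ pt α := by
  rw [pt_comp, pt_trivMap, Category.assoc]
  rfl

theorem one_rm (g : V ⟶ G) : one G V ≫ (rm g).top = act (triv G V).act g (one G V) := by
  change lift (1 : V ⟶ G) (𝟙 V) ≫ rmul g (𝟙 V) = act (leftMul G V) g (lift (1 : V ⟶ G) (𝟙 V))
  rw [lift_rmul]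
  change _ = lift g (lift (1 : V ⟶ G) (𝟙 V)) ≫ (leftMul G V).act
  rw [leftMul_act_pt]
  simp

theorem pt_rm (g : V ⟶ G) : pt (rm g) = act (triv G V).act g (one G V) := one_rm g

theorem pt_rm_comp (g : V ⟶ G) (α : triv G V ⟶ A) : pt (rm g ≫ α) = act A.act g (pt α) := by
  rw [pt_comp, pt_rm, act_eqv (triv G V).act A.act α.top α.eqv]
  rfl

theorem pt_eq (g : V ⟶ G) (f : V ⟶ V') : pt (rm g ≫ trivMap G f) = lift g f := by
  rw [pt_rm_comp, pt_trivMap]
  change lift g (f ≫ lift (1 : V' ⟶ G) (𝟙 V')) ≫ (leftMul G V').act = _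
  have : f ≫ lift (1 : V' ⟶ G) (𝟙 V') = lift (1 : V ⟶ G) f := by
    apply CartesianMonoidalCategory.hom_ext <;> simp
  rw [this, leftMul_act_pt]
  simp

/-- Arrows between trivial torsors. -/
theorem exists_decomp (α : triv G V ⟶ triv G V') : ∃ (g : V ⟶ G) (f : V ⟶ V'), α = rm g ≫ trivMap G f := by
  let p : V ⟶ G ⊗ V' := pt α
  refine ⟨p ≫ fst _ _, p ≫ snd _ _, ext_pt ?_⟩
  rw [pt_eq, ← comp_lift, lift_fst_snd, Category.comp_id]

theorem decomp_inj {g g' : V ⟶ G} {f f' : V ⟶ V'} (h : rm g ≫ trivMap G f = rm g' ≫ trivMap G f') :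
    g = g' ∧ f = f' := by
  have h1 := congrArg pt h
  rw [pt_eq, pt_eq] at h1
  exact ⟨by simpa using congrArg (fun k => k ≫ fst G V') h1, by simpa using congrArg (fun k => k ≫ snd G V') h1⟩

/-- Composition of arrows between trivial torsors. -/
theorem decomp_comp (g : V'' ⟶ G) (f : V'' ⟶ V') (g' : V' ⟶ G) (f' : V' ⟶ V) :
    (rm g ≫ trivMap G f) ≫ rm g' ≫ trivMap G f' = rm (g * (f ≫ g')) ≫ trivMap G (f ≫ f') := by
  rw [rm_mul, trivMap_comp, Category.assoc, Category.assoc]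
  congr 1
  rw [← Category.assoc, ← rm_nat, Category.assoc]

theorem rm_trivMap_rm (f : V' ⟶ V) (g : V ⟶ G) : trivMap G f ≫ rm g = rm (f ≫ g) ≫ trivMap G f := (rm_nat f g).symm

instance isIso_rm (g : V ⟶ G) : IsIso (rm g) :=
  ⟨rm g⁻¹, by rw [← rm_mul, mul_inv_cancel, rm_one], by rw [← rm_mul, inv_mul_cancel, rm_one]⟩

/-- The cover of a torsor by its total space. -/
noncomputable def tot (A : (AlgSt.BG Scheme.fppfPrecoverage G).obj) : triv G A.P ⟶ A := ofPt A (𝟙 A.P)

theorem tot_base (A : (AlgSt.BG Scheme.fppfPrecoverage G).obj) : (tot A).base = A.π := by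
  rw [tot, ofPt_base]; exact Category.id_comp _

theorem pt_tot (A : (AlgSt.BG Scheme.fppfPrecoverage G).obj) : pt (tot A) = 𝟙 A.P := pt_ofPt _

theorem trivMap_tot (p : V ⟶ A.P) : trivMap G p ≫ tot A = ofPt A p := by
  apply ext_pt
  rw [pt_trivMap_comp, pt_tot, pt_ofPt, Category.comp_id]

theorem rm_ofPt (g : V ⟶ G) (p : V ⟶ A.P) : rm g ≫ ofPt A p = ofPt A (act A.act g p) := by
  apply ext_pt
  rw [pt_rm_comp, pt_ofPt, pt_ofPt]

theorem trivMap_ofPt (f : V' ⟶ V) (p : V ⟶ A.P) : trivMap G f ≫ ofPt A p = ofPt A (f ≫ p) := by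
  apply ext_pt
  rw [pt_trivMap_comp, pt_ofPt, pt_ofPt]

theorem ofPt_comp (p : V ⟶ A.P) (β : A ⟶ B) : ofPt A p ≫ β = ofPt B (p ≫ β.top) := by
  apply ext_pt
  rw [pt_comp, pt_ofPt, pt_ofPt]

section Aff

variable [IsAffineHom G.hom]

theorem affine_tot (A : (AlgSt.BG Scheme.fppfPrecoverage G).obj)
    (hA : IsAffine (sch (AlgSt.BG Scheme.fppfPrecoverage G) A)) :
    IsAffine (sch (AlgSt.BG Scheme.fppfPrecoverage G) (triv G A.P)) := by
  have h1 : IsAffine A.base.left := hA
  have h2 := K744.TorsProp.isAffineHom_of_torsor A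
  exact isAffine_of_isAffineHom A.π.left

theorem isFCov_tot [Flat G.hom] (A : (AlgSt.BG Scheme.fppfPrecoverage G).obj) : IsFCov (tot A) := by
  have f2 := K744.TorsProp.flat_of_torsor A
  have s2 := K744.TorsProp.surjective_of_torsor A
  exact BGSurj.isFCov_of_base _ (by rw [tot_base]; exact f2) (by rw [tot_base]; exact s2)

end Aff

/-- An object with an arrow to a trivial torsor is trivial. -/
theorem exists_iso_triv {W : Over S} (x : A ⟶ triv G W) :
    ∃ i : triv G A.base ⟶ A, IsIso i ∧ i.base = 𝟙 A.base ∧ i ≫ x = trivMap G x.base := by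
  have h1 : (x.base ≫ one G W) ≫ (triv G W).π = 𝟙 A.base ≫ x.base := by
    have h0 : one G W ≫ (triv G W).π = 𝟙 W := one_π W
    have h2 : (x.base ≫ one G W) ≫ (triv G W).π = x.base ≫ (one G W ≫ (triv G W).π) := Category.assoc _ _ _
    rw [h2, h0, Category.id_comp]
    exact Category.comp_id _
  let s : A.base ⟶ A.P := x.cart.lift (x.base ≫ one G W) (𝟙 A.base) h1
  have hs1 : s ≫ x.top = x.base ≫ one G W := x.cart.lift_fst _ _ _
  have hs2 : s ≫ A.π = 𝟙 A.base := x.cart.lift_snd _ _ _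
  have hb : (ofPt A s).base = 𝟙 A.base := by rw [ofPt_base, hs2]
  refine ⟨ofPt A s, ?_, hb, ?_⟩
  · refine K751.FG.isIso_of_lift_id (isFibGrpd G) (ofPt A s) (U := A.base) ?_
    have := IsHomLift.map (AlgSt.BG Scheme.fppfPrecoverage G).p (ofPt A s)
    change (AlgSt.BG Scheme.fppfPrecoverage G).p.IsHomLift (ofPt A s).base (ofPt A s) at this
    rwa [hb] at this
  · apply ext_pt
    rw [ofPt_comp, pt_ofPt, pt_trivMap, hs1]
    rfl

end K908.BGPts
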