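import Groth.Agent.StMod.K906.FBC

/-!
# Flat affine presentations and flat base change

* `FPres π η` : objects `ζ`, `ρ` of `fibCat π η` over affine schemes with arrows `s t : ρ ⟶ ζ`, `ζ` covering every affine
  pair after a faithfully flat affine cover, every pair of arrows `z ⟶ ζ` lifting to `ρ` after such a cover;
* `relSect_ext`, `exists_relSect`, `relBC` : sections of the pushforward over `η`, flat base change.
-/

set_option autoImplicit false
set_option linter.unusedVariables false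
set_option linter.style.haveILetI false
set_option backward.isDefEq.respectTransparency false
set_option backward.isDefEq.respectTransparency.types false
set_option linter.dupNamespace false
set_option linter.unusedSectionVars false

universe w' v' w v u

open CategoryTheory CategoryTheory.Limits AlgebraicGeometry Opposite StMod
open Groth.Agent.CohqA.BaseChangeMod

namespace K908.FPres

open K906 K906.Grpd K907.Sec K906.Sect K906.FBC

variable {S : Scheme.{u}} {𝒳 : BasedCategory.{v, w} (Over S)} {𝒴 : BasedCategory.{v', w'} (Over S)}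

/-- A flat affine presentation of the category of pairs. -/
structure FPres (π : 𝒳 ⥤ᵇ 𝒴) (η : 𝒴.obj) where
  /-- the atlas -/
  ζ : FObj π η
  /-- the relations -/
  ρ : FObj π η
  /-- first leg -/
  s : ρ ⟶ ζ
  /-- second leg -/
  t : ρ ⟶ ζ
  affζ : IsAffine (sch 𝒳 ζ.pt)
  affρ : IsAffine (sch 𝒳 ρ.pt)
  cov : ∀ z : FObj π η, IsAffine (sch 𝒳 z.pt) → ∃ (z' : FObj π η) (f : z' ⟶ z) (_ : z' ⟶ ζ),
    IsAffine (sch 𝒳 z'.pt) ∧ IsFCov f.hom
  lift : ∀ (z : FObj π η) (a b : z ⟶ ζ), IsAffine (sch 𝒳 z.pt) → ∃ (z' : FObj π η) (f : z' ⟶ z) (e : z' ⟶ ρ),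
    IsAffine (sch 𝒳 z'.pt) ∧ IsFCov f.hom ∧ e ≫ s = f ≫ a ∧ e ≫ t = f ≫ b

variable {π : 𝒳 ⥤ᵇ 𝒴} {η η' : 𝒴.obj}

/-- Composition with an isomorphism given by an equality of objects. -/
theorem isFCov_shift {a b c : 𝒳.obj} (e : a = b) (f : b ⟶ c) (hf : IsFCov f) : IsFCov (eqToHom e ≫ f) := by
  subst e
  rwa [eqToHom_refl, Category.id_comp]

/-- Base change of a flat affine presentation along `g : η' ⟶ η` (both affine). -/
theorem exists_bc (h : FibCat.IsFibGrpd 𝒳.p) (h' : FibCat.IsFibGrpd 𝒴.p) (g : η' ⟶ η)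
    (hη : IsAffine (sch 𝒴 η)) (hη' : IsAffine (sch 𝒴 η')) (P : FPres π η) :
    ∃ (P' : FPres π η') (cζ : (fibMap π g).obj P'.ζ ⟶ P.ζ) (cρ : (fibMap π g).obj P'.ρ ⟶ P.ρ),
      (fibMap π g).map P'.s ≫ cζ = cρ ≫ P.s ∧ (fibMap π g).map P'.t ≫ cζ = cρ ≫ P.t ∧
      IsPullback (𝒳.p.map cζ.hom) (fbase P'.ζ) (fbase P.ζ) (𝒴.p.map g) ∧
      IsPullback (𝒳.p.map cρ.hom) (fbase P'.ρ) (fbase P.ρ) (𝒴.p.map g) := by
  obtain ⟨ζ', cζ, hζ⟩ := K906.exists_bc h h' g P.ζ
  obtain ⟨ρ', cρ, hρ⟩ := K906.exists_bc h h' g P.ρ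
  obtain ⟨s', hs, -⟩ := existsUnique_bc_hom h h' g hζ (cρ ≫ P.s)
  obtain ⟨t', ht, -⟩ := existsUnique_bc_hom h h' g hζ (cρ ≫ P.t)
  have hs' : s'.hom ≫ cζ.hom = cρ.hom ≫ P.s.hom := congrArg FObj.Hom.hom hs
  have ht' : t'.hom ≫ cζ.hom = cρ.hom ≫ P.t.hom := congrArg FObj.Hom.hom ht
  have hζl := (isPullback_left g hζ)
  have hρl := (isPullback_left g hρ)
  have hPζ : IsAffine (sch 𝒳 P.ζ.pt) := P.affζ
  have hPρ : IsAffine (sch 𝒳 P.ρ.pt) := P.affρ
  refine ⟨⟨ζ', ρ', s', t', ?_, ?_, ?_, ?_⟩, cζ, cρ, hs, ht, hζ, hρ⟩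
  · exact SchFac.isAffine_of_isPullback hζl hPζ hη' hη
  · exact SchFac.isAffine_of_isPullback hρl hPρ hη' hη
  · intro z hz
    obtain ⟨z₁, f, d, h1, h2⟩ := P.cov ((fibMap π g).obj z) hz
    obtain ⟨z₂, f₂, i, e, hi, hf₂⟩ := K906.Pres.exists_shift g f
    obtain ⟨d', -, -⟩ := existsUnique_bc_hom h h' g hζ (i ≫ d)
    refine ⟨z₂, f₂, d', ?_, ?_⟩
    · rw [e]; exact h1
    · rw [hf₂]; exact isFCov_shift e _ h2
  · intro z a b hz
    obtain ⟨z₁, f, d, h1, h2, h4, h5⟩ := P.lift ((fibMap π g).obj z) ((fibMap π g).map a ≫ cζ)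
      ((fibMap π g).map b ≫ cζ) hz
    obtain ⟨z₂, f₂, i, e, hi, hf₂⟩ := K906.Pres.exists_shift g f
    obtain ⟨d', hd', -⟩ := existsUnique_bc_hom h h' g hρ (i ≫ d)
    have hd'' : d'.hom ≫ cρ.hom = i.hom ≫ d.hom := congrArg FObj.Hom.hom hd'
    have h4' : d.hom ≫ P.s.hom = f.hom ≫ a.hom ≫ cζ.hom := congrArg FObj.Hom.hom h4
    have h5' : d.hom ≫ P.t.hom = f.hom ≫ b.hom ≫ cζ.hom := congrArg FObj.Hom.hom h5
    refine ⟨z₂, f₂, d', ?_, ?_, ?_, ?_⟩
    · rw [e]; exact h1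
    · rw [hf₂]; exact isFCov_shift e _ h2
    · refine (existsUnique_bc_hom h h' g hζ ((fibMap π g).map (f₂ ≫ a) ≫ cζ)).unique ?_ rfl
      refine FObj.hom_ext ?_
      change (d'.hom ≫ s'.hom) ≫ cζ.hom = (f₂.hom ≫ a.hom) ≫ cζ.hom
      rw [Category.assoc, hs', ← Category.assoc, hd'', Category.assoc, h4', hi, hf₂]
      simp only [Category.assoc]
    · refine (existsUnique_bc_hom h h' g hζ ((fibMap π g).map (f₂ ≫ b) ≫ cζ)).unique ?_ rfl
      refine FObj.hom_ext ?_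
      change (d'.hom ≫ t'.hom) ≫ cζ.hom = (f₂.hom ≫ b.hom) ≫ cζ.hom
      rw [Category.assoc, ht', ← Category.assoc, hd'', Category.assoc, h5', hi, hf₂]
      simp only [Category.assoc]

section Sections

variable (h𝒳 : FibCat.IsFibGrpd 𝒳.p) (P : FPres π η) (F : QCoh 𝒳)

theorem covers : Covers (π := π) (η := η) (fun _ : PUnit.{1} => P.ζ) := by
  intro z hz
  obtain ⟨z', f, d, h1, h2⟩ := P.cov z hz
  exact ⟨z', f, PUnit.unit, d, h1, h2⟩

include h𝒳 in
/-- A section of `π_* F` over `η` is determined by its value on the atlas. -/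
theorem relSect_ext {s t : Mod.RelSect π F.obj η}
    (h : s.1 P.ζ.pt P.ζ.arr = t.1 P.ζ.pt P.ζ.arr) : s = t :=
  relSect_ext_of_covers h𝒳 F (covers P) fun _ => h

include h𝒳 in
/-- Construction of a section of `π_* F` over `η` from its value on the atlas. -/
theorem exists_relSect (x : Γ(F.obj.obj P.ζ.pt, ⊤)) (hx : F.obj.mapTop P.s.hom x = F.obj.mapTop P.t.hom x) :
    ∃ s : Mod.RelSect π F.obj η, s.1 P.ζ.pt P.ζ.arr = x := by
  obtain ⟨s, hs⟩ := exists_relSect_of_covers h𝒳 F (covers P) (fun _ => P.affζ) (fun _ => x) (by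
    intro z _ _ a b hz
    obtain ⟨z', f, e, h1, h2, h4, h5⟩ := P.lift z a b hz
    apply mapTop_injective F f.hom h1 hz h2
    have h4' : f.hom ≫ a.hom = e.hom ≫ P.s.hom := (congrArg FObj.Hom.hom h4).symm
    have h5' : f.hom ≫ b.hom = e.hom ≫ P.t.hom := (congrArg FObj.Hom.hom h5).symm
    rw [← F.obj.mapTop_comp, ← F.obj.mapTop_comp, h4', h5', F.obj.mapTop_comp, F.obj.mapTop_comp]
    exact congrArg _ hx)
  exact ⟨s, hs PUnit.unit⟩

/-- The difference of the two restrictions. -/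
noncomputable def difL : Sec F.obj P.ζ →ₗ[Γ(sch 𝒴 η, ⊤)] Sec F.obj P.ρ :=
  resL F.obj P.s - resL F.obj P.t

/-- The equalizer of the two restrictions, a small model of the sections of the pushforward. -/
noncomputable abbrev secMod : Submodule Γ(sch 𝒴 η, ⊤) (Sec F.obj P.ζ) := LinearMap.ker (difL P F)

theorem mem_secMod (x : Sec F.obj P.ζ) :
    x ∈ secMod P F ↔ resL F.obj P.s x = resL F.obj P.t x := by
  rw [LinearMap.mem_ker, difL, LinearMap.sub_apply, sub_eq_zero]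

theorem evL_mem (s : Mod.RelSect π F.obj η) : evL F.obj P.ζ s ∈ secMod P F := by
  rw [mem_secMod]
  have e : ∀ {a b : FObj π η} (f : a ⟶ b), resL F.obj f (evL F.obj b s) = evL F.obj a s := by
    intro a b f
    rw [resL_apply, evL_apply, evL_apply, s.2, f.comm]
  rw [e, e]

/-- Evaluation at the atlas. -/
noncomputable def evP : Mod.RelSect π F.obj η →ₗ[Γ(sch 𝒴 η, ⊤)] secMod P F :=
  (evL F.obj P.ζ).codRestrict _ (evL_mem P F)

include h𝒳 in
theorem evP_bijective : Function.Bijective (evP P F) := by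
  constructor
  · intro s t hst
    exact relSect_ext h𝒳 P F (congrArg Subtype.val hst)
  · rintro ⟨x, hx⟩
    obtain ⟨s, hs⟩ := exists_relSect h𝒳 P F x ((mem_secMod P F x).1 hx)
    exact ⟨s, Subtype.ext hs⟩

/-- Sections of the pushforward over `η` as the equalizer. -/
noncomputable def secEquiv : secMod P F ≃ₗ[Γ(sch 𝒴 η, ⊤)] Mod.RelSect π F.obj η :=
  (LinearEquiv.ofBijective (evP P F) (evP_bijective h𝒳 P F)).symm

theorem evL_secEquiv (x : secMod P F) : evL F.obj P.ζ (secEquiv h𝒳 P F x) = x.1 := by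
  have h1 := (LinearEquiv.ofBijective (evP P F) (evP_bijective h𝒳 P F)).apply_symm_apply x
  exact congrArg Subtype.val h1

end Sections

/-- FLAT BASE CHANGE: for a flat arrow `g : η' ⟶ η` between affine objects, restriction of sections of the pushforward is a base
change. -/
theorem relBC (h𝒳 : FibCat.IsFibGrpd 𝒳.p) (h𝒴 : FibCat.IsFibGrpd 𝒴.p) (g : η' ⟶ η)
    (hη : IsAffine (sch 𝒴 η)) (hη' : IsAffine (sch 𝒴 η')) (hg : Flat (bmap 𝒴 g)) (P : FPres π η)
    (F : QCoh 𝒳) : K908.Push.RelBC π F.obj g := by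
  obtain ⟨P', cζ, cρ, hs, ht, hζ, hρ⟩ := exists_bc h𝒳 h𝒴 g hη hη' P
  haveI := hη
  haveI := hη'
  have hgf : ((bmap 𝒴 g).appTop.hom).Flat := (HasRingHomProperty.iff_of_isAffine (P := @Flat)).1 hg
  have hs' : ∀ x, resL F.obj P'.s (bcMap F.obj cζ x) = bcMap F.obj cρ (resL F.obj P.s x) := by
    intro x
    have e : P'.s.hom ≫ cζ.hom = cρ.hom ≫ P.s.hom := congrArg FObj.Hom.hom hs
    have e1 := F.obj.mapTop_comp P'.s.hom cζ.hom x
    have e2 := F.obj.mapTop_comp cρ.hom P.s.hom x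
    rw [e] at e1
    exact e1.symm.trans e2
  have ht' : ∀ x, resL F.obj P'.t (bcMap F.obj cζ x) = bcMap F.obj cρ (resL F.obj P.t x) := by
    intro x
    have e : P'.t.hom ≫ cζ.hom = cρ.hom ≫ P.t.hom := congrArg FObj.Hom.hom ht
    have e1 := F.obj.mapTop_comp P'.t.hom cζ.hom x
    have e2 := F.obj.mapTop_comp cρ.hom P.t.hom x
    rw [e] at e1
    exact e1.symm.trans e2
  have hd : ∀ x, difL P' F (bcMap F.obj cζ x) = bcMap F.obj cρ (difL P F x) := by
    intro x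
    rw [difL, difL, LinearMap.sub_apply, LinearMap.sub_apply, map_sub, hs', ht']
  let k : secMod P F →+ secMod P' F :=
    { toFun := fun x => ⟨bcMap F.obj cζ x.1, by
        rw [LinearMap.mem_ker, hd, LinearMap.mem_ker.1 x.2, map_zero]⟩
      map_zero' := Subtype.ext (map_zero _)
      map_add' := fun x y => Subtype.ext (map_add _ _ _) }
  refine ⟨secMod P F, secMod P' F, inferInstance, inferInstance, inferInstance, inferInstance,
    secEquiv h𝒳 P F, secEquiv h𝒳 P' F, k, ?_, ?_⟩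
  · intro x
    apply relSect_ext h𝒳 P' F
    have h1 : evL F.obj P'.ζ (secEquiv h𝒳 P' F (k x)) = bcMap F.obj cζ x.1 := evL_secEquiv h𝒳 P' F (k x)
    refine h1.trans ?_
    have h2 : evL F.obj P.ζ (secEquiv h𝒳 P F x) = x.1 := evL_secEquiv h𝒳 P F x
    rw [← h2]
    change F.obj.mapTop cζ.hom ((secEquiv h𝒳 P F x).1 _ _) = (secEquiv h𝒳 P F x).1 _ (_ ≫ g)
    rw [(secEquiv h𝒳 P F x).2]
    exact congrArg ((secEquiv h𝒳 P F x).1 _) (FObj.Hom.comm cζ)
  · exact SectAlg.isBC_ker hgf (isBC_bc F hη hη' P.affζ cζ hζ) (isBC_bc F hη hη' P.affρ cρ hρ)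
      (secMod P F).subtype (difL P F) (secMod P' F).subtype (difL P' F) k (fun x => rfl) hd
      (Submodule.subtype_injective _) (LinearMap.exact_subtype_ker_map _)
      (Submodule.subtype_injective _) (LinearMap.exact_subtype_ker_map _)

end K908.FPres
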