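import Groth.Agent.StMod.K908.BGPts
import Groth.Agent.StMod.K908.FPres

/-!
# The flat presentation of the fibres of `BG ⟶ BH`
-/

set_option autoImplicit false
set_option linter.unusedVariables false
set_option linter.style.haveILetI false
set_option backward.isDefEq.respectTransparency false
set_option backward.isDefEq.respectTransparency.types false
set_option linter.dupNamespace false
set_option linter.unusedSectionVars false

universe u

open CategoryTheory CategoryTheory.Limits MonoidalCategory CartesianMonoidalCategory MonObj GrpObj AlgebraicGeometry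
open StMod AlgSt K750.TorsPts K736.QuotTriv

namespace K908.BqPres

open K906 K907.Sec K908.Cmp K908.BG K908.BGPts K908.FPres

variable {S : Scheme.{u}} {G H : Over S} [GrpObj G] [GrpObj H] (q : G ⟶ H) [IsMonHom q]

theorem inv_comp_hom {V : Over S} (g : V ⟶ G) : g⁻¹ ≫ q = (g ≫ q)⁻¹ := by
  have h3 : (g⁻¹ ≫ q) * (g ≫ q) = (g⁻¹ * g) ≫ q := by
    rw [Hom.mul_def, Hom.mul_def, Category.assoc, IsMonHom.mul_hom, ← Category.assoc]
    congr 1
    apply CartesianMonoidalCategory.hom_ext <;> simp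
  have h2 : (g⁻¹ ≫ q) * (g ≫ q) = 1 := by
    rw [h3, inv_mul_cancel, Hom.one_def, Hom.one_def, Category.assoc, IsMonHom.one_hom]
  exact mul_eq_one_iff_eq_inv.1 h2

theorem mul_comp_hom {V : Over S} (g g' : V ⟶ G) : (g * g') ≫ q = (g ≫ q) * (g' ≫ q) := by
  rw [Hom.mul_def, Hom.mul_def, Category.assoc, IsMonHom.mul_hom, ← Category.assoc]
  congr 1
  apply CartesianMonoidalCategory.hom_ext <;> simp

theorem one_comp_hom (V : Over S) : (1 : V ⟶ G) ≫ q = 1 := by
  rw [Hom.one_def, Hom.one_def, Category.assoc, IsMonHom.one_hom]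

variable [IsAffineHom H.hom]

theorem th_act' {A : (AlgSt.BG Scheme.fppfPrecoverage G).obj} {V : Over S} (g : V ⟶ G) (p : V ⟶ A.P) :
    th q (act A.act g p) = rm (g ≫ q) ≫ th q p := by
  rw [← th_act q g p, ← Category.assoc, ← rm_mul, inv_comp_hom, mul_inv_cancel, rm_one, Category.id_comp]

instance isIso_one (V : Over S) : IsIso (th q (A := triv G V) (one G V)) :=
  isIso_th q (A := triv G V) (one G V) (one_π V)

variable (z : (AlgSt.BG Scheme.fppfPrecoverage H).obj)

/-- The pair of a trivial torsor and a point of `z`. -/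
noncomputable def xp {V : Over S} (e : V ⟶ z.P) : FObj (bq q) z :=
  ⟨triv G V, inv (th q (A := triv G V) (one G V)) ≫ ofPt z e⟩

variable {z}

theorem th_xp {V : Over S} (e : V ⟶ z.P) : th q (A := triv G V) (one G V) ≫ (xp q z e).arr = ofPt z e :=
  IsIso.hom_inv_id_assoc _ _

/-- Every pair with a trivial torsor is of this form. -/
theorem exists_xp {V : Over S} (β : (bq q).obj (triv G V) ⟶ z) :
    ∃ e : V ⟶ z.P, (⟨triv G V, β⟩ : FObj (bq q) z) = xp q z e := by
  refine ⟨pt (th q (A := triv G V) (one G V) ≫ β), ?_⟩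
  rw [xp, ofPt_pt, IsIso.inv_hom_id_assoc]

theorem map_arr {V V' : Over S} (g : V' ⟶ G) (f : V' ⟶ V) (e : V ⟶ z.P) :
    th q (A := triv G V') (one G V') ≫ (bq q).map (rm g ≫ trivMap G f) ≫ (xp q z e).arr =
      ofPt z (act z.act (g ≫ q) (f ≫ e)) := by
  have h1 : one G V' ≫ (rm g ≫ trivMap G f).top = act (triv G V).act g (f ≫ one G V) := by
    have := pt_rm_comp g (trivMap G f)
    rw [pt_trivMap] at this
    exact this
  rw [← Category.assoc, th_map, h1, th_act', th_comp, Category.assoc, Category.assoc, th_xp, trivMap_ofPt, rm_ofPt]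

/-- Arrows between pairs with trivial torsors. -/
theorem comm_iff {V V' : Over S} (g : V' ⟶ G) (f : V' ⟶ V) (e : V ⟶ z.P) (e' : V' ⟶ z.P) :
    (bq q).map (rm g ≫ trivMap G f) ≫ (xp q z e).arr = (xp q z e').arr ↔
      act z.act (g ≫ q) (f ≫ e) = e' := by
  rw [← cancel_epi (th q (A := triv G V') (one G V')), map_arr, th_xp]
  constructor
  · intro h
    have := congrArg pt h
    rwa [pt_ofPt, pt_ofPt] at this
  · rintro rfl
    rfl

/-- The arrow between pairs with trivial torsors. -/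
noncomputable def xa {V V' : Over S} (g : V' ⟶ G) (f : V' ⟶ V) (e : V ⟶ z.P) (e' : V' ⟶ z.P)
    (h : act z.act (g ≫ q) (f ≫ e) = e') : xp q z e' ⟶ xp q z e :=
  FObj.mkHom (rm g ≫ trivMap G f) ((comm_iff q g f e e').2 h)

section Pres

variable [IsAffineHom G.hom] [Flat G.hom] [Flat H.hom]

theorem isAffine_tensor (V : Over S) (hV : IsAffine V.left) : IsAffine (G ⊗ V).left := by
  have h1 : IsAffineHom (pullback.snd G.hom V.hom) := inferInstance
  exact isAffine_of_isAffineHom (pullback.snd G.hom V.hom)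

/-- The flat presentation of the fibres. -/
theorem nonempty_fpres (z : (AlgSt.BG Scheme.fppfPrecoverage H).obj)
    (hz : IsAffine (sch (AlgSt.BG Scheme.fppfPrecoverage H) z)) : Nonempty (FPres (bq q) z) := by
  have hP : IsAffine z.P.left := affine_tot z hz
  let m : G ⊗ z.P ⟶ z.P := act z.act ((fst G z.P)⁻¹ ≫ q) (snd G z.P)
  let ζ := xp q z (𝟙 z.P)
  let ρ := xp q z (snd G z.P)
  have hs : act z.act ((1 : G ⊗ z.P ⟶ G) ≫ q) (snd G z.P ≫ 𝟙 z.P) = snd G z.P := by
    rw [one_comp_hom, act_one, Category.comp_id]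
  have ht : act z.act (fst G z.P ≫ q) (m ≫ 𝟙 z.P) = snd G z.P := by
    rw [Category.comp_id, ← act_mul, ← mul_comp_hom, mul_inv_cancel, one_comp_hom, act_one]
  refine ⟨⟨ζ, ρ, xa q 1 (snd G z.P) (𝟙 z.P) (snd G z.P) hs, xa q (fst G z.P) m (𝟙 z.P) (snd G z.P) ht, hP,
    isAffine_tensor z.P hP, ?_, ?_⟩⟩
  · intro x hx
    have hx' : IsAffine (sch (AlgSt.BG Scheme.fppfPrecoverage G) x.pt) := hx
    let z' : FObj (bq q) z := ⟨triv G x.pt.P, (bq q).map (tot x.pt) ≫ x.arr⟩
    obtain ⟨e, he⟩ := exists_xp q ((bq q).map (tot x.pt) ≫ x.arr)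
    have he' : z' = xp q z e := he
    refine ⟨z', FObj.mkHom (tot x.pt) rfl, eqToHom he' ≫ xa q 1 e (𝟙 z.P) e (by
      rw [one_comp_hom, act_one, Category.comp_id]), affine_tot _ hx', isFCov_tot _⟩
  · intro x a b hx
    have hx' : IsAffine (sch (AlgSt.BG Scheme.fppfPrecoverage G) x.pt) := hx
    let z' : FObj (bq q) z := ⟨triv G x.pt.P, (bq q).map (tot x.pt) ≫ x.arr⟩
    let k : z' ⟶ x := FObj.mkHom (tot x.pt) rfl
    obtain ⟨ga, ea, ha⟩ := exists_decomp (G := G) (V := x.pt.P) (V' := z.P) (k ≫ a).hom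
    obtain ⟨gb, eb, hb⟩ := exists_decomp (G := G) (V := x.pt.P) (V' := z.P) (k ≫ b).hom
    have h1 : act z.act (ga ≫ q) ea = act z.act (gb ≫ q) eb := by
      have e1 := map_arr q ga ea (𝟙 z.P)
      have e2 := map_arr q gb eb (𝟙 z.P)
      rw [← ha] at e1
      rw [← hb] at e2
      have e3 : (bq q).map (k ≫ a).hom ≫ ζ.arr = (bq q).map (k ≫ b).hom ≫ ζ.arr :=
        (k ≫ a).comm.trans (k ≫ b).comm.symm
      have e4 := congrArg (fun t => th q (A := triv G x.pt.P) (one G x.pt.P) ≫ t) e3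
      have e5 := congrArg pt (e1.symm.trans (e4.trans e2))
      rw [pt_ofPt, pt_ofPt, Category.comp_id, Category.comp_id] at e5
      exact e5
    let d : x.pt.P ⟶ G := ga⁻¹ * gb
    let w : x.pt.P ⟶ G ⊗ z.P := lift d ea
    have hw : w ≫ m = eb := by
      change lift d ea ≫ act z.act ((fst G z.P)⁻¹ ≫ q) (snd G z.P) = eb
      rw [comp_act, ← Category.assoc, comp_inv, lift_fst, lift_snd]
      have e6 : d⁻¹ = gb⁻¹ * ga := by simp [d]
      rw [e6, mul_comp_hom, act_mul, h1, ← act_mul, ← mul_comp_hom, inv_mul_cancel, one_comp_hom, act_one]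
    have hs1 : (rm ga ≫ trivMap G w) ≫ rm 1 ≫ trivMap G (snd G z.P) = rm ga ≫ trivMap G ea := by
      rw [decomp_comp, comp_one, _root_.mul_one, lift_snd]
    have ht1 : (rm ga ≫ trivMap G w) ≫ rm (fst G z.P) ≫ trivMap G m = rm gb ≫ trivMap G eb := by
      rw [decomp_comp, hw, lift_fst, mul_inv_cancel_left]
    let e : z' ⟶ ρ := FObj.mkHom (rm ga ≫ trivMap G w) (by
      have e7 := (xa q 1 (snd G z.P) (𝟙 z.P) (snd G z.P) hs).comm
      rw [← e7]
      have e8 : (bq q).map (rm ga ≫ trivMap G w) ≫ (bq q).map (rm 1 ≫ trivMap G (snd G z.P)) ≫ ζ.arr =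
          (bq q).map (k ≫ a).hom ≫ ζ.arr := by
        rw [← Category.assoc, ← Functor.map_comp, hs1, ha]
      exact e8.trans (k ≫ a).comm)
    refine ⟨z', k, e, affine_tot _ hx', isFCov_tot _, FObj.hom_ext ?_, FObj.hom_ext ?_⟩
    · rw [ha]; exact hs1
    · rw [hb]; exact ht1

/-- Flat base change for `BG ⟶ BH`. -/
theorem relBC {z' z : (AlgSt.BG Scheme.fppfPrecoverage H).obj} (g : z' ⟶ z)
    (h1 : IsAffine (sch (AlgSt.BG Scheme.fppfPrecoverage H) z'))
    (h2 : IsAffine (sch (AlgSt.BG Scheme.fppfPrecoverage H) z))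
    (hg : Flat (bmap (AlgSt.BG Scheme.fppfPrecoverage H) g)) (F : QCoh (AlgSt.BG Scheme.fppfPrecoverage G)) :
    K908.Push.RelBC (bq q) F.obj g := by
  obtain ⟨P⟩ := nonempty_fpres q z h2
  exact FPres.relBC (isFibGrpd G) (isFibGrpd H) g h2 h1 hg P F

end Pres

end K908.BqPres
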