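import Groth.Agent.StMod.K908.BC
import Groth.Agent.Desc.SecData2
import Groth.Agent.CohqA.BaseChangePushout

/-!
# Faithfully flat descent of modules, unbundled form
-/

set_option autoImplicit false
set_option linter.dupNamespace false
set_option linter.unusedVariables false
set_option linter.style.haveILetI false

universe u

open CategoryTheory CategoryTheory.Limits TensorProduct

namespace K908.DescAlg

open Groth.Agent.CohqA.BaseChangeMod Groth.Agent.CohqA.BaseChangePushout

/-- Descent of elements. -/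
theorem exists_of_eq {A B B₂ : CommRingCat.{u}} {φ : A ⟶ B} {i1 i2 : B ⟶ B₂} (H : IsPushout φ φ i1 i2)
    (hφ : φ.hom.FaithfullyFlat) {M N N₂ : Type u} [AddCommGroup M] [AddCommGroup N] [AddCommGroup N₂]
    [Module A M] [Module B N] [Module B₂ N₂] {f : M →+ N} (hf : IsBC φ.hom f) {g1 g2 : N →+ N₂}
    (h1 : ∀ (b : B) (n : N), g1 (b • n) = i1.hom b • g1 n) (h2 : IsBC i2.hom g2)
    (hgf : ∀ m, g1 (f m) = g2 (f m)) (n : N) (hn : g1 n = g2 n) : ∃ m, f m = n := by
  letI : Module A N := Module.compHom N φ.hom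
  letI : Module B N₂ := Module.compHom N₂ i1.hom
  have h2' : IsBC φ.hom g2 := isBC_of_isPushout (i := φ) (j := φ) (k := i1) (l := i2) H
    (fun r x => rfl) (fun s x => rfl) h2
  let d : M →ₗ[A] N := { f with map_smul' := fun r x => hf.map_smul r x }
  let d' : N →ₗ[B] N₂ := { g1 with map_smul' := fun r x => h1 r x }
  exact Groth.Agent.Etbase.FFExact.IsBC.exact φ.hom hφ d d' f g2 ((BC.isBC_iff_ff _ _).1 hf)
    ((BC.isBC_iff_ff _ _).1 h2') (fun m => (hgf m).symm) n ⟨n, hn⟩

/-- Cancellation of base changes along faithfully flat maps. -/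
theorem isBC_of_comp {A A' B : Type u} [CommRing A] [CommRing A'] [CommRing B] {φ : A →+* A'} {ψ : A' →+* B}
    (hψ : ψ.FaithfullyFlat) {M M' N : Type u} [AddCommGroup M] [AddCommGroup M'] [AddCommGroup N]
    [Module A M] [Module A' M'] [Module B N] {f : M →+ M'} {g : M' →+ N}
    (hf : ∀ (a : A) (m : M), f (a • m) = φ a • f m) (hg : IsBC ψ g) (hgf : IsBC (ψ.comp φ) (g.comp f)) :
    IsBC φ f := by
  obtain ⟨P, _, _, f0, hf0⟩ := exists_isBC φ M
  obtain ⟨P', _, _, g0, hg0⟩ := exists_isBC ψ P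
  obtain ⟨e, he⟩ := (hf0.comp hg0).exists_equiv hgf
  obtain ⟨l, hl, -⟩ := hf0.lift M' f hf
  have hel : ∀ p, e (g0 p) = g (l p) := by
    letI : Module A' N := Module.compHom N ψ
    let t1 : P →ₗ[A'] N := { e.toLinearMap.toAddMonoidHom.comp g0 with
      map_smul' := fun r x => by
        change e (g0 (r • x)) = ψ r • e (g0 x)
        rw [hg0.map_smul, map_smul] }
    let t2 : P →ₗ[A'] N := { g.comp l.toAddMonoidHom with
      map_smul' := fun r x => by
        change g (l (r • x)) = ψ r • g (l x)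
        rw [map_smul, hg.map_smul] }
    have : t1 = t2 := hf0.hom_ext fun x => by
      change e (g0 (f0 x)) = g (l (f0 x))
      rw [hl]
      exact he x
    exact fun p => LinearMap.congr_fun this p
  have hinj : Function.Injective l := by
    intro p q hpq
    apply BC.injective_of_faithfullyFlat hψ hg0
    apply e.injective
    rw [hel, hel, hpq]
  have hsurj : Function.Surjective l := by
    intro x
    refine Groth.Agent.Etbase.FFExact.IsBC.exact ψ hψ l e.toLinearMap g0 g ((BC.isBC_iff_ff _ _).1 hg0)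
      ((BC.isBC_iff_ff _ _).1 hg) (fun m => (hel m).symm) x ⟨e.symm (g x), e.apply_symm_apply _⟩
  exact hf0.of_equiv (LinearEquiv.ofBijective l ⟨hinj, hsurj⟩) hl

/-- A base change with the same image. -/
theorem isBC_of_range_eq {A B : Type u} [CommRing A] [CommRing B] {φ : A →+* B}
    {M M' N : Type u} [AddCommGroup M] [AddCommGroup M'] [AddCommGroup N]
    [Module A M] [Module A M'] [Module B N] {f : M →+ N} (hf : IsBC φ f) (hf' : Function.Injective f)
    {g : M' →+ N} (hg : Function.Injective g) (hs : ∀ (a : A) (m : M'), g (a • m) = φ a • g m)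
    (h : ∀ n, n ∈ Set.range f ↔ n ∈ Set.range g) : IsBC φ g := by
  choose t ht using fun m' : M' => (h (g m')).2 ⟨m', rfl⟩
  let l : M' →ₗ[A] M :=
    { toFun := t
      map_add' := fun a b => hf' (by rw [ht, map_add, map_add, ht, ht])
      map_smul' := fun a b => hf' (by
        rw [ht, hs]
        refine Eq.trans ?_ (hf.map_smul a (t b)).symm
        rw [ht]) }
  have hl : Function.Bijective l := by
    constructor
    · intro a b hab
      apply hg
      rw [← ht, ← ht]
      exact congrArg f hab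
    · intro m
      obtain ⟨m', hm'⟩ := (h (f m)).1 ⟨m, rfl⟩
      exact ⟨m', hf' ((ht m').trans hm')⟩
  have h1 : IsBC (φ.comp (RingHom.id A)) (f.comp l.toAddMonoidHom) :=
    (IsBC.of_bijective (RingHom.id A) Function.bijective_id l.toAddMonoidHom hl
      (fun r x => l.map_smul r x)).comp hf
  have h2 : f.comp l.toAddMonoidHom = g := by
    ext x
    exact ht x
  rw [h2] at h1
  exact h1

/-- Effectivity of descent. -/
theorem exists_eff {A B B₂ B₃ : CommRingCat.{u}} {φ : A ⟶ B} {i1 i2 : B ⟶ B₂} (H : IsPushout φ φ i1 i2)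
    (hφ : φ.hom.FaithfullyFlat) {k12 k13 k23 : B₂ ⟶ B₃} {δ : B₂ ⟶ B}
    (H₃ : IsPushout φ (φ ≫ i1) (i1 ≫ k12) k23) (e1 : i1 ≫ k12 = i1 ≫ k13) (e2 : i2 ≫ k12 = i1 ≫ k23)
    (e3 : i2 ≫ k13 = i2 ≫ k23) (d1 : i1 ≫ δ = 𝟙 B) 
    {N N₂ N₃ : Type u} [AddCommGroup N] [AddCommGroup N₂] [AddCommGroup N₃]
    [Module B N] [Module B₂ N₂] [Module B₃ N₃] {g1 g2 : N →+ N₂} (hg1 : ∀ (b : B) (n : N), g1 (b • n) = i1.hom b • g1 n)
    (hg2 : IsBC i2.hom g2) {h12 h13 h23 : N₂ →+ N₃}
    (hh12 : ∀ (b : B₂) (n : N₂), h12 (b • n) = k12.hom b • h12 n)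
    (hh13 : ∀ (b : B₂) (n : N₂), h13 (b • n) = k13.hom b • h13 n)
    (hh23 : IsBC k23.hom h23) {t : N₂ →+ N} (ht : ∀ (b : B₂) (n : N₂), t (b • n) = δ.hom b • t n)
    (t1 : ∀ n, t (g1 n) = n) (t2 : ∀ n, t (g2 n) = n) (E1 : ∀ n, h12 (g1 n) = h13 (g1 n))
    (E2 : ∀ n, h12 (g2 n) = h23 (g1 n)) (E3 : ∀ n, h13 (g2 n) = h23 (g2 n)) :
    ∃ (N' : Type u) (_ : AddCommGroup N') (_ : Module A N') (f : N' →+ N), IsBC φ.hom f ∧
      Function.Injective f ∧ ∀ n, n ∈ Set.range f ↔ g1 n = g2 n := by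
  have key : ∀ {M P : Type u} [AddCommGroup M] [AddCommGroup P] {R R' : Type u} [CommRing R] [CommRing R']
      (χ : R →+* R') (iM : Module R M) (iP : Module R' P) (v : M →+ P), 
      Groth.Agent.Desc.SecD.IsBC χ iM iP v ↔ IsBC χ v := by
    intro M P _ _ R R' _ _ χ iM iP v
    letI : Algebra R R' := χ.toAlgebra
    letI : Module R P := Module.compHom P χ
    haveI : IsScalarTower R R' P := ⟨fun a b m => by
      change (χ a * b) • m = χ a • b • m
      rw [mul_smul]⟩
    constructor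
    · rintro ⟨h1, h2⟩
      let v' : M →ₗ[R] P := { v with map_smul' := h1 }
      exact (isBC_iff_isBaseChange v').2
        ((Groth.Agent.VarietyB.BCAlg.isBaseChange_iff v' (⟨⟨v, map_add v⟩, h1⟩ : M →ₛₗ[algebraMap R R'] P)
          (fun m => rfl)).2 h2)
    · intro h
      refine ⟨h.map_smul, ?_⟩
      let v' : M →ₗ[R] P := { v with map_smul' := h.map_smul }
      exact (Groth.Agent.VarietyB.BCAlg.isBaseChange_iff v' (⟨⟨v, map_add v⟩, h.map_smul⟩ : M →ₛₗ[algebraMap R R'] P)
          (fun m => rfl)).1 ((isBC_iff_isBaseChange v').1 h)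
  have hu₂ : Groth.Agent.Desc.SecD.IsBC φ.hom (Module.compHom N φ.hom) (Module.compHom N₂ i1.hom) g2 := by
    rw [key]
    letI : Module A N := Module.compHom N φ.hom
    letI : Module B N₂ := Module.compHom N₂ i1.hom
    exact isBC_of_isPushout (i := φ) (j := φ) (k := i1) (l := i2) H (fun r x => rfl) (fun s x => rfl) hg2
  have ht₂₃ : Groth.Agent.Desc.SecD.IsBC φ.hom (Module.compHom N₂ (i1.hom.comp φ.hom))
      (Module.compHom N₃ (k12.hom.comp i1.hom)) h23 := by
    rw [key]
    letI : Module A N₂ := Module.compHom N₂ (i1.hom.comp φ.hom)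
    letI : Module B N₃ := Module.compHom N₃ (k12.hom.comp i1.hom)
    exact isBC_of_isPushout (i := φ) (j := φ ≫ i1) (k := i1 ≫ k12) (l := k23) H₃ (fun r x => rfl)
      (fun s x => rfl) hh23
  have e1' : ∀ b, k12.hom (i1.hom b) = k13.hom (i1.hom b) := fun b => congr($(e1).hom b)
  obtain ⟨N', iN', a1, a2, a3⟩ := Groth.Agent.Desc.SecD.exists_sub_alg (φ := φ.hom) hφ.flat (M := N) (P := N₂)
    (E := N) (Q := N₃) (Q' := N₃) inferInstance inferInstance
    (ψ := i1.hom) (iQ := Module.compHom N₃ (k12.hom.comp i1.hom)) g1 hg1 g2 hu₂ t (AddMonoidHom.id N)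
    Function.injective_id (fun s m => by
      rw [ht, t2]
      change (i1 ≫ δ).hom s • m = s • m
      rw [d1]
      rfl) t1 h23 ht₂₃ h12 (AddMonoidHom.id N₃) h13
    (fun s m => by
      change k12.hom (i1.hom s) • h23 (g1 m) = h12 (i1.hom s • g2 m)
      rw [hh12, E2]) (fun s m => by
      change k12.hom (i1.hom s) • h23 (g2 m) = h13 (i1.hom s • g2 m)
      rw [hh13, E3, e1']) (fun m => E1 m)
  refine ⟨N', inferInstance, iN', N'.subtype, (key _ _ _ _).1 a3, Subtype.val_injective, fun n => ?_⟩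
  rw [← a2]
  constructor
  · rintro ⟨x, rfl⟩
    exact x.2
  · intro h
    exact ⟨⟨n, h⟩, rfl⟩

end K908.DescAlg
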