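import Groth.Agent.Gerb.K895.LocEquiv

/-!
# A functor of stacks with locally universal isomorphic arrows is an equivalence
-/

set_option autoImplicit false
set_option linter.unusedVariables false
set_option backward.isDefEq.respectTransparency false
set_option backward.isDefEq.respectTransparency.types false
set_option linter.dupNamespace false

universe v₃ u₃ v₂ u₂ v u

open CategoryTheory K895.Fib K895.Glue

namespace K908.EqLoc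

variable {C : Type u} [Category.{v} C] {J : GrothendieckTopology C}
  {𝒳 : BasedCategory.{v₂, u₂} C} {𝒴 : BasedCategory.{v₃, u₃} C}

/-- Universal arrows. -/
def IsUni (F : 𝒳 ⥤ᵇ 𝒴) {x : 𝒳.obj} {y : 𝒴.obj} (α : F.obj x ⟶ y) : Prop :=
  ∀ (z : 𝒳.obj) (β : F.obj z ⟶ y), ∃! χ : z ⟶ x, F.map χ ≫ α = β

/-- The data at a member of a covering. -/
def UniAt (F : 𝒳 ⥤ᵇ 𝒴) (y : 𝒴.obj) {V : C} (f : V ⟶ 𝒴.p.obj y) : Prop :=
  ∃ (y' : 𝒴.obj) (g : y' ⟶ y) (x : 𝒳.obj) (α : F.obj x ⟶ y'), 𝒴.p.IsHomLift f g ∧ 𝒴.p.IsHomLift (𝟙 V) α ∧ IsUni F α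

/-- Universal arrows which are isomorphisms. -/
theorem uniAt_of_iso (h𝒳 : FibCat.IsFibGrpd 𝒳.p) {F : 𝒳 ⥤ᵇ 𝒴} {y y' : 𝒴.obj} {V : C} {f : V ⟶ 𝒴.p.obj y}
    (g : y' ⟶ y) (hg : 𝒴.p.IsHomLift f g) {x : 𝒳.obj} (α : F.obj x ⟶ y') (hα : IsIso α) (hu : IsUni F α) :
    UniAt F y f := by
  have hV : 𝒴.p.obj y' = V := obj_eq_of_lift_left hg
  subst hV
  obtain ⟨x₁, l, hl⟩ := exists_lift h𝒳 (inv (𝒴.p.map α)) x (F.w_obj x).symm
  have hli : IsIso l := K895.Fib.isIso h𝒳 _ l hl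
  have hαl : 𝒴.p.IsHomLift (𝒴.p.map α) α := IsHomLift.map 𝒴.p α
  refine ⟨y', g, x₁, F.map l ≫ α, hg, lift_eq (lift_comp (lift_map F hl) hαl) (IsIso.inv_hom_id _), fun z β => ?_⟩
  obtain ⟨χ, hχ, hχu⟩ := hu z β
  refine ⟨χ ≫ inv l, ?_, fun χ' hχ' => ?_⟩
  · change F.map (χ ≫ inv l) ≫ F.map l ≫ α = β
    rw [← Category.assoc, ← F.toFunctor.map_comp, Category.assoc, IsIso.inv_hom_id, Category.comp_id]
    exact hχ
  · rw [IsIso.eq_comp_inv]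
    refine hχu _ ?_
    change F.map (χ' ≫ l) ≫ α = β
    rw [F.toFunctor.map_comp, Category.assoc]
    exact hχ'

/-- Base change of universal arrows. -/
theorem UniAt.comp (h𝒳 : FibCat.IsFibGrpd 𝒳.p) (h𝒴 : FibCat.IsFibGrpd 𝒴.p) {F : 𝒳 ⥤ᵇ 𝒴} {y : 𝒴.obj} {V V' : C}
    {f : V ⟶ 𝒴.p.obj y} (h : UniAt F y f) (k : V' ⟶ V) : UniAt F y (k ≫ f) := by
  obtain ⟨y', g, x, α, hg, hα, hu⟩ := h
  obtain ⟨y'', l, hl⟩ := exists_lift h𝒴 k y' (obj_eq_of_lift_left hg)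
  have hx : 𝒳.p.obj x = V := (F.w_obj x).symm.trans (obj_eq_of_lift_left hα)
  obtain ⟨x'', m, hm⟩ := exists_lift h𝒳 k x hx
  obtain ⟨α'', hα'', e⟩ := exists_fac h𝒴 (𝟙 V') k l (F.map m ≫ α) hl
    (lift_eq (lift_comp_id (lift_map F hm) hα) (Category.id_comp _).symm)
  refine ⟨y'', l ≫ g, x'', α'', lift_comp hl hg, hα'', fun z β => ?_⟩
  obtain ⟨χ₀, h0, h0u⟩ := hu z (β ≫ l)
  -- everything over the base of `β`
  have hβ : 𝒴.p.IsHomLift (𝒴.p.map β ≫ eqToHom (obj_eq_of_lift_left hl)) β :=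
    inferInstance
  let b : 𝒴.p.obj (F.obj z) ⟶ V' := 𝒴.p.map β ≫ eqToHom (obj_eq_of_lift_left hl)
  have hχ₀ : 𝒳.p.IsHomLift (b ≫ k) χ₀ := by
    apply lift_of_map F
    have h1 : 𝒴.p.IsHomLift (b ≫ k) (F.map χ₀ ≫ α) := by
      have : F.map χ₀ ≫ α = β ≫ l := h0
      rw [this]
      exact lift_comp hβ hl
    have hαi : IsIso α := K895.Fib.isIso h𝒴 (𝟙 V) α hα
    have h2 : F.map χ₀ = (F.map χ₀ ≫ α) ≫ inv α := by rw [Category.assoc, IsIso.hom_inv_id, Category.comp_id]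
    rw [h2]
    exact lift_comp_id h1 (lift_inv hα)
  obtain ⟨χ, hχ, hχe⟩ := exists_fac h𝒳 b k m χ₀ hm hχ₀
  refine ⟨χ, ?_, fun χ' hχ' => ?_⟩
  · refine hom_unique h𝒴 b k l hl _ _ (lift_comp_id (lift_map F hχ) hα'') hβ ?_
    rw [Category.assoc, e, ← Category.assoc, ← F.toFunctor.map_comp, hχe]
    exact h0
  · have h1 : χ' ≫ m = χ₀ := h0u _ (by
      change F.map (χ' ≫ m) ≫ α = β ≫ l
      have h2 : F.map χ' ≫ α'' = β := hχ'
      rw [F.toFunctor.map_comp, Category.assoc, ← e, ← Category.assoc, h2])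
    have h3 : 𝒳.p.IsHomLift b χ' := by
      apply lift_of_map F
      have hαi : IsIso α'' := K895.Fib.isIso h𝒴 (𝟙 V') α'' hα''
      have h2 : F.map χ' = (F.map χ' ≫ α'') ≫ inv α'' := by rw [Category.assoc, IsIso.hom_inv_id, Category.comp_id]
      rw [h2]
      have h4 : F.map χ' ≫ α'' = β := hχ'
      rw [h4]
      exact lift_comp_id hβ (lift_inv hα'')
    exact hom_unique h𝒳 b k m hm _ _ h3 hχ (h1.trans hχe.symm)

/-- Local existence of universal isomorphic arrows. -/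
def LocUni (J : GrothendieckTopology C) (F : 𝒳 ⥤ᵇ 𝒴) : Prop :=
  ∀ y : 𝒴.obj, ∃ R ∈ J (𝒴.p.obj y), ∀ ⦃V : C⦄ (f : V ⟶ 𝒴.p.obj y), R f → UniAt F y f

section

variable (h𝒳 : FibCat.IsFibGrpd 𝒳.p) (h𝒴 : FibCat.IsFibGrpd 𝒴.p) {F : 𝒳 ⥤ᵇ 𝒴}

/-- Universality of the restriction of an object in the image: the values of `F` on arrows over `f` to `x'`. -/
theorem key (h𝒳 : FibCat.IsFibGrpd 𝒳.p) (h𝒴 : FibCat.IsFibGrpd 𝒴.p) {x' : 𝒳.obj} {V : C}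
    {f : V ⟶ 𝒴.p.obj (F.obj x')} (h : UniAt F (F.obj x') f) :
    ∃ (y : 𝒳.obj) (l : y ⟶ x'), 𝒳.p.IsHomLift f l ∧ ∀ (z : 𝒳.obj) (β : F.obj z ⟶ F.obj y), 𝒴.p.IsHomLift (𝟙 V) β →
      ∃! χ : z ⟶ y, F.map χ = β := by
  obtain ⟨y', g, x, α, hg, hα, hu⟩ := h
  obtain ⟨y, l, hl⟩ := exists_lift h𝒳 f x' (F.w_obj x').symm
  -- the comparison `F y ≅ y'`
  obtain ⟨c, hc, hc', e1, e2⟩ := exists_iso h𝒴 f g (F.map l) hg (lift_map F hl)
  -- `y` and `x` are isomorphic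
  obtain ⟨χ, hχ, -⟩ := hu y c.hom
  have hχl : 𝒳.p.IsHomLift (𝟙 V) χ := by
    apply lift_of_map F
    have hαi : IsIso α := K895.Fib.isIso h𝒴 (𝟙 V) α hα
    have h2 : F.map χ = c.hom ≫ inv α := by
      rw [← (show F.map χ ≫ α = c.hom from hχ), Category.assoc, IsIso.hom_inv_id, Category.comp_id]
    rw [h2]
    exact lift_id_comp hc (lift_inv hα)
  have hχi : IsIso χ := K895.Fib.isIso h𝒳 (𝟙 V) χ hχl
  refine ⟨y, l, hl, fun z β hβ => ?_⟩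
  obtain ⟨κ, hκ, hκu⟩ := hu z (β ≫ c.hom)
  have h3 : F.map χ ≫ α = c.hom := hχ
  refine ⟨κ ≫ inv χ, ?_, fun χ' hχ' => ?_⟩
  · change F.map (κ ≫ inv χ) = β
    rw [← cancel_mono c.hom, ← h3, ← Category.assoc, ← F.toFunctor.map_comp, Category.assoc, IsIso.inv_hom_id,
      Category.comp_id, h3]
    exact hκ
  · rw [IsIso.eq_comp_inv]
    refine hκu _ ?_
    change F.map (χ' ≫ χ) ≫ α = β ≫ c.hom
    have h4 : F.map χ' = β := hχ'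
    rw [F.toFunctor.map_comp, Category.assoc, h3, h4]

end

variable (h𝒳 : Stk.IsPrestack J 𝒳) (h𝒴 : Stk.IsPrestack J 𝒴) {F : 𝒳 ⥤ᵇ 𝒴} (h : LocUni J F)

include h𝒳 h𝒴 h in
/-- Faithfulness over the identity. -/
theorem faithful_id {U : C} {x x' : 𝒳.obj} (b b' : x ⟶ x') (hb : 𝒳.p.IsHomLift (𝟙 U) b)
    (hb' : 𝒳.p.IsHomLift (𝟙 U) b') (e : F.map b = F.map b') : b = b' := by
  have hx' : 𝒳.p.obj x' = U := obj_eq_of_lift_right hb
  subst hx'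
  obtain ⟨R, hR, hR'⟩ := h (F.obj x')
  have hw : 𝒴.p.obj (F.obj x') = 𝒳.p.obj x' := F.w_obj x'
  have key' : ∀ {U : C} (hU : 𝒴.p.obj (F.obj x') = U) (hb : 𝒳.p.IsHomLift (𝟙 U) b) (hb' : 𝒳.p.IsHomLift (𝟙 U) b'),
      b = b' := by
    intro U hU hb hb'
    subst hU
    refine glue_unique h𝒳.1 (h𝒳.2 R hR) b b' hb hb' fun V f hf => ?_
    obtain ⟨y, l, hl, hu⟩ := key h𝒳.1 h𝒴.1 (hR' f hf)
    have hx : 𝒳.p.obj x = 𝒴.p.obj (F.obj x') := obj_eq_of_lift_left hb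
    obtain ⟨z, φ, hφ⟩ := exists_lift h𝒳.1 f x hx
    obtain ⟨c, hc, ec⟩ := exists_fac h𝒳.1 (𝟙 V) f l (φ ≫ b) hl (lift_eq (lift_comp_id hφ hb) (Category.id_comp _).symm)
    obtain ⟨c', hc', ec'⟩ := exists_fac h𝒳.1 (𝟙 V) f l (φ ≫ b') hl
      (lift_eq (lift_comp_id hφ hb') (Category.id_comp _).symm)
    refine ⟨z, φ, hφ, ?_⟩
    have h1 : F.map c = F.map c' := by
      refine hom_unique h𝒴.1 (𝟙 V) f (F.map l) (lift_map F hl) _ _ (lift_map F hc) (lift_map F hc') ?_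
      rw [← F.toFunctor.map_comp, ← F.toFunctor.map_comp, ec, ec', F.toFunctor.map_comp, F.toFunctor.map_comp]
      exact congrArg (fun t => F.map φ ≫ t) e
    have h2 : c = c' := (hu z (F.map c) (lift_map F hc)).unique rfl h1.symm
    rw [← ec, ← ec', h2]
  exact key' hw hb hb'

include h𝒳 h𝒴 h in
theorem faithful : F.toFunctor.Faithful where
  map_injective {x x'} b b' e := by
    obtain ⟨y, l, hl⟩ := exists_lift h𝒳.1 (𝒳.p.map b) x' rfl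
    have hb : 𝒳.p.IsHomLift (𝒳.p.map b) b := inferInstance
    have hb' : 𝒳.p.IsHomLift (𝒳.p.map b) b' := by
      apply lift_of_map F
      rw [← (show F.map b = F.map b' from e)]
      exact lift_map F hb
    obtain ⟨c, hc, ec⟩ := exists_fac h𝒳.1 (𝟙 _) (𝒳.p.map b) l b hl (lift_eq hb (Category.id_comp _).symm)
    obtain ⟨c', hc', ec'⟩ := exists_fac h𝒳.1 (𝟙 _) (𝒳.p.map b) l b' hl (lift_eq hb' (Category.id_comp _).symm)
    have h1 : F.map c = F.map c' := by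
      refine hom_unique h𝒴.1 (𝟙 _) (𝒳.p.map b) (F.map l) (lift_map F hl) _ _ (lift_map F hc) (lift_map F hc') ?_
      rw [← F.toFunctor.map_comp, ← F.toFunctor.map_comp, ec, ec']
      exact e
    rw [← ec, ← ec', faithful_id h𝒳 h𝒴 h c c' hc hc' h1]

include h𝒳 h𝒴 h in
/-- Fullness over the identity. -/
theorem full_id {x x' : 𝒳.obj} (Φ : F.obj x ⟶ F.obj x') (hΦ : 𝒴.p.IsHomLift (𝟙 (𝒴.p.obj (F.obj x'))) Φ) :
    ∃ b : x ⟶ x', F.map b = Φ := by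
  obtain ⟨R, hR, hR'⟩ := h (F.obj x')
  have hx : 𝒳.p.obj x = 𝒴.p.obj (F.obj x') := (F.w_obj x).symm.trans (obj_eq_of_lift_left hΦ)
  have hx' : 𝒳.p.obj x' = 𝒴.p.obj (F.obj x') := (F.w_obj x').symm
  let P : ∀ ⦃y : 𝒳.obj⦄, (y ⟶ x) → (y ⟶ x') → Prop := fun y φ ψ => F.map φ ≫ Φ = F.map ψ
  have hun : ∀ ⦃V : C⦄ (f : V ⟶ 𝒴.p.obj (F.obj x')), R f → ∀ ⦃y : 𝒳.obj⦄ (φ : y ⟶ x) (ψ ψ' : y ⟶ x'),
      𝒳.p.IsHomLift f φ → 𝒳.p.IsHomLift f ψ → 𝒳.p.IsHomLift f ψ' → P φ ψ → P φ ψ' → ψ = ψ' := by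
    intro V f hf z φ ψ ψ' _ hψ hψ' hP hP'
    obtain ⟨y, l, hl, hu⟩ := key h𝒳.1 h𝒴.1 (hR' f hf)
    obtain ⟨c, hc, ec⟩ := exists_fac h𝒳.1 (𝟙 V) f l ψ hl (lift_eq hψ (Category.id_comp _).symm)
    obtain ⟨c', hc', ec'⟩ := exists_fac h𝒳.1 (𝟙 V) f l ψ' hl (lift_eq hψ' (Category.id_comp _).symm)
    have h1 : F.map c = F.map c' := by
      refine hom_unique h𝒴.1 (𝟙 V) f (F.map l) (lift_map F hl) _ _ (lift_map F hc) (lift_map F hc') ?_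
      rw [← F.toFunctor.map_comp, ← F.toFunctor.map_comp, ec, ec']
      exact (show F.map φ ≫ Φ = F.map ψ from hP).symm.trans hP'
    rw [← ec, ← ec', (hu z (F.map c) (lift_map F hc)).unique rfl h1.symm]
  obtain ⟨b, hb, hbP⟩ := glue_hom h𝒳.1 hx hx' (h𝒳.2 R hR) P (by
    intro V f hf
    obtain ⟨y, l, hl, hu⟩ := key h𝒳.1 h𝒴.1 (hR' f hf)
    obtain ⟨z, φ, hφ⟩ := exists_lift h𝒳.1 f x hx
    obtain ⟨δ, hδ, eδ⟩ := exists_fac h𝒴.1 (𝟙 V) f (F.map l) (F.map φ ≫ Φ) (lift_map F hl)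
      (lift_eq (lift_comp_id (lift_map F hφ) hΦ) (Category.id_comp _).symm)
    obtain ⟨c, hc, -⟩ := hu z δ hδ
    have hc' : 𝒳.p.IsHomLift (𝟙 V) c := by
      apply lift_of_map F
      rw [show F.map c = δ from hc]
      exact hδ
    refine ⟨z, φ, c ≫ l, hφ, lift_id_comp hc' hl, ?_⟩
    change F.map φ ≫ Φ = F.map (c ≫ l)
    rw [F.toFunctor.map_comp, show F.map c = δ from hc, eδ])
    (fun z y χ φ ψ hP => by
      change F.map (χ ≫ φ) ≫ Φ = F.map (χ ≫ ψ)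
      rw [F.toFunctor.map_comp, F.toFunctor.map_comp, Category.assoc]
      exact congrArg (fun t => F.map χ ≫ t) hP) hun
  refine ⟨b, ?_⟩
  refine glue_unique h𝒴.1 (h𝒴.2 R hR) (F.map b) Φ (lift_map F hb) hΦ fun V f hf => ?_
  obtain ⟨z, φ, hφ⟩ := exists_lift h𝒳.1 f x hx
  refine ⟨F.obj z, F.map φ, lift_map F hφ, ?_⟩
  have h1 : F.map φ ≫ Φ = F.map (φ ≫ b) := hbP f hf φ hφ
  rw [h1, F.toFunctor.map_comp]

include h𝒳 h𝒴 h in
theorem full : F.toFunctor.Full where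
  map_surjective {x x'} Φ := by
    obtain ⟨y, l, hl⟩ := exists_lift h𝒳.1 (𝒴.p.map Φ) x' (F.w_obj x').symm
    obtain ⟨δ, hδ, eδ⟩ := exists_fac h𝒴.1 (𝟙 _) (𝒴.p.map Φ) (F.map l) Φ (lift_map F hl)
      (lift_eq inferInstance (Category.id_comp _).symm)
    have h1 : 𝒴.p.obj (F.obj x) = 𝒴.p.obj (F.obj y) := (obj_eq_of_lift_right hδ).symm
    have h2 : 𝒴.p.IsHomLift (𝟙 (𝒴.p.obj (F.obj y))) δ := by
      rw [← h1]
      exact hδ
    obtain ⟨b, hb⟩ := full_id h𝒳 h𝒴 h δ h2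
    refine ⟨b ≫ l, ?_⟩
    rw [F.toFunctor.map_comp]
    exact (congrArg (fun t => t ≫ F.map l) hb).trans eδ

omit h𝒳 in
include h𝒴 h in
/-- A functor from a stack to a prestack with locally universal isomorphic arrows is an equivalence. -/
theorem isEquivOver (h𝒳 : Stk.IsStack J 𝒳) : FibCat.IsEquivOver F := by
  have h1 := K895.LocEquiv.isPrestack_of_isStack h𝒳
  have := full h1 h𝒴 h
  have := faithful h1 h𝒴 h
  refine K895.LocEquiv.isEquivOver_of_locSurjObj h𝒳 h𝒴 F fun y => ?_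
  obtain ⟨R, hR, hR'⟩ := h y
  refine ⟨R, hR, fun V f hf => ?_⟩
  obtain ⟨y', g, x, α, hg, hα, hu⟩ := hR' f hf
  exact ⟨x, α ≫ g, lift_id_comp hα hg⟩

end K908.EqLoc
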