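import Mathlib.AlgebraicGeometry.Modules.Sheaf
import Mathlib.Topology.Sheaves.SheafCondition.UniqueGluing

/-!
# Modules on a scheme and their morphisms from elementary data
-/

set_option autoImplicit false
set_option linter.unusedVariables false
set_option linter.style.haveILetI false
set_option linter.dupNamespace false

universe u

open CategoryTheory CategoryTheory.Limits AlgebraicGeometry Opposite TopologicalSpace

namespace K908.MkMod

/-- Elementary data of a sheaf of modules on a scheme. -/
structure Data (X : Scheme.{u}) where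
  sec : X.Opens → Type u
  [grp : ∀ U, AddCommGroup (sec U)]
  [mod : ∀ U : X.Opens, Module Γ(X, U) (sec U)]
  res : ∀ {U V : X.Opens} (_ : V ≤ U), sec U →+ sec V
  res_self : ∀ {U : X.Opens} (h : U ≤ U) (s : sec U), res h s = s
  res_res : ∀ {U V W : X.Opens} (h : V ≤ U) (h' : W ≤ V) (s : sec U), res h' (res h s) = res (h'.trans h) s
  res_smul : ∀ {U V : X.Opens} (h : V ≤ U) (r : Γ(X, U)) (s : sec U),
    res h (r • s) = X.presheaf.map (homOfLE h).op r • res h s
  glue : ∀ {ι : Type u} (U : ι → X.Opens) (s : ∀ i, sec (U i)),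
    (∀ i j, res (inf_le_left : U i ⊓ U j ≤ U i) (s i) = res (inf_le_right : U i ⊓ U j ≤ U j) (s j)) →
      ∃! t : sec (iSup U), ∀ i, res (le_iSup U i) t = s i

attribute [instance] Data.grp Data.mod

variable {X : Scheme.{u}} (D : Data X)

/-- The underlying presheaf of abelian groups. -/
noncomputable def psh : TopCat.Presheaf Ab.{u} X where
  obj U := AddCommGrpCat.of (D.sec U.unop)
  map {U V} i := AddCommGrpCat.ofHom (D.res (leOfHom i.unop))
  map_id U := by
    ext s
    exact D.res_self _ s
  map_comp f g := by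
    ext s
    exact (D.res_res _ _ s).symm

noncomputable instance instModPsh (U : (Opens X)ᵒᵖ) : Module (X.ringCatSheaf.obj.obj U) ((psh D).obj U) :=
  inferInstanceAs (Module Γ(X, U.unop) (D.sec U.unop))

/-- The underlying presheaf of modules. -/
noncomputable def pre : PresheafOfModules X.ringCatSheaf.obj :=
  PresheafOfModules.ofPresheaf (psh D) (by
    intro U V f r m
    exact D.res_smul (leOfHom f.unop) r m)

theorem psh_isSheaf : Presheaf.IsSheaf (Opens.grothendieckTopology X) (psh D) := by
  refine (TopCat.Presheaf.isSheaf_iff_isSheafUniqueGluing (psh D)).mpr ?_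
  intro ι U sf hsf
  exact D.glue U sf hsf

/-- The module. -/
noncomputable def mk : X.Modules := ⟨pre D, psh_isSheaf D⟩

theorem mk_map {U V : X.Opens} (h : V ≤ U) (s : D.sec U) :
    (mk D).presheaf.map (homOfLE h).op (show Γ(mk D, U) from s) = D.res h s := rfl

theorem mk_smul {U : X.Opens} (r : Γ(X, U)) (s : D.sec U) :
    (r • (show Γ(mk D, U) from s) : Γ(mk D, U)) = (r • s : D.sec U) := rfl

/-- A morphism of modules from its components. -/
noncomputable def homMk {M N : X.Modules} (f : ∀ U : X.Opens, Γ(M, U) →+ Γ(N, U))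
    (hs : ∀ (U : X.Opens) (r : Γ(X, U)) (x : Γ(M, U)), f U (r • x) = r • f U x)
    (hr : ∀ {U V : X.Opens} (h : V ≤ U) (x : Γ(M, U)),
      f V (M.presheaf.map (homOfLE h).op x) = N.presheaf.map (homOfLE h).op (f U x)) : M ⟶ N :=
  ⟨{ app := fun U => ModuleCat.ofHom
        { toFun := f U.unop
          map_add' := (f U.unop).map_add
          map_smul' := hs U.unop }
     naturality := fun {U V} i => by
        ext x
        exact hr (leOfHom i.unop) x }⟩

@[simp] theorem homMk_app {M N : X.Modules} (f : ∀ U : X.Opens, Γ(M, U) →+ Γ(N, U))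
    (hs : ∀ (U : X.Opens) (r : Γ(X, U)) (x : Γ(M, U)), f U (r • x) = r • f U x)
    (hr : ∀ {U V : X.Opens} (h : V ≤ U) (x : Γ(M, U)),
      f V (M.presheaf.map (homOfLE h).op x) = N.presheaf.map (homOfLE h).op (f U x)) (U : X.Opens)
    (x : Γ(M, U)) : (homMk f hs hr).app U x = f U x := rfl

end K908.MkMod
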