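import Groth.Agent.StMod.K908.Fam
import Groth.Agent.StMod.K908.MkMod
import Groth.Agent.CohqA.AffSec
import Groth.Agent.CohqA.PullbackQCoh

/-!
# Extension theorem: a cartesian family of modules on affine objects comes from a quasi-coherent module

`C` a class of affine objects such that every object lies Zariski locally in `C`, `N` a cartesian family of modules on
`C`; `ext N` is a quasi-coherent module on `𝒳` whose global sections over the objects of `C` are `N`.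
-/

set_option autoImplicit false
set_option linter.unusedVariables false
set_option linter.style.haveILetI false
set_option backward.isDefEq.respectTransparency false
set_option backward.isDefEq.respectTransparency.types false
set_option linter.dupNamespace false
set_option linter.unusedSectionVars false

universe v' w' v w u

open CategoryTheory CategoryTheory.Limits AlgebraicGeometry Opposite TopologicalSpace StMod
open Groth.Agent.CohqA.BaseChangeMod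

namespace K908.Ext

open K908.AMod K908.Fam

variable {S : Scheme.{u}} {𝒳 : BasedCategory.{v, w} (Over S)} [hX : FibCat.IsFibGrpd 𝒳.p]
variable {C : ASieve 𝒳} (N : AMod C.cat)

section EvAt

variable {N} {ζ : C.cat.obj} {ξ : 𝒳.obj} (φ : ζ.obj ⟶ ξ) [hφ : IsOpenImmersion (bmap 𝒳 φ)]
  {U : (sch 𝒳 ξ).Opens} (hU : (bmap 𝒳 φ).opensRange = U)

include hU in
omit hX in
theorem inOp_of_range : InOp φ U := by
  intro z _
  change bmap 𝒳 φ z ∈ U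
  rw [← hU]
  exact ⟨z, rfl⟩

/-- Evaluation of families over `U` at an open immersion onto `U`. -/
def evAt : BFam N ξ U →+ N.obj ζ where
  toFun s := s.v ζ φ (inOp_of_range φ hU)
  map_zero' := rfl
  map_add' _ _ := rfl

omit hX in
theorem evAt_apply (s : BFam N ξ U) : evAt φ hU s = s.v ζ φ (inOp_of_range φ hU) := rfl

omit hX in
theorem evAt_smul (r : Γ(sch 𝒳 ξ, U)) (s : BFam N ξ U) :
    evAt φ hU (r • s) =
      (show Γ(sch C.cat ζ, ⊤) from (bmap 𝒳 φ).appLE U ⊤ (inOp_of_range φ hU) r) • evAt φ hU s := rfl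

include hU in
theorem exists_lift_of_inOp {η : 𝒳.obj} (a : η ⟶ ξ) (ha : InOp a U) : ∃ χ : η ⟶ ζ.obj, χ ≫ φ = a := by
  refine Fib.exists_lift_open φ a ?_
  rintro _ ⟨y, rfl⟩
  have : bmap 𝒳 a y ∈ (bmap 𝒳 φ).opensRange := by
    rw [hU]
    exact ha.mem y
  exact this

theorem evAt_bijective : Function.Bijective (evAt (N := N) φ hU) := by
  constructor
  · intro s t hst
    ext η a ha
    obtain ⟨χ, hχ⟩ := exists_lift_of_inOp φ hU a ha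
    let χ' : η ⟶ ζ := ObjectProperty.homMk χ
    rw [← s.map_eq χ' φ (inOp_of_range φ hU) a ha hχ, ← t.map_eq χ' φ (inOp_of_range φ hU) a ha hχ]
    exact congrArg (N.map χ') hst
  · intro m
    choose χ hχ using fun (η : 𝒳.obj) (a : η ⟶ ξ) (ha : InOp a U) => exists_lift_of_inOp φ hU a ha
    refine ⟨BFam.mk (fun η a h => N.map (ObjectProperty.homMk (χ η.obj a h) : η ⟶ ζ) m) ?_, ?_⟩
    · intro η' η ψ a h
      rw [← N.map_comp]
      congr 1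
      refine congrArg (fun k => N.map (ξ' := η') (ξ := ζ) k) ?_
      refine ObjectProperty.hom_ext _ ?_
      refine Fib.hom_ext_of_mono φ ?_
      change (ψ.hom ≫ χ η.obj a h) ≫ φ = χ η'.obj (ψ.hom ≫ a) _ ≫ φ
      rw [Category.assoc, hχ, hχ]
    · change N.map _ m = m
      refine Eq.trans ?_ (N.map_id ζ m)
      refine congrArg (fun k => N.map (ξ' := ζ) (ξ := ζ) k m) ?_
      refine ObjectProperty.hom_ext _ ?_
      refine Fib.hom_ext_of_mono φ ?_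
      change χ ζ.obj φ _ ≫ φ = 𝟙 _ ≫ φ
      rw [hχ, Category.id_comp]

omit hX in
/-- The ring map under evaluation is bijective. -/
theorem appLE_bijective : Function.Bijective ((bmap 𝒳 φ).appLE U ⊤ (inOp_of_range φ hU)).hom := by
  subst hU
  have h1 : (bmap 𝒳 φ).opensRange = (bmap 𝒳 φ) ''ᵁ ⊤ := ((bmap 𝒳 φ).image_top_eq_opensRange).symm
  have h2 : IsIso ((bmap 𝒳 φ).appLE (bmap 𝒳 φ).opensRange ⊤ (inOp_of_range φ rfl)) := by
    have h3 : (bmap 𝒳 φ).appLE (bmap 𝒳 φ).opensRange ⊤ (inOp_of_range φ rfl) =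
      (sch 𝒳 ξ).presheaf.map (eqToHom h1.symm).op ≫ ((bmap 𝒳 φ).appIso ⊤).hom := by
      rw [Scheme.Hom.appIso_hom', Scheme.Hom.map_appLE]
    rw [h3]
    infer_instance
  exact ConcreteCategory.bijective_of_isIso
    ((bmap 𝒳 φ).appLE (bmap 𝒳 φ).opensRange ⊤ (inOp_of_range φ rfl))

end EvAt

section Sheaf

variable [hs : ∀ (ξ : 𝒳.obj) (U : (sch 𝒳 ξ).Opens), Small.{u} (BFam N ξ U)]

/-- Small model of the families. -/
abbrev Sec (ξ : 𝒳.obj) (U : (sch 𝒳 ξ).Opens) : Type u := Shrink.{u} (BFam N ξ U)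

/-- The identification of the small model with families. -/
noncomputable def eqv (ξ : 𝒳.obj) (U : (sch 𝒳 ξ).Opens) : Sec N ξ U ≃ₗ[Γ(sch 𝒳 ξ, U)] BFam N ξ U :=
  Shrink.linearEquiv.{u} Γ(sch 𝒳 ξ, U) (BFam N ξ U)

/-- The sheaf data of the extension over `ξ`. -/
noncomputable def dat (hN : N.IsCart) (ξ : 𝒳.obj) (hZ : ZLoc C ξ) : MkMod.Data (sch 𝒳 ξ) where
  sec U := Sec N ξ U
  res {U V} h := ((eqv N ξ V).symm.toAddEquiv.toAddMonoidHom.comp (BFam.res h)).comp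
    (eqv N ξ U).toAddEquiv.toAddMonoidHom
  res_self h s := by
    change (eqv N ξ _).symm (BFam.res h (eqv N ξ _ s)) = s
    rw [LinearEquiv.symm_apply_eq]
    rfl
  res_res {U V W} h h' s := by
    change (eqv N ξ W).symm (BFam.res h' (eqv N ξ V ((eqv N ξ V).symm (BFam.res h (eqv N ξ U s))))) =
      (eqv N ξ W).symm (BFam.res (h'.trans h) (eqv N ξ U s))
    rw [LinearEquiv.apply_symm_apply]
    rfl
  res_smul {U V} h r s := by
    change (eqv N ξ V).symm (BFam.res h (eqv N ξ U (r • s))) = _ • (eqv N ξ V).symm (BFam.res h (eqv N ξ U s))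
    rw [LinearEquiv.map_smul, BFam.res_smul, LinearEquiv.map_smul]
  glue {ι} U s h := by
    have h' : ∀ i j, BFam.res (inf_le_left : U i ⊓ U j ≤ U i) (eqv N ξ _ (s i)) =
        BFam.res (inf_le_right : U i ⊓ U j ≤ U j) (eqv N ξ _ (s j)) := fun i j =>
      (eqv N ξ _).symm.injective (h i j)
    obtain ⟨t, ht, hu⟩ := BFam.glue N hN hZ U (fun i => eqv N ξ _ (s i)) h'
    refine ⟨(eqv N ξ _).symm t, fun i => ?_, fun t' ht' => ?_⟩
    · change (eqv N ξ _).symm (BFam.res (le_iSup U i) (eqv N ξ _ ((eqv N ξ _).symm t))) = s i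
      rw [LinearEquiv.apply_symm_apply, ht, LinearEquiv.symm_apply_apply]
    · rw [LinearEquiv.eq_symm_apply]
      refine hu _ fun i => ?_
      exact (eqv N ξ _).symm.injective ((ht' i).trans ((eqv N ξ _).symm_apply_apply (s i)).symm)

variable (hN : N.IsCart) (hZ : ∀ ξ, ZLoc C ξ)

variable {N} in
/-- Restriction on the small models. -/
noncomputable def pullSec {ξ' ξ : 𝒳.obj} (χ : ξ' ⟶ ξ) (U : (sch 𝒳 ξ).Opens) (U' : (sch 𝒳 ξ').Opens)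
    (hU : U' ≤ (bmap 𝒳 χ) ⁻¹ᵁ U) : Sec N ξ U →+ Sec N ξ' U' :=
  ((eqv N ξ' U').symm.toAddEquiv.toAddMonoidHom.comp (BFam.pull χ U U' hU)).comp
    (eqv N ξ U).toAddEquiv.toAddMonoidHom

variable {N} in
theorem eqv_pullSec {ξ' ξ : 𝒳.obj} (χ : ξ' ⟶ ξ) (U : (sch 𝒳 ξ).Opens) (U' : (sch 𝒳 ξ').Opens)
    (hU : U' ≤ (bmap 𝒳 χ) ⁻¹ᵁ U) (x : Sec N ξ U) :
    eqv N ξ' U' (pullSec χ U U' hU x) = BFam.pull χ U U' hU (eqv N ξ U x) :=
  (eqv N ξ' U').apply_symm_apply _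

variable {N} in
theorem pullSec_smul {ξ' ξ : 𝒳.obj} (χ : ξ' ⟶ ξ) (U : (sch 𝒳 ξ).Opens) (U' : (sch 𝒳 ξ').Opens)
    (hU : U' ≤ (bmap 𝒳 χ) ⁻¹ᵁ U) (r : Γ(sch 𝒳 ξ, U)) (x : Sec N ξ U) :
    pullSec χ U U' hU (r • x) = (bmap 𝒳 χ).appLE U U' hU r • pullSec χ U U' hU x := by
  apply (eqv N ξ' U').injective
  rw [LinearEquiv.map_smul, eqv_pullSec, eqv_pullSec, LinearEquiv.map_smul, BFam.pull_smul]

variable {N} in
theorem pullSec_id (ξ : 𝒳.obj) (U : (sch 𝒳 ξ).Opens) (hU : U ≤ (bmap 𝒳 (𝟙 ξ)) ⁻¹ᵁ U) (x : Sec N ξ U) :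
    pullSec (𝟙 ξ) U U hU x = x := by
  apply (eqv N ξ U).injective
  rw [eqv_pullSec]
  refine BFam.ext fun ζ φ h => ?_
  rw [BFam.pull_val]
  exact BFam.congr _ (Category.comp_id _) _

variable {N} in
theorem pullSec_comp {ξ'' ξ' ξ : 𝒳.obj} (ψ : ξ'' ⟶ ξ') (φ : ξ' ⟶ ξ) (U : (sch 𝒳 ξ).Opens)
    (U' : (sch 𝒳 ξ').Opens) (U'' : (sch 𝒳 ξ'').Opens) (h1 : U' ≤ (bmap 𝒳 φ) ⁻¹ᵁ U)
    (h2 : U'' ≤ (bmap 𝒳 ψ) ⁻¹ᵁ U') (h3 : U'' ≤ (bmap 𝒳 (ψ ≫ φ)) ⁻¹ᵁ U) (x : Sec N ξ U) :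
    pullSec (ψ ≫ φ) U U'' h3 x = pullSec ψ U' U'' h2 (pullSec φ U U' h1 x) := by
  apply (eqv N ξ'' U'').injective
  rw [eqv_pullSec, eqv_pullSec, eqv_pullSec]
  refine BFam.ext fun ζ a ha => ?_
  rw [BFam.pull_val, BFam.pull_val, BFam.pull_val]
  exact BFam.congr _ (Category.assoc _ _ _).symm _

theorem dat_res {ξ : 𝒳.obj} {U V : (sch 𝒳 ξ).Opens} (h : V ≤ U) (x : Sec N ξ U) :
    (dat N hN ξ (hZ ξ)).res h x = (eqv N ξ V).symm (BFam.res h (eqv N ξ U x)) := rfl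

theorem pullSec_res {ξ' ξ : 𝒳.obj} (χ : ξ' ⟶ ξ) (U : (sch 𝒳 ξ).Opens) (U' : (sch 𝒳 ξ').Opens)
    (hU : U' ≤ (bmap 𝒳 χ) ⁻¹ᵁ U) (V : (sch 𝒳 ξ).Opens) (V' : (sch 𝒳 ξ').Opens)
    (hV : V' ≤ (bmap 𝒳 χ) ⁻¹ᵁ V) (h : V ≤ U) (h' : V' ≤ U') (x : Sec N ξ U) :
    pullSec χ V V' hV ((dat N hN ξ (hZ ξ)).res h x) = (dat N hN ξ' (hZ ξ')).res h' (pullSec χ U U' hU x) := by
  apply (eqv N ξ' V').injective
  rw [eqv_pullSec, dat_res, dat_res, LinearEquiv.apply_symm_apply, LinearEquiv.apply_symm_apply, eqv_pullSec]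
  rfl

/-- The comparison map. -/
noncomputable def cmp {ξ' ξ : 𝒳.obj} (χ : ξ' ⟶ ξ) {g : sch 𝒳 ξ' ⟶ sch 𝒳 ξ} (hg : bmap 𝒳 χ = g) :
    MkMod.mk (dat N hN ξ (hZ ξ)) ⟶ (Scheme.Modules.pushforward g).obj (MkMod.mk (dat N hN ξ' (hZ ξ'))) :=
  MkMod.homMk (fun U => show Sec N ξ U →+ Sec N ξ' (g ⁻¹ᵁ U) from pullSec χ U (g ⁻¹ᵁ U) (by rw [hg]))
    (by
      intro U r x
      subst hg
      refine (pullSec_smul χ U _ le_rfl r x).trans ?_
      rw [← Scheme.Hom.app_eq_appLE]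
      rfl)
    (by
      intro U V h x
      subst hg
      exact pullSec_res N hN hZ χ U _ le_rfl V _ le_rfl h _ x)

theorem cmp_app {ξ' ξ : 𝒳.obj} (χ : ξ' ⟶ ξ) {g : sch 𝒳 ξ' ⟶ sch 𝒳 ξ} (hg : bmap 𝒳 χ = g)
    (U : (sch 𝒳 ξ).Opens) (x : Sec N ξ U) :
    (cmp N hN hZ χ hg).app U x = pullSec χ U (g ⁻¹ᵁ U) (by rw [hg]) x :=
  rfl

/-- The extension as a module on `𝒳`. -/
noncomputable def extMod : Mod 𝒳 where
  obj ξ := MkMod.mk (dat N hN ξ (hZ ξ))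
  map χ _ hg := cmp N hN hZ χ hg
  map_id ξ := by
    apply Scheme.Modules.hom_ext
    intro U
    simp only [Scheme.Modules.Hom.comp_app, Scheme.Modules.pushforwardId_hom_app_app,
      Category.comp_id, Scheme.Modules.Hom.id_app]
    ext x
    exact pullSec_id ξ U _ x
  map_comp ψ φ h g hh hg := by
    apply Scheme.Modules.hom_ext
    intro U
    simp only [Scheme.Modules.Hom.comp_app, Scheme.Modules.pushforwardComp_hom_app_app,
      Scheme.Modules.pushforward_map_app]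
    ext x
    subst hh hg
    exact pullSec_comp ψ φ U _ _ _ _ _ x

section QC

variable {N} {ζ : C.cat.obj} {ξ : 𝒳.obj} (φ : ζ.obj ⟶ ξ) [hφ : IsOpenImmersion (bmap 𝒳 φ)]
  {U : (sch 𝒳 ξ).Opens} (hU : (bmap 𝒳 φ).opensRange = U)

/-- Evaluation of sections over `U` at an open immersion onto `U`. -/
noncomputable def evSec : Sec N ξ U →+ N.obj ζ :=
  (evAt φ hU).comp (eqv N ξ U).toAddEquiv.toAddMonoidHom

theorem evSec_apply (x : Sec N ξ U) : evSec φ hU x = evAt φ hU (eqv N ξ U x) := rfl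

theorem evSec_bijective : Function.Bijective (evSec (N := N) φ hU) :=
  (evAt_bijective φ hU).comp (eqv N ξ U).bijective

theorem evSec_smul (r : Γ(sch 𝒳 ξ, U)) (x : Sec N ξ U) :
    evSec φ hU (r • x) =
      (show Γ(sch C.cat ζ, ⊤) from (bmap 𝒳 φ).appLE U ⊤ (inOp_of_range φ hU) r) • evSec φ hU x := by
  rw [evSec_apply, LinearEquiv.map_smul, evAt_smul]
  rfl

/-- Evaluation is compatible with restriction. -/
theorem evSec_pullSec {ζ' : C.cat.obj} {ξ' : 𝒳.obj} (φ' : ζ'.obj ⟶ ξ') [hφ' : IsOpenImmersion (bmap 𝒳 φ')]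
    {U' : (sch 𝒳 ξ').Opens} (hU' : (bmap 𝒳 φ').opensRange = U') (χ : ξ' ⟶ ξ)
    (h : U' ≤ (bmap 𝒳 χ) ⁻¹ᵁ U) (a : ζ' ⟶ ζ) (ha : a.hom ≫ φ = φ' ≫ χ) (x : Sec N ξ U) :
    evSec φ' hU' (pullSec χ U U' h x) = N.map a (evSec φ hU x) := by
  rw [evSec_apply, eqv_pullSec, evAt_apply, BFam.pull_val, evSec_apply, evAt_apply]
  exact (BFam.map_eq _ a φ _ _ _ ha).symm

include hφ hU in
theorem res_away (f : Γ(sch 𝒳 ξ, U)) :
    (∀ (s : Sec N ξ U), (dat N hN ξ (hZ ξ)).res ((sch 𝒳 ξ).basicOpen_le f) s = 0 → ∃ n : ℕ, f ^ n • s = 0) ∧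
      (∀ (t : Sec N ξ ((sch 𝒳 ξ).basicOpen f)), ∃ (n : ℕ) (s : Sec N ξ U),
        (dat N hN ξ (hZ ξ)).res ((sch 𝒳 ξ).basicOpen_le f) s =
          ((sch 𝒳 ξ).presheaf.map (homOfLE ((sch 𝒳 ξ).basicOpen_le f)).op f) ^ n • t) := by
  let f' : Γ(sch C.cat ζ, ⊤) := (bmap 𝒳 φ).appLE U ⊤ (inOp_of_range φ hU) f
  obtain ⟨ζ', ψ, h1, h2⟩ := exists_restr_basic C ζ f'
  let φ' : ζ'.obj ⟶ ξ := ψ.hom ≫ φ
  have hφ' : IsOpenImmersion (bmap 𝒳 φ') := by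
    rw [bmap_comp]
    have : IsOpenImmersion (bmap 𝒳 ψ.hom) := h1
    infer_instance
  have hU' : (bmap 𝒳 φ').opensRange = (sch 𝒳 ξ).basicOpen f := by
    have h3 : IsOpenImmersion (bmap 𝒳 ψ.hom) := h1
    have h4 : (bmap 𝒳 φ').opensRange = (bmap 𝒳 ψ.hom ≫ bmap 𝒳 φ).opensRange := by
      apply Opens.ext
      change Set.range (bmap 𝒳 φ') = Set.range (bmap 𝒳 ψ.hom ≫ bmap 𝒳 φ)
      rw [bmap_comp]
    have h5 : (bmap 𝒳 ψ.hom).opensRange = (sch 𝒳 ζ.obj).basicOpen f' := h2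
    rw [h4, Scheme.Hom.opensRange_comp, h5, Scheme.basicOpen_appLE, top_inf_eq,
      Scheme.Hom.image_preimage_eq_opensRange_inf, hU]
    exact inf_eq_right.2 ((sch 𝒳 ξ).basicOpen_le f)
  have hev : ∀ s : Sec N ξ U, evSec φ' hU' ((dat N hN ξ (hZ ξ)).res ((sch 𝒳 ξ).basicOpen_le f) s) =
      N.map ψ (evSec φ hU s) := by
    intro s
    rw [dat_res, evSec_apply, LinearEquiv.apply_symm_apply, evAt_apply, BFam.res_val, evSec_apply, evAt_apply]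
    exact (BFam.map_eq _ ψ φ _ _ _ rfl).symm
  obtain ⟨k1, k2, -⟩ := map_away N hN ψ f' h2
  have hpow : ∀ (n : ℕ) (s : Sec N ξ U), evSec φ hU (f ^ n • s) = f' ^ n • evSec φ hU s := by
    intro n s
    rw [evSec_smul, map_pow]
  constructor
  · intro s hs
    have h3 : N.map ψ (evSec φ hU s) = 0 := by rw [← hev, hs, map_zero]
    obtain ⟨n, hn⟩ := k1 _ h3
    refine ⟨n, (evSec_bijective φ hU).1 ?_⟩
    rw [hpow, hn, map_zero]
  · intro t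
    obtain ⟨n, m, hm⟩ := k2 (evSec φ' hU' t)
    obtain ⟨s, rfl⟩ := (evSec_bijective φ hU).2 m
    refine ⟨n, s, (evSec_bijective φ' hU').1 ?_⟩
    rw [hev, hm, evSec_smul]
    congr 1
    rw [map_pow]
    congr 1
    have h4 := Scheme.Hom.map_appLE (bmap 𝒳 φ') (inOp_of_range φ' hU') (homOfLE ((sch 𝒳 ξ).basicOpen_le f)).op
    have h5 := congrArg (fun k => k.hom f) h4
    simp only [CommRingCat.hom_comp, RingHom.comp_apply] at h5
    refine Eq.trans ?_ h5.symm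
    exact appLE_comp ψ.hom φ (inOp_of_range φ hU) ((inOp_of_range φ hU).precomp _) f

end QC

theorem isLocQCoh_extMod : (extMod N hN hZ).IsLocQCoh := by
  intro ξ
  refine Groth.Agent.CohqA.AffSec.isQCoh_of_loc _ ?_
  intro x
  obtain ⟨ζ, φ, h1, h2⟩ := hZ ξ x
  have hA := isAffine_sch C ζ
  refine ⟨(bmap 𝒳 φ).opensRange, ?_, h2, ?_⟩
  · have : IsAffine (sch 𝒳 ζ.obj) := hA
    exact isAffineOpen_opensRange (bmap 𝒳 φ)
  · refine ⟨fun f s hs => ?_, fun f t => ?_⟩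
    · exact (res_away hN hZ φ rfl f).1 s hs
    · exact (res_away hN hZ φ rfl f).2 t

theorem secMap_cmp {ξ' ξ : 𝒳.obj} (χ : ξ' ⟶ ξ) (U : (sch 𝒳 ξ).Opens) (V : (sch 𝒳 ξ').Opens)
    (e : V ≤ (bmap 𝒳 χ) ⁻¹ᵁ U) (x : Sec N ξ U) :
    Groth.Agent.CohqA.PullbackAffine.secMap (bmap 𝒳 χ) (cmp N hN hZ χ rfl) U V e x = pullSec χ U V e x := by
  change (dat N hN ξ' (hZ ξ')).res e (pullSec χ U ((bmap 𝒳 χ) ⁻¹ᵁ U) le_rfl x) = _
  apply (eqv N ξ' V).injective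
  rw [dat_res, LinearEquiv.apply_symm_apply, eqv_pullSec, eqv_pullSec]
  rfl

theorem isCartesian_extMod : (extMod N hN hZ).IsCartesian := by
  intro ξ' ξ χ g hg
  subst hg
  have q1 : (extMod N hN hZ).IsLocQCoh := isLocQCoh_extMod N hN hZ
  have : ((extMod N hN hZ).obj ξ).IsQuasicoherent := q1 ξ
  have : ((extMod N hN hZ).obj ξ').IsQuasicoherent := q1 ξ'
  rw [← Groth.Agent.CohqA.PullbackUniv.isUniv_iff_isIso]
  refine Groth.Agent.CohqA.PullbackQCoh.isUniv_of_isBC_cover _ _ ?_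
  intro y
  obtain ⟨ζ, φ, h1, h2⟩ := hZ ξ (bmap 𝒳 χ y)
  obtain ⟨ζ', φ', h1', h2', h3'⟩ := (hZ ξ').exists_nhd ((bmap 𝒳 χ) ⁻¹ᵁ (bmap 𝒳 φ).opensRange) (x := y) h2
  have hA : IsAffine (sch 𝒳 ζ.obj) := isAffine_sch C ζ
  have hA' : IsAffine (sch 𝒳 ζ'.obj) := isAffine_sch C ζ'
  refine ⟨(bmap 𝒳 φ).opensRange, (bmap 𝒳 φ').opensRange, isAffineOpen_opensRange _, isAffineOpen_opensRange _,
    h3', h2', ?_⟩
  obtain ⟨a, ha⟩ := Fib.exists_lift_open φ (φ' ≫ χ) (by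
    rw [bmap_comp]
    rintro _ ⟨z, rfl⟩
    exact h3' ⟨z, rfl⟩)
  let a' : ζ' ⟶ ζ := ObjectProperty.homMk a
  refine (Groth.Agent.CohqA.PullbackSections.isBC_congr_of_bijective
    (A' := Γ(sch C.cat ζ, ⊤)) (B' := Γ(sch C.cat ζ', ⊤)) (φ' := (bmap C.cat a').appTop.hom)
    ((bmap 𝒳 φ).appLE (bmap 𝒳 φ).opensRange ⊤ (inOp_of_range φ rfl)).hom (appLE_bijective φ rfl)
    ((bmap 𝒳 φ').appLE (bmap 𝒳 φ').opensRange ⊤ (inOp_of_range φ' rfl)).hom (appLE_bijective φ' rfl)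
    (evSec (N := N) φ rfl) (evSec_bijective φ rfl) (evSec_smul φ rfl)
    (evSec (N := N) φ' rfl) (evSec_bijective φ' rfl) (evSec_smul φ' rfl) ?_ ?_).2 (hN a')
  · ext r
    have h4 := Scheme.Hom.appLE_comp_appLE (bmap 𝒳 φ') (bmap 𝒳 χ) _ _ ⊤ h3' (inOp_of_range φ' rfl)
    have h5 := congrArg (fun k => k.hom r) h4
    simp only [CommRingCat.hom_comp, RingHom.comp_apply] at h5
    refine h5.trans ?_
    have h6 := appLE_comp a φ (inOp_of_range φ rfl) ((inOp_of_range φ rfl).precomp a) r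
    refine Eq.trans ?_ h6.symm
    have : ∀ (g g' : sch 𝒳 ζ'.obj ⟶ sch 𝒳 ξ) (e : g = g') (hg : ⊤ ≤ g ⁻¹ᵁ (bmap 𝒳 φ).opensRange)
        (hg' : ⊤ ≤ g' ⁻¹ᵁ (bmap 𝒳 φ).opensRange),
        g.appLE (bmap 𝒳 φ).opensRange ⊤ hg r = g'.appLE (bmap 𝒳 φ).opensRange ⊤ hg' r := by
      rintro g g' rfl hg hg'
      rfl
    refine this _ _ ?_ _ _
    rw [← bmap_comp, ha]
  · ext x
    refine (congrArg (evSec φ' rfl) (secMap_cmp N hN hZ χ _ _ h3' x)).trans ?_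
    exact evSec_pullSec φ rfl φ' rfl χ h3' a' ha x

/-- The extension, a quasi-coherent module on `𝒳`. -/
noncomputable def ext : QCoh 𝒳 := ⟨extMod N hN hZ, isCartesian_extMod N hN hZ, isLocQCoh_extMod N hN hZ⟩

theorem mapTop_ext {ξ' ξ : 𝒳.obj} (χ : ξ' ⟶ ξ) (x : Sec N ξ ⊤) :
    (ext N hN hZ).obj.mapTop χ x = pullSec χ ⊤ ⊤ le_rfl x := rfl

/-- The identification of the global sections of the extension over an object of `C`. -/
noncomputable def extEv (ζ : C.cat.obj) : Γ((ext N hN hZ).obj.obj ζ.obj, ⊤) →+ N.obj ζ :=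
  (BFam.ev (N := N) (ξ := ζ)).comp (eqv N ζ.obj ⊤).toAddEquiv.toAddMonoidHom

theorem extEv_bijective (ζ : C.cat.obj) : Function.Bijective (extEv N hN hZ ζ) :=
  BFam.ev_bijective.comp (eqv N ζ.obj ⊤).bijective

theorem extEv_smul (ζ : C.cat.obj) (r : Γ(sch 𝒳 ζ.obj, ⊤)) (x : Γ((ext N hN hZ).obj.obj ζ.obj, ⊤)) :
    extEv N hN hZ ζ (r • x) = (show Γ(sch C.cat ζ, ⊤) from r) • extEv N hN hZ ζ x := by
  change BFam.v (eqv N ζ.obj ⊤ (r • (show Sec N ζ.obj ⊤ from x))) ζ (𝟙 ζ.obj) (inOp_top _) = _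
  rw [LinearEquiv.map_smul, BFam.smul_val]
  refine congrArg (fun (r' : Γ(sch C.cat ζ, ⊤)) => r' • BFam.v (eqv N ζ.obj ⊤ x) ζ (𝟙 ζ.obj) (inOp_top _)) ?_
  have : ∀ (g : sch 𝒳 ζ.obj ⟶ sch 𝒳 ζ.obj) (e : g = 𝟙 _) (hg : ⊤ ≤ g ⁻¹ᵁ ⊤), g.appLE ⊤ ⊤ hg r = r := by
    rintro g rfl hg
    simp [Scheme.Hom.appLE]
  exact this _ (bmap_id _) _

theorem extEv_mapTop {ζ' ζ : C.cat.obj} (a : ζ' ⟶ ζ) (x : Γ((ext N hN hZ).obj.obj ζ.obj, ⊤)) :
    extEv N hN hZ ζ' ((ext N hN hZ).obj.mapTop a.hom x) = N.map a (extEv N hN hZ ζ x) := by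
  change BFam.v (eqv N ζ'.obj ⊤ (pullSec a.hom ⊤ ⊤ le_rfl x)) ζ' (𝟙 ζ'.obj) (inOp_top _) = _
  rw [eqv_pullSec, BFam.pull_val]
  refine (BFam.map_eq (eqv N ζ.obj ⊤ x) a (𝟙 ζ.obj) (inOp_top _) (𝟙 _ ≫ a.hom) _ ?_).symm
  rw [Category.comp_id, Category.id_comp]

end Sheaf

end K908.Ext
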