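import Groth.Agent.StMod.K908.AMod
import Mathlib.Algebra.Module.Shrink

/-!
# Compatible families of elements of a cartesian family of modules over an object, and the sheaf they define
-/

set_option autoImplicit false
set_option linter.unusedVariables false
set_option linter.style.haveILetI false
set_option backward.isDefEq.respectTransparency false
set_option backward.isDefEq.respectTransparency.types false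
set_option linter.dupNamespace false
set_option linter.unusedSectionVars false

universe v' w' v w u

open CategoryTheory CategoryTheory.Limits AlgebraicGeometry Opposite TopologicalSpace StMod
open Groth.Agent.CohqA.BaseChangeMod

namespace K908.Fam

open K908.AMod

variable {S : Scheme.{u}} {𝒳 : BasedCategory.{v, w} (Over S)}

/-- The arrow `φ` lands in the open `U` of the scheme under its target. -/
def InOp {ζ ξ : 𝒳.obj} (φ : ζ ⟶ ξ) (U : (sch 𝒳 ξ).Opens) : Prop := ⊤ ≤ (bmap 𝒳 φ) ⁻¹ᵁ U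

theorem InOp.mono {ζ ξ : 𝒳.obj} {φ : ζ ⟶ ξ} {U V : (sch 𝒳 ξ).Opens} (h : InOp φ V) (hVU : V ≤ U) : InOp φ U :=
  fun _ hz => hVU (h hz)

theorem InOp.precomp {ζ' ζ ξ : 𝒳.obj} {φ : ζ ⟶ ξ} {U : (sch 𝒳 ξ).Opens} (h : InOp φ U) (ψ : ζ' ⟶ ζ) :
    InOp (ψ ≫ φ) U := by
  intro z _
  change bmap 𝒳 (ψ ≫ φ) z ∈ U
  rw [bmap_comp]
  exact h (Set.mem_univ (bmap 𝒳 ψ z))

theorem inOp_top {ζ ξ : 𝒳.obj} (φ : ζ ⟶ ξ) : InOp φ ⊤ := fun _ _ => trivial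

theorem InOp.inf {ζ ξ : 𝒳.obj} {φ : ζ ⟶ ξ} {U V : (sch 𝒳 ξ).Opens} (h : InOp φ U) (h' : InOp φ V) :
    InOp φ (U ⊓ V) := fun _ hz => ⟨h hz, h' hz⟩

theorem InOp.mem {ζ ξ : 𝒳.obj} {φ : ζ ⟶ ξ} {U : (sch 𝒳 ξ).Opens} (h : InOp φ U) (z : ↥(sch 𝒳 ζ)) :
    bmap 𝒳 φ z ∈ U := h (Set.mem_univ z)

theorem inOp_comp_iff {ζ ξ ξ₁ : 𝒳.obj} (φ : ζ ⟶ ξ) (χ : ξ ⟶ ξ₁) (U : (sch 𝒳 ξ₁).Opens) :
    InOp (φ ≫ χ) U ↔ InOp φ ((bmap 𝒳 χ) ⁻¹ᵁ U) := by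
  unfold InOp
  rw [bmap_comp]
  rfl

variable {C : ASieve 𝒳} (N : AMod C.cat)

/-- Compatible families over the part `U` of `ξ`, as a subgroup. -/
def fam (ξ : 𝒳.obj) (U : (sch 𝒳 ξ).Opens) :
    AddSubgroup (∀ (ζ : C.cat.obj) (_ : {φ : ζ.obj ⟶ ξ // InOp φ U}), N.obj ζ) where
  carrier := {s | ∀ ⦃ζ' ζ : C.cat.obj⦄ (ψ : ζ' ⟶ ζ) (φ : ζ.obj ⟶ ξ) (h : InOp φ U),
    N.map ψ (s ζ ⟨φ, h⟩) = s ζ' ⟨ψ.hom ≫ φ, h.precomp ψ.hom⟩}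
  zero_mem' := by
    intro ζ' ζ ψ φ h
    exact map_zero _
  add_mem' := by
    intro a b ha hb ζ' ζ ψ φ h
    simp only [Pi.add_apply, map_add]
    rw [ha, hb]
  neg_mem' := by
    intro a ha ζ' ζ ψ φ h
    simp only [Pi.neg_apply, map_neg]
    rw [ha]

/-- Compatible families over the part `U` of `ξ`. -/
def BFam (ξ : 𝒳.obj) (U : (sch 𝒳 ξ).Opens) : Type (max u v w) := ↥(fam N ξ U)

noncomputable instance (ξ : 𝒳.obj) (U : (sch 𝒳 ξ).Opens) : AddCommGroup (BFam N ξ U) :=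
  inferInstanceAs (AddCommGroup ↥(fam N ξ U))

variable {N}

/-- The value of a family. -/
def BFam.v {ξ : 𝒳.obj} {U : (sch 𝒳 ξ).Opens} (s : BFam N ξ U) (ζ : C.cat.obj) (φ : ζ.obj ⟶ ξ)
    (h : InOp φ U) : N.obj ζ := Subtype.val s ζ ⟨φ, h⟩

/-- Constructor. -/
def BFam.mk {ξ : 𝒳.obj} {U : (sch 𝒳 ξ).Opens} (s : ∀ (ζ : C.cat.obj) (φ : ζ.obj ⟶ ξ) (_ : InOp φ U), N.obj ζ)
    (hs : ∀ ⦃ζ' ζ : C.cat.obj⦄ (ψ : ζ' ⟶ ζ) (φ : ζ.obj ⟶ ξ) (h : InOp φ U),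
      N.map ψ (s ζ φ h) = s ζ' (ψ.hom ≫ φ) (h.precomp ψ.hom)) : BFam N ξ U :=
  ⟨fun ζ φ => s ζ φ.1 φ.2, hs⟩

@[simp] theorem BFam.mk_v {ξ : 𝒳.obj} {U : (sch 𝒳 ξ).Opens}
    (s : ∀ (ζ : C.cat.obj) (φ : ζ.obj ⟶ ξ) (_ : InOp φ U), N.obj ζ)
    (hs : ∀ ⦃ζ' ζ : C.cat.obj⦄ (ψ : ζ' ⟶ ζ) (φ : ζ.obj ⟶ ξ) (h : InOp φ U),
      N.map ψ (s ζ φ h) = s ζ' (ψ.hom ≫ φ) (h.precomp ψ.hom)) (ζ : C.cat.obj) (φ : ζ.obj ⟶ ξ)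
    (h : InOp φ U) : (BFam.mk s hs).v ζ φ h = s ζ φ h := rfl

theorem BFam.comm {ξ : 𝒳.obj} {U : (sch 𝒳 ξ).Opens} (s : BFam N ξ U) ⦃ζ' ζ : C.cat.obj⦄ (ψ : ζ' ⟶ ζ)
    (φ : ζ.obj ⟶ ξ) (h : InOp φ U) : N.map ψ (s.v ζ φ h) = s.v ζ' (ψ.hom ≫ φ) (h.precomp ψ.hom) := s.2 ψ φ h

@[ext] theorem BFam.ext {ξ : 𝒳.obj} {U : (sch 𝒳 ξ).Opens} {s t : BFam N ξ U}
    (h : ∀ (ζ : C.cat.obj) (φ : ζ.obj ⟶ ξ) (h : InOp φ U), s.v ζ φ h = t.v ζ φ h) : s = t :=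
  Subtype.ext (funext fun ζ => funext fun φ => h ζ φ.1 φ.2)

@[simp] theorem BFam.add_val {ξ : 𝒳.obj} {U : (sch 𝒳 ξ).Opens} (s t : BFam N ξ U)
    (ζ : C.cat.obj) (φ : ζ.obj ⟶ ξ) (h : InOp φ U) : (s + t).v ζ φ h = s.v ζ φ h + t.v ζ φ h := rfl

@[simp] theorem BFam.zero_val {ξ : 𝒳.obj} {U : (sch 𝒳 ξ).Opens}
    (ζ : C.cat.obj) (φ : ζ.obj ⟶ ξ) (h : InOp φ U) : (0 : BFam N ξ U).v ζ φ h = 0 := rfl

theorem BFam.congr {ξ : 𝒳.obj} {U : (sch 𝒳 ξ).Opens} (s : BFam N ξ U) {ζ : C.cat.obj}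
    {φ φ' : ζ.obj ⟶ ξ} (e : φ = φ') (h : InOp φ U) : s.v ζ φ h = s.v ζ φ' (e ▸ h) := by
  subst e
  rfl

/-- The compatibility in a flexible form. -/
theorem BFam.map_eq {ξ : 𝒳.obj} {U : (sch 𝒳 ξ).Opens} (s : BFam N ξ U) {ζ' ζ : C.cat.obj}
    (ψ : ζ' ⟶ ζ) (φ : ζ.obj ⟶ ξ) (h : InOp φ U) (φ' : ζ'.obj ⟶ ξ) (h' : InOp φ' U)
    (e : ψ.hom ≫ φ = φ') : N.map ψ (s.v ζ φ h) = s.v ζ' φ' h' := by
  subst e
  exact s.comm ψ φ h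

theorem appLE_comp {ζ' ζ ξ : 𝒳.obj} (ψ : ζ' ⟶ ζ) (φ : ζ ⟶ ξ) {U : (sch 𝒳 ξ).Opens} (h : InOp φ U)
    (h' : InOp (ψ ≫ φ) U) (r : Γ(sch 𝒳 ξ, U)) :
    (bmap 𝒳 ψ).appTop ((bmap 𝒳 φ).appLE U ⊤ h r) = (bmap 𝒳 (ψ ≫ φ)).appLE U ⊤ h' r := by
  have h1 := Scheme.Hom.appLE_comp_appLE (bmap 𝒳 ψ) (bmap 𝒳 φ) U ⊤ ⊤ h le_top
  have h2 := congrArg (fun k => k.hom r) h1
  simp only [CommRingCat.hom_comp, RingHom.comp_apply] at h2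
  have h3 : (bmap 𝒳 ψ).appLE ⊤ ⊤ le_top = (bmap 𝒳 ψ).appTop := by
    rw [Scheme.Hom.appLE, Scheme.Hom.appTop]
    simp
  rw [h3] at h2
  refine h2.trans ?_
  have : ∀ (g g' : sch 𝒳 ζ' ⟶ sch 𝒳 ξ) (e : g = g') (hg : ⊤ ≤ g ⁻¹ᵁ U) (hg' : ⊤ ≤ g' ⁻¹ᵁ U),
      g.appLE U ⊤ hg r = g'.appLE U ⊤ hg' r := by
    rintro g g' rfl hg hg'
    rfl
  exact this _ _ (bmap_comp ψ φ).symm _ _

theorem smul_mem (ξ : 𝒳.obj) (U : (sch 𝒳 ξ).Opens) (r : Γ(sch 𝒳 ξ, U)) (s : BFam N ξ U)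
    ⦃ζ' ζ : C.cat.obj⦄ (ψ : ζ' ⟶ ζ) (φ : ζ.obj ⟶ ξ) (h : InOp φ U) :
    N.map ψ ((show Γ(sch C.cat ζ, ⊤) from (bmap 𝒳 φ).appLE U ⊤ h r) • s.v ζ φ h) =
      (show Γ(sch C.cat ζ', ⊤) from (bmap 𝒳 (ψ.hom ≫ φ)).appLE U ⊤ (h.precomp _) r) •
        s.v ζ' (ψ.hom ≫ φ) (h.precomp _) := by
  rw [N.map_smul, s.comm ψ φ h]
  congr 1
  exact appLE_comp ψ.hom φ h _ r

noncomputable instance (ξ : 𝒳.obj) (U : (sch 𝒳 ξ).Opens) : SMul Γ(sch 𝒳 ξ, U) (BFam N ξ U) where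
  smul r s := BFam.mk (fun ζ φ h => (show Γ(sch C.cat ζ, ⊤) from (bmap 𝒳 φ).appLE U ⊤ h r) • s.v ζ φ h)
    (smul_mem ξ U r s)

@[simp] theorem BFam.smul_val {ξ : 𝒳.obj} {U : (sch 𝒳 ξ).Opens} (r : Γ(sch 𝒳 ξ, U)) (s : BFam N ξ U)
    (ζ : C.cat.obj) (φ : ζ.obj ⟶ ξ) (h : InOp φ U) :
    (r • s).v ζ φ h = (show Γ(sch C.cat ζ, ⊤) from (bmap 𝒳 φ).appLE U ⊤ h r) • s.v ζ φ h := rfl

noncomputable instance (ξ : 𝒳.obj) (U : (sch 𝒳 ξ).Opens) : Module Γ(sch 𝒳 ξ, U) (BFam N ξ U) where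
  one_smul s := by ext; simp
  mul_smul a b s := by
    ext ζ φ h
    simp only [BFam.smul_val, map_mul]
    exact mul_smul _ _ _
  smul_zero a := by ext; simp
  smul_add a s t := by ext; simp
  add_smul a b s := by
    ext ζ φ h
    simp only [BFam.smul_val, map_add, BFam.add_val]
    exact add_smul _ _ _
  zero_smul s := by
    ext ζ φ h
    simp only [BFam.smul_val, map_zero]
    exact zero_smul _ _

/-- Restriction to a smaller open. -/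
def BFam.res {ξ : 𝒳.obj} {U V : (sch 𝒳 ξ).Opens} (hVU : V ≤ U) : BFam N ξ U →+ BFam N ξ V where
  toFun s := BFam.mk (fun ζ φ h => s.v ζ φ (h.mono hVU)) (fun _ _ ψ φ h => s.comm ψ φ (h.mono hVU))
  map_zero' := rfl
  map_add' _ _ := rfl

@[simp] theorem BFam.res_val {ξ : 𝒳.obj} {U V : (sch 𝒳 ξ).Opens} (hVU : V ≤ U) (s : BFam N ξ U)
    (ζ : C.cat.obj) (φ : ζ.obj ⟶ ξ) (h : InOp φ V) : (BFam.res hVU s).v ζ φ h = s.v ζ φ (h.mono hVU) := rfl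

/-- Pullback along an arrow of `𝒳`. -/
def BFam.pull {ξ' ξ : 𝒳.obj} (χ : ξ' ⟶ ξ) (U : (sch 𝒳 ξ).Opens) (U' : (sch 𝒳 ξ').Opens)
    (hU : U' ≤ (bmap 𝒳 χ) ⁻¹ᵁ U) : BFam N ξ U →+ BFam N ξ' U' where
  toFun s := BFam.mk (fun ζ φ h => s.v ζ (φ ≫ χ) ((inOp_comp_iff φ χ U).2 (h.mono hU)))
    (fun ζ' ζ ψ φ h => s.map_eq ψ _ _ _ _ (Category.assoc _ _ _).symm)
  map_zero' := rfl
  map_add' _ _ := rfl

@[simp] theorem BFam.pull_val {ξ' ξ : 𝒳.obj} (χ : ξ' ⟶ ξ) (U : (sch 𝒳 ξ).Opens) (U' : (sch 𝒳 ξ').Opens)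
    (hU : U' ≤ (bmap 𝒳 χ) ⁻¹ᵁ U) (s : BFam N ξ U) (ζ : C.cat.obj) (φ : ζ.obj ⟶ ξ') (h : InOp φ U') :
    (BFam.pull χ U U' hU s).v ζ φ h = s.v ζ (φ ≫ χ) ((inOp_comp_iff φ χ U).2 (h.mono hU)) := rfl

theorem BFam.pull_smul {ξ' ξ : 𝒳.obj} (χ : ξ' ⟶ ξ) (U : (sch 𝒳 ξ).Opens) (U' : (sch 𝒳 ξ').Opens)
    (hU : U' ≤ (bmap 𝒳 χ) ⁻¹ᵁ U) (r : Γ(sch 𝒳 ξ, U)) (s : BFam N ξ U) :
    BFam.pull χ U U' hU (r • s) = (bmap 𝒳 χ).appLE U U' hU r • BFam.pull χ U U' hU s := by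
  ext ζ φ h
  rw [BFam.pull_val, BFam.smul_val, BFam.smul_val, BFam.pull_val]
  congr 1
  have h1 := Scheme.Hom.appLE_comp_appLE (bmap 𝒳 φ) (bmap 𝒳 χ) U U' ⊤ hU h
  have h2 := congrArg (fun k => k.hom r) h1
  simp only [CommRingCat.hom_comp, RingHom.comp_apply] at h2
  refine Eq.trans ?_ h2.symm
  have : ∀ (g g' : sch 𝒳 ζ.obj ⟶ sch 𝒳 ξ) (e : g = g') (hg : ⊤ ≤ g ⁻¹ᵁ U) (hg' : ⊤ ≤ g' ⁻¹ᵁ U),
      g.appLE U ⊤ hg r = g'.appLE U ⊤ hg' r := by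
    rintro g g' rfl hg hg'
    rfl
  exact this _ _ (bmap_comp φ χ) _ _

theorem BFam.res_smul {ξ : 𝒳.obj} {U V : (sch 𝒳 ξ).Opens} (hVU : V ≤ U) (r : Γ(sch 𝒳 ξ, U))
    (s : BFam N ξ U) : BFam.res hVU (r • s) = (sch 𝒳 ξ).presheaf.map (homOfLE hVU).op r • BFam.res hVU s := by
  ext ζ φ h
  rw [BFam.res_val, BFam.smul_val, BFam.smul_val, BFam.res_val]
  congr 1
  have h1 := Scheme.Hom.map_appLE (bmap 𝒳 φ) h (homOfLE hVU).op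
  have h2 := congrArg (fun k => k.hom r) h1
  simp only [CommRingCat.hom_comp, RingHom.comp_apply] at h2
  exact h2.symm

/-- Evaluation of families at an object of `C.cat`. -/
def BFam.ev {ξ : C.cat.obj} : BFam N ξ.obj ⊤ →+ N.obj ξ where
  toFun s := s.v ξ (𝟙 ξ.obj) (inOp_top _)
  map_zero' := rfl
  map_add' _ _ := rfl

theorem BFam.ev_bijective {ξ : C.cat.obj} : Function.Bijective (BFam.ev (N := N) (ξ := ξ)) := by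
  constructor
  · intro s t hst
    ext ζ φ h
    let φ' : ζ ⟶ ξ := ObjectProperty.homMk φ
    rw [← s.map_eq φ' (𝟙 _) (inOp_top _) φ h (Category.comp_id _),
      ← t.map_eq φ' (𝟙 _) (inOp_top _) φ h (Category.comp_id _)]
    exact congrArg (N.map φ') hst
  · intro m
    refine ⟨BFam.mk (fun ζ φ _ => N.map (ObjectProperty.homMk φ : ζ ⟶ ξ) m) ?_, ?_⟩
    · intro ζ' ζ ψ φ h
      exact (N.map_comp ψ (ObjectProperty.homMk φ : ζ ⟶ ξ) m).symm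
    · exact N.map_id ξ m

section Loc

variable (C) in
/-- The object `ξ` lies Zariski locally in `C`. -/
def ZLoc (ξ : 𝒳.obj) : Prop := ∀ x : ↥(sch 𝒳 ξ), ∃ (ζ : C.cat.obj) (φ : ζ.obj ⟶ ξ)
  (_ : IsOpenImmersion (bmap 𝒳 φ)), x ∈ (bmap 𝒳 φ).opensRange

variable [hX : FibCat.IsFibGrpd 𝒳.p]

omit hX in
theorem zloc_of_mem (ξ : C.cat.obj) : ZLoc C ξ.obj := by
  intro x
  have h : bmap 𝒳 (𝟙 ξ.obj) = 𝟙 _ := bmap_id ξ.obj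
  refine ⟨ξ, 𝟙 _, by rw [h]; infer_instance, ?_⟩
  change x ∈ Set.range (bmap 𝒳 (𝟙 ξ.obj))
  rw [h]
  exact ⟨x, rfl⟩

theorem zloc_all (ξ : 𝒳.obj) : ZLoc (ASieve.all 𝒳) ξ := by
  intro x
  obtain ⟨V, hV, hxV, -⟩ := exists_isAffineOpen_mem_and_subset (X := sch 𝒳 ξ) (x := x) (U := ⊤) (Set.mem_univ x)
  obtain ⟨ζ, φ, h1, h2⟩ := Fib.exists_restr ξ V
  exact ⟨⟨ζ, Fib.isAffine_of_opensRange φ (by rw [h2]; exact hV)⟩, φ, h1, by rw [h2]; exact hxV⟩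

/-- Small affine neighbourhoods in `C`. -/
theorem ZLoc.exists_nhd {ξ : 𝒳.obj} (h : ZLoc C ξ) (U : (sch 𝒳 ξ).Opens) {x : ↥(sch 𝒳 ξ)} (hx : x ∈ U) :
    ∃ (ζ : C.cat.obj) (φ : ζ.obj ⟶ ξ) (_ : IsOpenImmersion (bmap 𝒳 φ)),
      x ∈ (bmap 𝒳 φ).opensRange ∧ (bmap 𝒳 φ).opensRange ≤ U := by
  obtain ⟨ζ, φ, h1, h2⟩ := h x
  obtain ⟨V, hV, hxV, hVU⟩ := exists_isAffineOpen_mem_and_subset (X := sch 𝒳 ξ) (x := x)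
    (U := (bmap 𝒳 φ).opensRange ⊓ U) ⟨h2, hx⟩
  obtain ⟨ζ', φ', h1', h2'⟩ := Fib.exists_restr ξ V
  obtain ⟨χ, hχ⟩ := Fib.exists_lift_open φ φ' (by
    intro y hy
    have : y ∈ (bmap 𝒳 φ').opensRange := hy
    rw [h2'] at this
    exact (hVU this).1)
  refine ⟨⟨ζ', C.down χ ζ.property (Fib.isAffine_of_opensRange φ' (by rw [h2']; exact hV))⟩, φ', h1', ?_, ?_⟩
  · rw [h2']; exact hxV
  · rw [h2']
    intro y hy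
    exact (hVU hy).2

theorem ZLoc.of_hom {ξ' ξ : 𝒳.obj} (h : ZLoc C ξ) (χ : ξ' ⟶ ξ) : ZLoc C ξ' := by
  intro x
  obtain ⟨ζ, φ, h1, h2⟩ := h (bmap 𝒳 χ x)
  obtain ⟨V, hV, hxV, hVU⟩ := exists_isAffineOpen_mem_and_subset (X := sch 𝒳 ξ') (x := x)
    (U := (bmap 𝒳 χ) ⁻¹ᵁ (bmap 𝒳 φ).opensRange) h2
  obtain ⟨ζ', φ', h1', h2'⟩ := Fib.exists_restr ξ' V
  obtain ⟨a, ha⟩ := Fib.exists_lift_open φ (φ' ≫ χ) (by
    rw [bmap_comp]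
    rintro _ ⟨y, rfl⟩
    have : bmap 𝒳 φ' y ∈ (bmap 𝒳 φ').opensRange := ⟨y, rfl⟩
    rw [h2'] at this
    exact hVU this)
  exact ⟨⟨ζ', C.down a ζ.property (Fib.isAffine_of_opensRange φ' (by rw [h2']; exact hV))⟩, φ', h1',
    by rw [h2']; exact hxV⟩

/-- The arrows to `ζ` which land, after `φ`, in one of the given family of arrows. -/
theorem zcov_of_zloc {ξ : 𝒳.obj} (h : ZLoc C ξ) {ι : Sort*} (U : (sch 𝒳 ξ).Opens) (W : ι → (sch 𝒳 ξ).Opens)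
    (hW : ∀ x ∈ U, ∃ i, x ∈ W i) (ζ : C.cat.obj) (φ : ζ.obj ⟶ ξ) (hφ : InOp φ U) :
    ZCov ζ (fun ζ' ψ => ∃ i, ∃ (η : C.cat.obj) (a : η.obj ⟶ ξ) (_ : IsOpenImmersion (bmap 𝒳 a))
      (χ : ζ' ⟶ η), InOp a (W i) ∧ χ.hom ≫ a = ψ.hom ≫ φ) where
  precomp := by
    rintro ζ'' ζ' b ψ ⟨i, η, a, ha, χ, h1, h2⟩
    refine ⟨i, η, a, ha, b ≫ χ, h1, ?_⟩
    change (b.hom ≫ χ.hom) ≫ a = (b.hom ≫ ψ.hom) ≫ φ
    rw [Category.assoc, h2, Category.assoc]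
  exists_open z := by
    obtain ⟨i, hi⟩ := hW _ (hφ.mem z)
    obtain ⟨η, a, ha, h1, h2⟩ := h.exists_nhd (W i) hi
    have hA := isAffine_sch C ζ
    have hz : z ∈ (bmap 𝒳 φ) ⁻¹ᵁ (bmap 𝒳 a).opensRange := h1
    obtain ⟨f, hf, hzf⟩ := (isAffineOpen_top (sch C.cat ζ)).exists_basicOpen_le ⟨z, hz⟩ (Set.mem_univ z)
    obtain ⟨ζ', ψ, h1', h2'⟩ := exists_restr_basic C ζ f
    refine ⟨ζ', ψ, h1', by rw [h2']; exact hzf, ?_⟩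
    obtain ⟨χ, hχ⟩ := Fib.exists_lift_open a (ψ.hom ≫ φ) (by
      rw [bmap_comp]
      rintro _ ⟨y, rfl⟩
      have : bmap C.cat ψ y ∈ (bmap C.cat ψ).opensRange := ⟨y, rfl⟩
      rw [h2'] at this
      exact hf this)
    refine ⟨i, η, a, ha, ObjectProperty.homMk χ, ?_, hχ⟩
    intro y _
    exact h2 ⟨y, rfl⟩

variable (N)

/-- Families are determined on small affine opens. -/
theorem BFam.eq_of_open (hN : N.IsCart) {ξ : 𝒳.obj} (h : ZLoc C ξ) {U : (sch 𝒳 ξ).Opens} {s t : BFam N ξ U}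
    (e : ∀ (η : C.cat.obj) (a : η.obj ⟶ ξ) (ha : InOp a U), IsOpenImmersion (bmap 𝒳 a) → s.v η a ha = t.v η a ha) :
    s = t := by
  ext ζ φ hφ
  refine zar_sep N hN (zcov_of_zloc h U (fun _ : Unit => U) (fun x hx => ⟨(), hx⟩) ζ φ hφ) _ _ ?_
  rintro ζ' ψ ⟨-, η, a, ha, χ, h1, h2⟩
  rw [s.map_eq ψ φ hφ (ψ.hom ≫ φ) (hφ.precomp _) rfl, t.map_eq ψ φ hφ (ψ.hom ≫ φ) (hφ.precomp _) rfl,
    ← s.map_eq χ a h1 (ψ.hom ≫ φ) (hφ.precomp _) h2, ← t.map_eq χ a h1 (ψ.hom ≫ φ) (hφ.precomp _) h2, e η a h1 ha]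

theorem small_bfam (hN : N.IsCart) {ξ : 𝒳.obj} (h : ZLoc C ξ) (U : (sch 𝒳 ξ).Opens) : Small.{u} (BFam N ξ U) := by
  let I := {V : (sch 𝒳 ξ).Opens // ∃ (η : C.cat.obj) (a : η.obj ⟶ ξ) (_ : IsOpenImmersion (bmap 𝒳 a)),
    InOp a U ∧ (bmap 𝒳 a).opensRange = V}
  choose η a ha h1 h2 using fun V : I => V.2
  refine small_of_injective (β := ∀ V : I, N.obj (η V)) (f := fun s V => s.v (η V) (a V) (h1 V)) ?_
  intro s t hst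
  refine BFam.eq_of_open N hN h fun η' a' h1' ha' => ?_
  let V : I := ⟨(bmap 𝒳 a').opensRange, η', a', ha', h1', rfl⟩
  have := ha V
  obtain ⟨χ, hχ⟩ := Fib.exists_lift_open (a V) a' (by
    intro y hy
    have : y ∈ (bmap 𝒳 (a V)).opensRange := by rw [h2 V]; exact hy
    exact this)
  let χ' : η' ⟶ η V := ObjectProperty.homMk χ
  rw [← s.map_eq χ' (a V) (h1 V) a' h1' hχ, ← t.map_eq χ' (a V) (h1 V) a' h1' hχ]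
  exact congrArg (N.map χ') (congrFun hst V)

/-- Gluing of families. -/
theorem BFam.glue (hN : N.IsCart) {ξ : 𝒳.obj} (h : ZLoc C ξ) {ι : Type*} (U : ι → (sch 𝒳 ξ).Opens)
    (s : ∀ i, BFam N ξ (U i))
    (hs : ∀ i j, BFam.res (inf_le_left : U i ⊓ U j ≤ U i) (s i) = BFam.res (inf_le_right : U i ⊓ U j ≤ U j) (s j)) :
    ∃! t : BFam N ξ (iSup U), ∀ i, BFam.res (le_iSup U i) t = s i := by
  have hcomp : ∀ i j (ζ : C.cat.obj) (φ : ζ.obj ⟶ ξ) (hi : InOp φ (U i)) (hj : InOp φ (U j)),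
      (s i).v ζ φ hi = (s j).v ζ φ hj := by
    intro i j ζ φ hi hj
    exact congrArg (fun t : BFam N ξ (U i ⊓ U j) => t.v ζ φ (hi.inf hj)) (hs i j)
  -- local existence
  have hloc : ∀ (ζ : C.cat.obj) (φ : ζ.obj ⟶ ξ) (_ : InOp φ (iSup U)),
      ∃ m : N.obj ζ, ∀ ⦃ζ' : C.cat.obj⦄ (ψ : ζ' ⟶ ζ) (i : ι) (hi : InOp (ψ.hom ≫ φ) (U i)),
        N.map ψ m = (s i).v ζ' (ψ.hom ≫ φ) hi := by
    intro ζ φ hφ
    have hcov : ZCov ζ (fun ζ' ψ => ∃ i, InOp (ψ.hom ≫ φ) (U i)) := by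
      refine ⟨?_, ?_⟩
      · rintro ζ'' ζ' b ψ ⟨i, hi⟩
        refine ⟨i, ?_⟩
        change InOp ((b.hom ≫ ψ.hom) ≫ φ) (U i)
        rw [Category.assoc]
        exact hi.precomp b.hom
      · intro z
        obtain ⟨ζ', ψ, h1, h2, i, η, a, ha, χ, h3, h4⟩ := (zcov_of_zloc h (iSup U) U (fun x hx => by
          simpa using Opens.mem_iSup.mp hx) ζ φ hφ).exists_open z
        refine ⟨ζ', ψ, h1, h2, i, ?_⟩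
        rw [← h4]
        exact h3.precomp _
    obtain ⟨m, hm⟩ := zar_glue N hN hcov (fun ζ' ψ hψ => (s hψ.choose).v ζ' (ψ.hom ≫ φ) hψ.choose_spec) (by
      intro ζ'' ζ' χ ψ hψ hψ'
      rw [(s hψ.choose).map_eq χ (ψ.hom ≫ φ) hψ.choose_spec ((χ ≫ ψ).hom ≫ φ)
        (by
          change InOp ((χ.hom ≫ ψ.hom) ≫ φ) _
          rw [Category.assoc]
          exact hψ.choose_spec.precomp χ.hom) (Category.assoc _ _ _).symm]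
      exact hcomp _ _ _ _ _ _)
    refine ⟨m, fun ζ' ψ i hi => ?_⟩
    rw [hm ψ ⟨i, hi⟩]
    exact hcomp _ _ _ _ _ _
  choose m hm using hloc
  have hsep : ∀ (ζ : C.cat.obj) (φ : ζ.obj ⟶ ξ) (_ : InOp φ (iSup U)) (m₁ m₂ : N.obj ζ),
      (∀ ⦃ζ' : C.cat.obj⦄ (ψ : ζ' ⟶ ζ) (i : ι) (_ : InOp (ψ.hom ≫ φ) (U i)), N.map ψ m₁ = N.map ψ m₂) →
        m₁ = m₂ := by
    intro ζ φ hφ m₁ m₂ h12
    refine zar_sep N hN (zcov_of_zloc h (iSup U) U (fun x hx => by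
          simpa using Opens.mem_iSup.mp hx) ζ φ hφ) _ _ ?_
    rintro ζ' ψ ⟨i, η, a, ha, χ, h3, h4⟩
    refine h12 ψ i ?_
    rw [← h4]
    exact h3.precomp _
  refine ⟨BFam.mk (fun ζ φ hφ => m ζ φ hφ) ?_, ?_, ?_⟩
  · intro ζ' ζ ψ φ hφ
    refine hsep ζ' (ψ.hom ≫ φ) (hφ.precomp _) _ _ ?_
    intro ζ'' χ i hi
    have hi' : InOp ((χ ≫ ψ).hom ≫ φ) (U i) := by
      change InOp ((χ.hom ≫ ψ.hom) ≫ φ) (U i)
      rw [Category.assoc]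
      exact hi
    rw [← N.map_comp, hm ζ φ hφ (χ ≫ ψ) i hi', hm ζ' (ψ.hom ≫ φ) (hφ.precomp _) χ i hi]
    exact (s i).congr (Category.assoc _ _ _) _
  · intro i
    ext ζ φ hφ
    have := hm ζ φ (hφ.mono (le_iSup U i)) (𝟙 ζ) i (by
      change InOp (𝟙 ζ.obj ≫ φ) (U i)
      rw [Category.id_comp]
      exact hφ)
    rw [N.map_id] at this
    refine this.trans ?_
    exact (s i).congr (Category.id_comp _) _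
  · intro t ht
    ext ζ φ hφ
    refine hsep ζ φ hφ _ _ ?_
    intro ζ' ψ i hi
    rw [BFam.mk_v, hm ζ φ hφ ψ i hi, ← ht i, t.map_eq ψ φ hφ (ψ.hom ≫ φ) (hφ.precomp _) rfl]
    rfl

end Loc

end K908.Fam
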