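import Groth.Agent.StMod.K908.BC
import Groth.Prelude.Def_W4c1tameactTame
import Groth.Prelude.Def_CoactBr

/-!
# Twisting semilinear maps out of a relative Hopf module by points of the group
-/

set_option autoImplicit false
set_option linter.unusedVariables false
set_option linter.style.haveILetI false
set_option backward.isDefEq.respectTransparency false
set_option backward.isDefEq.respectTransparency.types false
set_option linter.dupNamespace false
set_option linter.unusedSectionVars false

universe u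

open CategoryTheory AlgebraicGeometry
open Groth.Agent.CohqA.BaseChangeMod
open scoped TensorProduct

namespace K908.HopfBC

section Tens

variable {R A Q : Type u} [CommRing R] [CommRing A] [Algebra R A] [CommRing Q] [Algebra R Q]
  {M P P' : Type u} [AddCommGroup M] [Module R M] [AddCommGroup P] [Module Q P] [AddCommGroup P'] [Module Q P']

/-- The map `M ⊗ A ⟶ P`, `m ⊗ a ↦ g(a) ι(m)`. -/
noncomputable def ten (g : A →ₐ[R] Q) (ι : M →+ P) (hι : ∀ (r : R) (m : M), ι (r • m) = algebraMap R Q r • ι m) :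
    M ⊗[R] A →+ P :=
  TensorProduct.liftAddHom
    { toFun := fun m =>
        { toFun := fun a => g a • ι m
          map_zero' := by rw [map_zero, zero_smul]
          map_add' := fun a b => by rw [map_add, add_smul] }
      map_zero' := by ext a; simp
      map_add' := fun m m' => by ext a; simp }
    (fun r m a => by
      change g a • ι (r • m) = g (r • a) • ι m
      rw [hι, map_smul, Algebra.smul_def, smul_smul, mul_comm])

theorem ten_tmul (g : A →ₐ[R] Q) (ι : M →+ P) (hι : ∀ (r : R) (m : M), ι (r • m) = algebraMap R Q r • ι m)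
    (m : M) (a : A) : ten g ι hι (m ⊗ₜ a) = g a • ι m := rfl

end Tens

section Tw

variable {R A Q Q' : Type u} [CommRing R] [CommRing A] [HopfAlgebra R A] [CommRing Q] [Algebra R Q] [CommRing Q']
  [Algebra R Q'] {B : Type u} [CommRing B] [Algebra R B] [HopfRep.Comod R A B] [GLin.IsCoactAlg R A B]
  {M M' P P' T : Type u} [AddCommGroup M] [Module R M] [HopfRep.Comod R A M] [AddCommGroup P] [Module Q P]
  [AddCommGroup P'] [Module Q' P'] [AddCommGroup T] [Module Q T]
  [AddCommGroup M'] [Module R M'] [HopfRep.Comod R A M']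

/-- Linearity over `R` of a map to a module over an `R`-algebra. -/
def RLin (R Q : Type u) [CommRing R] [CommRing Q] [Algebra R Q] {M P : Type u} [AddCommGroup M] [Module R M]
    [AddCommGroup P] [Module Q P] (ι : M →+ P) : Prop :=
  ∀ (r : R) (m : M), ι (r • m) = algebraMap R Q r • ι m

/-- The twist of a map by a point of the group: `m ↦ Σ g(m₁) ι(m₀)`. -/
noncomputable def tw (g : A →ₐ[R] Q) (ι : M →+ P) (hι : RLin R Q ι) : M →+ P :=
  (ten g ι hι).comp (HopfRep.Comod.coact (k := R) (A := A) (V := M)).toAddMonoidHom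

theorem tw_apply (g : A →ₐ[R] Q) (ι : M →+ P) (hι : RLin R Q ι) (m : M) :
    tw g ι hι m = ten g ι hι (HopfRep.Comod.coact (k := R) (A := A) m) := rfl

omit [HopfRep.Comod R A M] in
theorem ten_rlin (g : A →ₐ[R] Q) (ι : M →+ P) (hι : RLin R Q ι) (r : R) (z : M ⊗[R] A) :
    ten g ι hι (r • z) = algebraMap R Q r • ten g ι hι z := by
  induction z with
  | zero => simp
  | add x y hx hy => rw [smul_add, map_add, hx, hy, map_add, smul_add]
  | tmul m a =>
    rw [TensorProduct.smul_tmul', ten_tmul, ten_tmul, hι, smul_comm]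

theorem rlin_tw (g : A →ₐ[R] Q) (ι : M →+ P) (hι : RLin R Q ι) : RLin R Q (tw g ι hι) := by
  intro r m
  rw [tw_apply, map_smul, ten_rlin, tw_apply]

omit [HopfRep.Comod R A M] in
/-- Naturality in the target. -/
theorem ten_nat (σ : Q →ₐ[R] Q') (L : P →+ P') (hL : ∀ (q : Q) (x : P), L (q • x) = σ q • L x)
    (g : A →ₐ[R] Q) (ι : M →+ P) (hι : RLin R Q ι) (hι' : RLin R Q' (L.comp ι)) (z : M ⊗[R] A) :
    L (ten g ι hι z) = ten (σ.comp g) (L.comp ι) hι' z := by
  induction z with
  | zero => simp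
  | add x y hx hy => rw [map_add, map_add, map_add, hx, hy]
  | tmul m a => rw [ten_tmul, ten_tmul, hL]; rfl

omit [HopfRep.Comod R A M] in
theorem rlin_comp (σ : Q →ₐ[R] Q') (L : P →+ P') (hL : ∀ (q : Q) (x : P), L (q • x) = σ q • L x)
    (ι : M →+ P) (hι : RLin R Q ι) : RLin R Q' (L.comp ι) := by
  intro r m
  change L (ι (r • m)) = _
  rw [hι, hL, AlgHom.commutes]
  rfl

theorem tw_nat (σ : Q →ₐ[R] Q') (L : P →+ P') (hL : ∀ (q : Q) (x : P), L (q • x) = σ q • L x)
    (g : A →ₐ[R] Q) (ι : M →+ P) (hι : RLin R Q ι) (hι' : RLin R Q' (L.comp ι)) (m : M) :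
    L (tw g ι hι m) = tw (σ.comp g) (L.comp ι) hι' m :=
  ten_nat σ L hL g ι hι hι' _

theorem tw_linear (L : P →ₗ[Q] T) (g : A →ₐ[R] Q) (ι : M →+ P) (hι : RLin R Q ι)
    (hι' : RLin R Q (L.toAddMonoidHom.comp ι)) (m : M) :
    L (tw g ι hι m) = tw g (L.toAddMonoidHom.comp ι) hι' m :=
  tw_nat (AlgHom.id R Q) L.toAddMonoidHom (fun q x => L.map_smul q x) g ι hι hι' m

/-- Naturality in the source. -/
theorem tw_hom (f : M →ₗ[R] M') (hf : Hoch.IsComodHom A f) (g : A →ₐ[R] Q) (ι : M' →+ P) (hι : RLin R Q ι)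
    (hι' : RLin R Q (ι.comp f.toAddMonoidHom)) (m : M) :
    tw g ι hι (f m) = tw g (ι.comp f.toAddMonoidHom) hι' m := by
  rw [tw_apply, tw_apply]
  have h1 : HopfRep.Comod.coact (k := R) (A := A) (f m) = f.rTensor A (HopfRep.Comod.coact (k := R) (A := A) m) :=
    LinearMap.congr_fun hf m
  rw [h1]
  generalize HopfRep.Comod.coact (k := R) (A := A) m = z
  induction z with
  | zero => simp
  | add x y hx hy => rw [map_add, map_add, map_add, hx, hy]
  | tmul m a => rfl

/-- Fixed vectors are not moved. -/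
theorem tw_of_fixed (g : A →ₐ[R] Q) (ι : M →+ P) (hι : RLin R Q ι) {m : M} (hm : m ∈ HopfRep.fixedPts R A M) :
    tw g ι hι m = ι m := by
  have h1 : HopfRep.Comod.coact (k := R) (A := A) m = m ⊗ₜ[R] (1 : A) := hm
  rw [tw_apply, h1, ten_tmul, map_one, one_smul]

theorem tw_congr {g g' : A →ₐ[R] Q} {ι ι' : M →+ P} (hι : RLin R Q ι) (hι' : RLin R Q ι') (hg : g = g') (h : ι = ι')
    (m : M) : tw g ι hι m = tw g' ι' hι' m := by
  subst hg; subst h; rfl

theorem tw_one (ι : M →+ P) (hι : RLin R Q ι) (m : M) :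
    tw ((Algebra.ofId R Q).comp (Bialgebra.counitAlgHom R A)) ι hι m = ι m := by
  have h1 := LinearMap.congr_fun (HopfRep.Comod.counit_comp (k := R) (A := A) (V := M)) m
  have h2 : ∀ z : M ⊗[R] A, ten ((Algebra.ofId R Q).comp (Bialgebra.counitAlgHom R A)) ι hι z =
      ι (TensorProduct.rid R M ((CoalgebraStruct.counit (R := R) (A := A)).lTensor M z)) := by
    intro z
    induction z with
    | zero => simp
    | add x y hx hy => rw [map_add, map_add, map_add, map_add, hx, hy]
    | tmul m a =>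
      rw [ten_tmul, LinearMap.lTensor_tmul, TensorProduct.rid_tmul, hι]
      rfl
  rw [tw_apply, h2]
  have h3 : (CoalgebraStruct.counit (R := R) (A := A)).lTensor M (HopfRep.Comod.coact (k := R) (A := A) m) =
      m ⊗ₜ[R] (1 : R) := h1
  rw [h3, TensorProduct.rid_tmul, one_smul]

/-- The product of two points. -/
noncomputable def gmul (g h : A →ₐ[R] Q) : A →ₐ[R] Q :=
  (Algebra.TensorProduct.lift g h fun _ _ => .all _ _).comp (Bialgebra.comulAlgHom R A)

theorem tw_tw (g h : A →ₐ[R] Q) (ι : M →+ P) (hι : RLin R Q ι) (hι' : RLin R Q (tw g ι hι)) (m : M) :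
    tw h (tw g ι hι) hι' m = tw (gmul g h) ι hι m := by
  have h1 := LinearMap.congr_fun (HopfRep.Comod.coassoc (k := R) (A := A) (V := M)) m
  -- the common map out of `M ⊗ (A ⊗ A)`
  let K : M ⊗[R] (A ⊗[R] A) →+ P :=
    ten (Algebra.TensorProduct.lift g h fun _ _ => .all _ _ : A ⊗[R] A →ₐ[R] Q) ι hι
  have h2 : ∀ z : M ⊗[R] A, ten h (tw g ι hι) hι' z =
      K (TensorProduct.assoc R M A A ((HopfRep.Comod.coact (k := R) (A := A) (V := M)).rTensor A z)) := by
    intro z
    induction z with
    | zero => simp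
    | add x y hx hy => rw [map_add, map_add, map_add, map_add, hx, hy]
    | tmul m a =>
      rw [ten_tmul, LinearMap.rTensor_tmul, tw_apply]
      generalize HopfRep.Comod.coact (k := R) (A := A) m = w
      induction w with
      | zero => simp
      | add x y hx hy => rw [map_add, smul_add, hx, hy, TensorProduct.add_tmul, map_add, map_add]
      | tmul m b =>
        rw [ten_tmul, TensorProduct.assoc_tmul]
        change h a • g b • ι m = (Algebra.TensorProduct.lift g h fun _ _ => .all _ _ : A ⊗[R] A →ₐ[R] Q) (b ⊗ₜ a) • ι m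
        rw [Algebra.TensorProduct.lift_tmul, smul_smul, mul_comm]
  have h3 : ∀ z : M ⊗[R] A, ten (gmul g h) ι hι z = K ((CoalgebraStruct.comul (R := R) (A := A)).lTensor M z) := by
    intro z
    induction z with
    | zero => simp
    | add x y hx hy => rw [map_add, map_add, map_add, hx, hy]
    | tmul m a => rfl
  rw [tw_apply, tw_apply, h2, h3]
  exact congrArg K h1

/-- The point moved by the group. -/
noncomputable def pact (x : B →ₐ[R] Q) (g : A →ₐ[R] Q) : B →ₐ[R] Q :=
  (Algebra.TensorProduct.lift x g fun _ _ => .all _ _).comp (GLin.coactAlgHom R A B)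

section Mod

variable [Module B M] [IsScalarTower R B M] [TameAct.IsHopfMod R A B M]
  [Module B M'] [IsScalarTower R B M'] [TameAct.IsHopfMod R A B M']

theorem rlin_of_semi (x : B →ₐ[R] Q) (ι : M →+ P) (h : ∀ (b : B) (m : M), ι (b • m) = x b • ι m) : RLin R Q ι := by
  intro r m
  rw [← algebraMap_smul B r m, h, AlgHom.commutes]

theorem tw_semi (x : B →ₐ[R] Q) (g : A →ₐ[R] Q) (ι : M →+ P) (h : ∀ (b : B) (m : M), ι (b • m) = x b • ι m)
    (hι : RLin R Q ι) (b : B) (m : M) : tw g ι hι (b • m) = pact x g b • tw g ι hι m := by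
  rw [tw_apply, tw_apply, TameAct.IsHopfMod.coact_smul]
  have h1 : pact x g b = (Algebra.TensorProduct.lift x g fun _ _ => .all _ _ : B ⊗[R] A →ₐ[R] Q)
      (HopfRep.Comod.coact (k := R) (A := A) b) := rfl
  rw [h1]
  generalize HopfRep.Comod.coact (k := R) (A := A) b = z
  generalize HopfRep.Comod.coact (k := R) (A := A) m = w
  induction z with
  | zero => simp
  | add x y hx hy => rw [map_add, LinearMap.add_apply, map_add, hx, hy, map_add, add_smul]
  | tmul b a =>
    induction w with
    | zero => simp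
    | add x y hx hy => rw [map_add, map_add, hx, hy, map_add, smul_add]
    | tmul m a' =>
      rw [TameAct.hmSMul_tmul, ten_tmul, ten_tmul, h, Algebra.TensorProduct.lift_tmul, map_mul, smul_smul, smul_smul]
      congr 1
      ring

theorem gmul_inv (g : A →ₐ[R] Q) :
    gmul g (g.comp (HopfAlgebra.antipodeAlgHom R A)) = (Algebra.ofId R Q).comp (Bialgebra.counitAlgHom R A) := by
  apply AlgHom.ext
  intro a
  change (Algebra.TensorProduct.lift g (g.comp (HopfAlgebra.antipodeAlgHom R A)) fun _ _ => .all _ _)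
    (CoalgebraStruct.comul (R := R) a) = algebraMap R Q (CoalgebraStruct.counit (R := R) a)
  have h1 := congrArg g (HopfAlgebra.mul_antipode_lTensor_comul_apply (R := R) a)
  rw [AlgHom.commutes] at h1
  rw [← h1]
  generalize CoalgebraStruct.comul (R := R) a = z
  induction z with
  | zero => simp
  | add x y hx hy => rw [map_add, map_add, map_add, map_add, hx, hy]
  | tmul a b =>
    rw [Algebra.TensorProduct.lift_tmul, LinearMap.lTensor_tmul, LinearMap.mul'_apply, map_mul]
    rfl

theorem inv_gmul (g : A →ₐ[R] Q) :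
    gmul (g.comp (HopfAlgebra.antipodeAlgHom R A)) g = (Algebra.ofId R Q).comp (Bialgebra.counitAlgHom R A) := by
  apply AlgHom.ext
  intro a
  change (Algebra.TensorProduct.lift (g.comp (HopfAlgebra.antipodeAlgHom R A)) g fun _ _ => .all _ _)
    (CoalgebraStruct.comul (R := R) a) = algebraMap R Q (CoalgebraStruct.counit (R := R) a)
  have h1 := congrArg g (HopfAlgebra.mul_antipode_rTensor_comul_apply (R := R) a)
  rw [AlgHom.commutes] at h1
  rw [← h1]
  generalize CoalgebraStruct.comul (R := R) a = z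
  induction z with
  | zero => simp
  | add x y hx hy => rw [map_add, map_add, map_add, map_add, hx, hy]
  | tmul a b =>
    rw [Algebra.TensorProduct.lift_tmul, LinearMap.rTensor_tmul, LinearMap.mul'_apply, map_mul]
    rfl

theorem tw_inv_tw (g : A →ₐ[R] Q) (ι : M →+ P) (hι : RLin R Q ι) (h1 : RLin R Q (tw g ι hι)) (m : M) :
    tw (g.comp (HopfAlgebra.antipodeAlgHom R A)) (tw g ι hι) h1 m = ι m := by
  rw [tw_tw, gmul_inv, tw_one]

theorem tw_tw_inv (g : A →ₐ[R] Q) (ι : M →+ P) (hι : RLin R Q ι)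
    (h1 : RLin R Q (tw (g.comp (HopfAlgebra.antipodeAlgHom R A)) ι hι)) (m : M) :
    tw g (tw (g.comp (HopfAlgebra.antipodeAlgHom R A)) ι hι) h1 m = ι m := by
  rw [tw_tw, inv_gmul, tw_one]

theorem pact_pact (x : B →ₐ[R] Q) (g h : A →ₐ[R] Q) : pact (pact x g) h = pact x (gmul g h) := by
  have hx : RLin R Q (x : B →+* Q).toAddMonoidHom := by
    intro r m
    change x (r • m) = _
    rw [map_smul, Algebra.smul_def]
    rfl
  have e : ∀ (y : B →ₐ[R] Q) (hy : RLin R Q (y : B →+* Q).toAddMonoidHom) (g : A →ₐ[R] Q) (b : B),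
      pact y g b = tw (M := B) (P := Q) g (y : B →+* Q).toAddMonoidHom hy b := by
    intro y hy g b
    rw [tw_apply]
    change (Algebra.TensorProduct.lift y g fun _ _ => .all _ _ : B ⊗[R] A →ₐ[R] Q)
      (HopfRep.Comod.coact (k := R) (A := A) b) = _
    generalize HopfRep.Comod.coact (k := R) (A := A) b = z
    induction z with
    | zero => simp
    | add x y hx hy => rw [map_add, hx, hy, map_add]
    | tmul b a =>
      rw [Algebra.TensorProduct.lift_tmul, ten_tmul, mul_comm]
      rfl
  apply AlgHom.ext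
  intro b
  have hxg : RLin R Q ((pact x g : B →ₐ[R] Q) : B →+* Q).toAddMonoidHom := by
    intro r m
    change pact x g (r • m) = _
    rw [map_smul, Algebra.smul_def]
    rfl
  rw [e _ hxg, e _ hx, ← tw_tw g h _ hx (rlin_tw _ _ _)]
  refine tw_congr _ _ rfl ?_ b
  ext b
  exact e x hx g b

theorem pact_one (x : B →ₐ[R] Q) : pact x ((Algebra.ofId R Q).comp (Bialgebra.counitAlgHom R A)) = x := by
  apply AlgHom.ext
  intro b
  have h1 := LinearMap.congr_fun (HopfRep.Comod.counit_comp (k := R) (A := A) (V := B)) b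
  have h2 : ∀ z : B ⊗[R] A, (Algebra.TensorProduct.lift x ((Algebra.ofId R Q).comp (Bialgebra.counitAlgHom R A))
      fun _ _ => .all _ _ : B ⊗[R] A →ₐ[R] Q) z =
      x (TensorProduct.rid R B ((CoalgebraStruct.counit (R := R) (A := A)).lTensor B z)) := by
    intro z
    induction z with
    | zero => simp
    | add x y hx hy => rw [map_add, map_add, map_add, map_add, hx, hy]
    | tmul m a =>
      rw [Algebra.TensorProduct.lift_tmul, LinearMap.lTensor_tmul, TensorProduct.rid_tmul, map_smul,
        Algebra.smul_def, mul_comm]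
      rfl
  change (Algebra.TensorProduct.lift x ((Algebra.ofId R Q).comp (Bialgebra.counitAlgHom R A))
      fun _ _ => .all _ _ : B ⊗[R] A →ₐ[R] Q) (HopfRep.Comod.coact (k := R) (A := A) b) = x b
  rw [h2]
  have h3 : (CoalgebraStruct.counit (R := R) (A := A)).lTensor B (HopfRep.Comod.coact (k := R) (A := A) b) =
      b ⊗ₜ[R] (1 : R) := h1
  rw [h3, TensorProduct.rid_tmul, one_smul]

/-- Twisting a base change along a point gives a base change along the moved point. -/
theorem isBC_tw (x : B →ₐ[R] Q) (g : A →ₐ[R] Q) (ι : M →+ P) (h : IsBC (x : B →+* Q) ι) (hι : RLin R Q ι) :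
    IsBC ((pact x g : B →ₐ[R] Q) : B →+* Q) (tw g ι hι) := by
  refine ⟨fun b m => tw_semi x g ι h.map_smul hι b m, ?_⟩
  intro T _ _ t ht
  have ht' : RLin R Q t := rlin_of_semi (pact x g) t ht
  have hs : ∀ (b : B) (m : M), tw (g.comp (HopfAlgebra.antipodeAlgHom R A)) t ht' (b • m) =
      x b • tw (g.comp (HopfAlgebra.antipodeAlgHom R A)) t ht' m := by
    intro b m
    rw [tw_semi (pact x g) _ t ht ht', pact_pact, gmul_inv, pact_one]
  obtain ⟨L, hL, hu⟩ := h.lift T (tw (g.comp (HopfAlgebra.antipodeAlgHom R A)) t ht') hs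
  refine ⟨L, ?_, ?_⟩
  · intro m
    have h1 : RLin R Q (L.toAddMonoidHom.comp ι) := rlin_comp (AlgHom.id R Q) L.toAddMonoidHom
      (fun q x => L.map_smul q x) ι hι
    rw [tw_linear L g ι hι h1]
    refine (tw_congr h1 (rlin_tw _ _ ht') rfl (AddMonoidHom.ext hL) m).trans ?_
    rw [tw_tw_inv]
  · intro L' hL'
    apply hu
    intro m
    have h1 : RLin R Q (L'.toAddMonoidHom.comp (tw g ι hι)) := rlin_comp (AlgHom.id R Q) L'.toAddMonoidHom
      (fun q x => L'.map_smul q x) _ (rlin_tw _ _ _)
    have h2 := tw_linear L' (g.comp (HopfAlgebra.antipodeAlgHom R A)) (tw g ι hι) (rlin_tw _ _ _) h1 m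
    rw [tw_inv_tw] at h2
    rw [h2]
    exact tw_congr h1 ht' rfl (AddMonoidHom.ext hL') m

end Mod

end Tw

/-- Extension of a semilinear map along a base change. -/
theorem exists_semi {A B C : Type u} [CommRing A] [CommRing B] [CommRing C] {M N P : Type u}
    [AddCommGroup M] [Module A M] [AddCommGroup N] [Module B N] [AddCommGroup P] [Module C P]
    {φ : A →+* B} {f : M →+ N} (h : IsBC φ f) (ψ : B →+* C) (t : M →+ P)
    (ht : ∀ (r : A) (x : M), t (r • x) = ψ (φ r) • t x) :
    ∃ t' : N →+ P, (∀ (r : B) (x : N), t' (r • x) = ψ r • t' x) ∧ ∀ x, t' (f x) = t x := by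
  letI : Module B P := Module.compHom P ψ
  obtain ⟨t', ht', -⟩ := h.lift P t ht
  exact ⟨t'.toAddMonoidHom, fun r x => t'.map_smul r x, ht'⟩

theorem semi_ext {A B C : Type u} [CommRing A] [CommRing B] [CommRing C] {M N P : Type u}
    [AddCommGroup M] [Module A M] [AddCommGroup N] [Module B N] [AddCommGroup P] [Module C P]
    {φ : A →+* B} {f : M →+ N} (h : IsBC φ f) (ψ : B →+* C) (t t' : N →+ P)
    (ht : ∀ (r : B) (x : N), t (r • x) = ψ r • t x) (ht' : ∀ (r : B) (x : N), t' (r • x) = ψ r • t' x)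
    (e : ∀ x, t (f x) = t' (f x)) : t = t' := by
  letI : Module B P := Module.compHom P ψ
  let t₁ : N →ₗ[B] P := { t with map_smul' := ht }
  let t₂ : N →ₗ[B] P := { t' with map_smul' := ht' }
  have : t₁ = t₂ := h.hom_ext e
  ext x
  exact LinearMap.congr_fun this x

end K908.HopfBC
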