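import Groth.Agent.StMod.K908.HopfBC

/-!
# Relative Hopf modules from descent-type data
-/

set_option autoImplicit false
set_option linter.unusedVariables false
set_option linter.style.haveILetI false
set_option backward.isDefEq.respectTransparency false
set_option backward.isDefEq.respectTransparency.types false
set_option linter.dupNamespace false
set_option linter.unusedSectionVars false

universe u

open CategoryTheory AlgebraicGeometry
open Groth.Agent.CohqA.BaseChangeMod
open scoped TensorProduct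

namespace K908.HopfDat

open K908.HopfBC

/-- Descent-type data: two maps `p, q : M ⟶ M₁`, three maps `M₁ ⟶ M₂` and a retraction. -/
structure CDat (R A Q Q1 Q2 M M1 M2 : Type u) [CommRing R] [CommRing A] [HopfAlgebra R A]
    [CommRing Q] [Algebra R Q] [CommRing Q1] [Algebra R Q1] [CommRing Q2] [Algebra R Q2]
    [AddCommGroup M] [Module R M] [Module Q M] [IsScalarTower R Q M]
    [AddCommGroup M1] [Module R M1] [Module Q1 M1] [IsScalarTower R Q1 M1] [AddCommGroup M2] [Module Q2 M2] where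
  γ : A →ₐ[R] Q1
  g' : A →ₐ[R] Q2
  p : M →+ M1
  q : M →+ M1
  hp : RLin R Q1 p
  hq : RLin R Q1 q
  σ1 : Q1 →ₐ[R] Q2
  σ2 : Q1 →ₐ[R] Q2
  σ3 : Q1 →ₐ[R] Q2
  ε : Q1 →ₐ[R] Q
  r1 : M1 →+ M2
  r2 : M1 →+ M2
  r3 : M1 →+ M2
  e : M1 →+ M
  h1 : ∀ (c : Q1) (x : M1), r1 (c • x) = σ1 c • r1 x
  h2 : ∀ (c : Q1) (x : M1), r2 (c • x) = σ2 c • r2 x
  h3 : ∀ (c : Q1) (x : M1), r3 (c • x) = σ3 c • r3 x
  he : ∀ (c : Q1) (x : M1), e (c • x) = ε c • e x
  r1q : ∀ m, r1 (q m) = r2 (q m)
  r1p : ∀ m, r1 (p m) = r3 (p m)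
  r2p : ∀ m, r2 (p m) = r3 (q m)
  ep : ∀ m, e (p m) = m
  eq' : ∀ m, e (q m) = m
  σ1γ : ∀ a, σ1 (γ a) = gmul (σ3.comp γ) g' a
  σ2γ : ∀ a, σ2 (γ a) = g' a
  εγ : ∀ a, ε (γ a) = algebraMap R Q (CoalgebraStruct.counit (R := R) a)
  bij : Function.Bijective (ten γ p hp)
  inj : ∀ (x y : M1 ⊗[R] A), ten g' r3 (fun r m => by rw [← algebraMap_smul Q1 r m, h3, AlgHom.commutes]) x =
    ten g' r3 (fun r m => by rw [← algebraMap_smul Q1 r m, h3, AlgHom.commutes]) y → x = y

namespace CDat

variable {R A Q Q1 Q2 M M1 M2 : Type u} [CommRing R] [CommRing A] [HopfAlgebra R A]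
    [CommRing Q] [Algebra R Q] [CommRing Q1] [Algebra R Q1] [CommRing Q2] [Algebra R Q2]
    [AddCommGroup M] [Module R M] [Module Q M] [IsScalarTower R Q M]
    [AddCommGroup M1] [Module R M1] [Module Q1 M1] [IsScalarTower R Q1 M1] [AddCommGroup M2] [Module Q2 M2]
    (D : CDat R A Q Q1 Q2 M M1 M2)

/-- The coaction as an additive map. -/
noncomputable def co : M →+ M ⊗[R] A :=
  (AddEquiv.ofBijective (ten D.γ D.p D.hp) D.bij).symm.toAddMonoidHom.comp D.q

theorem ten_co (m : M) : ten D.γ D.p D.hp (D.co m) = D.q m :=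
  (AddEquiv.ofBijective (ten D.γ D.p D.hp) D.bij).apply_symm_apply (D.q m)

/-- The coaction. -/
noncomputable def coact : M →ₗ[R] M ⊗[R] A :=
  { D.co with
    map_smul' := fun r m => by
      apply D.bij.1
      change ten D.γ D.p D.hp (D.co (r • m)) = ten D.γ D.p D.hp (r • D.co m)
      rw [ten_co, ten_rlin, ten_co, D.hq] }

theorem ten_coact (m : M) : ten D.γ D.p D.hp (D.coact m) = D.q m := D.ten_co m

theorem rlin3 : RLin R Q2 D.r3 :=
  fun r m => by rw [← algebraMap_smul Q1 r m, D.h3, AlgHom.commutes]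

theorem rlin3p : RLin R Q2 (D.r3.comp D.p) := rlin_comp D.σ3 D.r3 D.h3 D.p D.hp

/-- The map out of `M ⊗ (A ⊗ A)`. -/
noncomputable def K : M ⊗[R] (A ⊗[R] A) →+ M2 :=
  ten (Algebra.TensorProduct.lift (D.σ3.comp D.γ) D.g' fun _ _ => .all _ _ : A ⊗[R] A →ₐ[R] Q2) (D.r3.comp D.p) D.rlin3p

/-- The map `M ⊗ A ⟶ M₁`. -/
noncomputable def L : M ⊗[R] A →ₗ[R] M1 :=
  { ten D.γ D.p D.hp with
    map_smul' := fun r x =>
      (ten_rlin D.γ D.p D.hp r x).trans (algebraMap_smul Q1 r (ten D.γ D.p D.hp x)) }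

theorem L_apply (x : M ⊗[R] A) : D.L x = ten D.γ D.p D.hp x := rfl

theorem K_assoc (z : (M ⊗[R] A) ⊗[R] A) :
    D.K (TensorProduct.assoc R M A A z) = ten D.g' D.r3 D.rlin3 (D.L.rTensor A z) := by
  induction z with
  | zero => simp
  | add x y hx hy => rw [map_add, map_add, map_add, map_add, hx, hy]
  | tmul w b =>
    rw [LinearMap.rTensor_tmul, ten_tmul, L_apply]
    induction w with
    | zero => simp
    | add x y hx hy => rw [TensorProduct.add_tmul, map_add, map_add, map_add, map_add, smul_add, hx, hy]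
    | tmul m a =>
      rw [TensorProduct.assoc_tmul, ten_tmul, D.h3]
      change (Algebra.TensorProduct.lift (D.σ3.comp D.γ) D.g' fun _ _ => .all _ _ : A ⊗[R] A →ₐ[R] Q2) (a ⊗ₜ b) •
        D.r3 (D.p m) = _
      rw [Algebra.TensorProduct.lift_tmul, mul_comm, mul_smul]
      rfl

theorem K_injective : Function.Injective D.K := by
  have h1 : Function.Injective (D.L.rTensor A) :=
    ((LinearEquiv.ofBijective D.L D.bij).rTensor A).injective
  intro x y hxy
  obtain ⟨x, rfl⟩ := (TensorProduct.assoc R M A A).surjective x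
  obtain ⟨y, rfl⟩ := (TensorProduct.assoc R M A A).surjective y
  rw [D.K_assoc, D.K_assoc] at hxy
  exact congrArg _ (h1 (D.inj _ _ hxy))

/-- The comodule. -/
@[reducible] noncomputable def comod : HopfRep.Comod R A M where
  coact := D.coact
  coassoc := by
    ext m
    apply D.K_injective
    change D.K (TensorProduct.assoc R M A A (D.coact.rTensor A (D.coact m))) =
      D.K ((CoalgebraStruct.comul (R := R) (A := A)).lTensor M (D.coact m))
    have e1 : ∀ z : M ⊗[R] A, D.K (TensorProduct.assoc R M A A (D.coact.rTensor A z)) =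
        D.r2 (ten D.γ D.p D.hp z) := by
      intro z
      induction z with
      | zero => simp
      | add x y hx hy => rw [map_add, map_add, map_add, map_add, map_add, hx, hy]
      | tmul m a =>
        rw [LinearMap.rTensor_tmul, D.K_assoc, LinearMap.rTensor_tmul, ten_tmul, ten_tmul, D.h2, D.σ2γ, L_apply,
          D.ten_coact, D.r2p]
    have e2 : ∀ z : M ⊗[R] A, D.K ((CoalgebraStruct.comul (R := R) (A := A)).lTensor M z) =
        D.r1 (ten D.γ D.p D.hp z) := by
      intro z
      induction z with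
      | zero => simp
      | add x y hx hy => rw [map_add, map_add, map_add, map_add, hx, hy]
      | tmul m a =>
        rw [LinearMap.lTensor_tmul, ten_tmul, D.h1, D.σ1γ, D.r1p]
        rfl
    rw [e1, e2, D.ten_coact, D.r1q]
  counit_comp := by
    ext m
    change (CoalgebraStruct.counit (R := R) (A := A)).lTensor M (D.coact m) = m ⊗ₜ[R] (1 : R)
    apply (TensorProduct.rid R M).injective
    have e1 : ∀ z : M ⊗[R] A, TensorProduct.rid R M ((CoalgebraStruct.counit (R := R) (A := A)).lTensor M z) =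
        D.e (ten D.γ D.p D.hp z) := by
      intro z
      induction z with
      | zero => simp
      | add x y hx hy => rw [map_add, map_add, map_add, map_add, hx, hy]
      | tmul m a =>
        rw [LinearMap.lTensor_tmul, ten_tmul, D.he, D.εγ, D.ep, algebraMap_smul, TensorProduct.rid_tmul]
    rw [e1, D.ten_coact, D.eq', TensorProduct.rid_tmul, one_smul]

theorem ten_comod (m : M) : ten D.γ D.p D.hp (D.comod.coact m) = D.q m := D.ten_co m

/-- The fixed vectors. -/
theorem mem_fixedPts (m : M) :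
    m ∈ @HopfRep.fixedPts R A _ _ _ M _ _ D.comod ↔ D.q m = D.p m := by
  have h1 : m ∈ @HopfRep.fixedPts R A _ _ _ M _ _ D.comod ↔ D.coact m = m ⊗ₜ[R] (1 : A) := Iff.rfl
  rw [h1, ← D.bij.1.eq_iff, D.ten_coact, ten_tmul, map_one, one_smul]

section Hopf

variable {B : Type u} [CommRing B] [Algebra R B] [HopfRep.Comod R A B] [GLin.IsCoactAlg R A B]

omit [AddCommGroup M] [Module R M] [Module Q M] [IsScalarTower R Q M] in
theorem ten_hmSMul [AddCommGroup M] [Module R M] [Module B M] [IsScalarTower R B M] (β : B →ₐ[R] Q1)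
    (γ : A →ₐ[R] Q1) (p : M →+ M1) (hp : RLin R Q1 p)
    (hb : ∀ (b : B) (m : M), p (b • m) = β b • p m) (z : B ⊗[R] A) (w : M ⊗[R] A) :
    ten γ p hp (TameAct.hmSMul R A B M z w) =
      (Algebra.TensorProduct.lift β γ fun _ _ => .all _ _ : B ⊗[R] A →ₐ[R] Q1) z • ten γ p hp w := by
  induction z with
  | zero => simp
  | add x y hx hy => rw [map_add, LinearMap.add_apply, map_add, hx, hy, map_add, add_smul]
  | tmul b a =>
    induction w with
    | zero => simp
    | add x y hx hy => rw [map_add, map_add, hx, hy, map_add, smul_add]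
    | tmul m a' =>
      rw [TameAct.hmSMul_tmul, ten_tmul, ten_tmul, hb, Algebra.TensorProduct.lift_tmul, map_mul, smul_smul, smul_smul]
      congr 1
      ring

theorem isHopfMod [Module B M] [IsScalarTower R B M] (β : B →ₐ[R] Q1)
    (hb : ∀ (b : B) (m : M), D.p (b • m) = β b • D.p m)
    (hb' : ∀ (b : B) (m : M), D.q (b • m) = pact β D.γ b • D.q m) :
    letI := D.comod
    TameAct.IsHopfMod R A B M := by
  letI := D.comod
  refine ⟨fun b m => ?_⟩
  apply D.bij.1
  rw [ten_hmSMul β D.γ D.p D.hp hb]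
  rw [show ten D.γ D.p D.hp (HopfRep.Comod.coact (k := R) (A := A) (b • m)) = D.q (b • m) from D.ten_comod _,
    show ten D.γ D.p D.hp (HopfRep.Comod.coact (k := R) (A := A) m) = D.q m from D.ten_comod _, hb']
  rfl

end Hopf

section Hom

variable {M' M1' M2' : Type u} [AddCommGroup M'] [Module R M'] [Module Q M'] [IsScalarTower R Q M']
    [AddCommGroup M1'] [Module R M1'] [Module Q1 M1'] [IsScalarTower R Q1 M1'] [AddCommGroup M2'] [Module Q2 M2']
    (D' : CDat R A Q Q1 Q2 M' M1' M2')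

theorem isComodHom (hγ : D'.γ = D.γ) (f : M →ₗ[R] M') (f1 : M1 →+ M1')
    (hf1 : ∀ (c : Q1) (x : M1), f1 (c • x) = c • f1 x) (hp : ∀ m, f1 (D.p m) = D'.p (f m))
    (hq : ∀ m, f1 (D.q m) = D'.q (f m)) :
    letI := D.comod
    letI := D'.comod
    Hoch.IsComodHom A f := by
  letI := D.comod
  letI := D'.comod
  ext m
  apply D'.bij.1
  change ten D'.γ D'.p D'.hp (D'.coact (f m)) = ten D'.γ D'.p D'.hp (f.rTensor A (D.coact m))
  rw [D'.ten_coact, ← hq, ← D.ten_coact]
  generalize D.coact m = z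
  induction z with
  | zero => simp
  | add x y hx hy => rw [map_add, map_add, map_add, map_add, hx, hy]
  | tmul m a => rw [LinearMap.rTensor_tmul, ten_tmul, ten_tmul, hf1, hp, hγ]

end Hom

end CDat

end K908.HopfDat
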