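import Groth.Agent.StMod.K862.FSq
import Groth.Agent.StMod.K908.EqLoc
import Groth.Agent.Stk.K751.Fp
import Groth.Agent.AlgSt.K740.SpDM
import Groth.Agent.AlgSp.K597.LocP
import Groth.Agent.AlgSp.K597.EtLoc
import Groth.Agent.AlgSp.K598.Site
import Groth.Agent.StMod.K906.SpGeo

/-!
# Étale-local recognition of cartesian squares over algebraic spaces (node N2 of the Luna cluster)
-/

set_option autoImplicit false
set_option linter.unusedVariables false
set_option linter.style.haveILetI false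
set_option backward.isDefEq.respectTransparency false
set_option backward.isDefEq.respectTransparency.types false
set_option linter.dupNamespace false
set_option linter.unusedSectionVars false

universe u

open CategoryTheory CategoryTheory.Limits AlgebraicGeometry Opposite StMod AlgSt AlgSp

namespace K908.LunaN2

open K906 K862.Rep K862.FSq K906.SpGeo K907.Sec K908.Aff K908.EqLoc

variable {S : Scheme.{u}}

/-- The chart criterion for étale morphisms in terms of objects. -/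
theorem isEtaleMor_of_charts (N M : Space S) (g : N.obj ⟶ M.obj)
    (h : ∀ (n : (ofSp N.obj).obj) (t : ↥n.base.left), ∃ (E' : EtOver N.obj) (E : EtOver M.obj)
      (m : (ofSpMap g).obj (etaOf E') ⟶ etaOf E) (n' : (ofSp N.obj).obj) (a : n' ⟶ n) (b : n' ⟶ etaOf E'),
      IsIso (bmap (ofSp M.obj) m) ∧ Etale a.hom.left ∧ t ∈ Set.range a.hom.left) : IsEtaleMor g := by
  refine K597.isEtaleMor_of_locP_etale K597.etLoc_etale M.property ?_
  refine K597.locP_of_local K597.etLoc_etale g fun U' a' ha' x => ?_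
  let n : (ofSp N.obj).obj := ⟨U', (J S).uliftYonedaEquiv a'⟩
  have hn : toMap n = a' := toMap_mk a'
  obtain ⟨E', E, m, n', a, b, hm, ha, hx⟩ := h n x
  have h1 : IsEt n' := by
    unfold IsEt
    rw [← toMap_comp a, hn]
    exact (RepWith @Etale).comp_mem _ _ ((repWith_yon_map_iff @Etale a.hom).2 ha) ha'
  refine ⟨E'.obj.left, E.obj.left, n'.base, E'.obj.hom, E.obj.hom, m.hom, b.hom, a.hom, E.property, ?_, ?_, ?_, ?_,
    ha, hx⟩
  · have e1 := toMap_comp m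
    rw [toMap_ofSpMap, toMap_etaOf, toMap_etaOf] at e1
    exact e1.symm
  · have : IsIso m.hom.left := hm
    infer_instance
  · have e1 := toMap_comp b
    have e2 := toMap_comp a
    rw [toMap_etaOf] at e1
    rw [hn] at e2
    rw [e1, e2]
  · exact K597.of_comp_etale (P := @Etale) (fun A B C e f he hf => inferInstance) E'.property h1 b.hom (by
      have e1 := toMap_comp b
      rw [toMap_etaOf] at e1
      exact e1)

section Cart

variable {𝒲 𝒳 : AlgSt.Cat S} {N M : Sp S} {ρ : 𝒲 ⥤ᵇ ofSp N} {π : 𝒳 ⥤ᵇ ofSp M} {f : 𝒲 ⥤ᵇ 𝒳} {g : N ⟶ M}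
  (e : BasedFunctor.comp f π ≅ BasedFunctor.comp ρ (ofSpMap g))

/-- Arrows in the category of a sheaf are determined by their base. -/
theorem hom_ext_sp {A : Sp S} {x y : (ofSp A).obj} {k k' : x ⟶ y} (h : k.hom = k'.hom) : k = k' :=
  Stk.EltObj.hom_ext h

theorem isIso_of_base {A : Sp S} {x y : (ofSp A).obj} (k : x ⟶ y) (h : IsIso (bmap (ofSp A) k)) : IsIso k :=
  Grpd.isIso_of_isIso_bmap (Stk.isFibGrpd_ofPsh A.obj) k

/-- Universal isomorphic arrows from a chart. -/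
theorem exists_uni (h𝒲 : FibCat.IsFibGrpd 𝒲.p) (h𝒳 : FibCat.IsFibGrpd 𝒳.p)
    (y : (FibCat.fp π (ofSpMap g)).obj) (hy : IsAffine (sch 𝒳 y.obj.fst))
    {E' : EtOver N} {E : EtOver M} (m : (ofSpMap g).obj (etaOf E') ⟶ etaOf E) (hm : IsIso (bmap (ofSp M) m))
    (hF : IsRep (MorphismProperty.isomorphisms Scheme.{u}) (fibSq e m)) (b : y.obj.snd ⟶ etaOf E') :
    ∃ (w : 𝒲.obj) (A : (FibCat.fpLift f ρ e).obj w ⟶ y), IsIso A ∧ IsUni (FibCat.fpLift f ρ e) A := by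
  have hmi : IsIso m := isIso_of_base m hm
  let G := ofSpMap g
  have I : ∀ ξ : 𝒲.obj, IsIso (eArr e ξ) := fun ξ => isIso_eArr e ξ
  let X : FObj π (etaOf E) := ⟨y.obj.fst, y.obj.iso.hom ≫ G.map b ≫ m⟩
  obtain ⟨w, α, hα, hαi⟩ := hF X hy
  have hαi' : IsIso (str f (FObj.Hom.hom α)) := hαi
  -- `α` is an isomorphism
  have hb : IsIso (bmap 𝒳 (FObj.Hom.hom α)) := by
    rw [str_eq] at hαi'
    exact IsIso.of_isIso_comp_left (eqSch f _).hom (bmap 𝒳 (FObj.Hom.hom α))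
  have hαI : IsIso (FObj.Hom.hom α) := Grpd.isIso_of_isIso_bmap h𝒳 _
  have hc : π.map (FObj.Hom.hom α) ≫ y.obj.iso.hom ≫ G.map b ≫ m = eArr e (FObj.pt w) ≫ G.map (FObj.arr w) ≫ m :=
    α.comm
  have hc' : π.map (FObj.Hom.hom α) ≫ y.obj.iso.hom ≫ G.map b = eArr e (FObj.pt w) ≫ G.map (FObj.arr w) := by
    rw [← cancel_mono m]
    simpa only [Category.assoc] using hc
  -- the second component
  let δ : G.obj (ρ.obj (FObj.pt w)) ⟶ G.obj y.obj.snd :=
    inv (eArr e (FObj.pt w)) ≫ π.map (FObj.Hom.hom α) ≫ y.obj.iso.hom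
  have hδ : δ ≫ G.map b = G.map (FObj.arr w) := by
    change (inv (eArr e (FObj.pt w)) ≫ π.map (FObj.Hom.hom α) ≫ y.obj.iso.hom) ≫ G.map b = _
    rw [Category.assoc, IsIso.inv_comp_eq, Category.assoc]
    exact hc'
  have hδ' : δ.hom ≫ b.hom = (FObj.arr w).hom := congrArg Stk.EltObj.Hom.hom hδ
  let γ : ρ.obj (FObj.pt w) ⟶ y.obj.snd := ⟨δ.hom, by
    have h1 : N.obj.map b.hom.op (etaOf E').sec = y.obj.snd.sec := b.map_sec
    have h2 : N.obj.map (FObj.arr w).hom.op (etaOf E').sec = (ρ.obj (FObj.pt w)).sec := (FObj.arr w).map_sec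
    rw [← h1, ← Functor.map_comp_apply, ← op_comp]
    exact (congrArg (fun t => N.obj.map t.op (etaOf E').sec) hδ').trans h2⟩
  have hγ : G.map γ = δ := hom_ext_sp rfl
  have hγb : γ ≫ b = FObj.arr w := hom_ext_sp hδ'
  let A : (FibCat.fpLift f ρ e).obj (FObj.pt w) ⟶ y := ObjectProperty.homMk
    { fst := FObj.Hom.hom α
      snd := γ
      w := by
        change π.map (FObj.Hom.hom α) ≫ y.obj.iso.hom = eArr e (FObj.pt w) ≫ G.map γ
        rw [hγ]
        change _ = eArr e (FObj.pt w) ≫ inv (eArr e (FObj.pt w)) ≫ π.map (FObj.Hom.hom α) ≫ y.obj.iso.hom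
        rw [IsIso.hom_inv_id_assoc] }
  have hfp : FibCat.IsFibGrpd (FibCat.fp π (ofSpMap g)).p :=
    K751.Fp.isFibGrpd_fp h𝒳 (Stk.isFibGrpd_ofPsh N.obj) (Stk.isFibGrpd_ofPsh M.obj)
  have hA : IsIso (bmap (FibCat.fp π (ofSpMap g)) A) := hb
  refine ⟨FObj.pt w, A, Grpd.isIso_of_isIso_bmap hfp A, fun z B => ?_⟩
  let B₁ : f.obj z ⟶ y.obj.fst := B.hom.fst
  let B₂ : ρ.obj z ⟶ y.obj.snd := B.hom.snd
  have hB : π.map B₁ ≫ y.obj.iso.hom = eArr e z ≫ G.map B₂ := B.hom.w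
  let Z : FObj ρ (etaOf E') := ⟨z, B₂ ≫ b⟩
  let β : (fibSq e m).obj Z ⟶ X := FObj.mkHom B₁ (by
    change π.map B₁ ≫ y.obj.iso.hom ≫ G.map b ≫ m = eArr e z ≫ G.map (B₂ ≫ b) ≫ m
    rw [← Category.assoc, hB, G.toFunctor.map_comp]
    simp only [Category.assoc])
  obtain ⟨χ, hχ, hχu⟩ := hα Z β
  have h1 : f.map (FObj.Hom.hom χ) ≫ FObj.Hom.hom α = B₁ := congrArg FObj.Hom.hom hχ
  have h2 : ρ.map (FObj.Hom.hom χ) ≫ FObj.arr w = B₂ ≫ b := χ.comm
  have key : ∀ χ' : z ⟶ FObj.pt w, f.map χ' ≫ FObj.Hom.hom α = B₁ → ρ.map χ' ≫ γ = B₂ := by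
    intro χ' h3
    apply hom_ext_sp
    have h4 : G.map (ρ.map χ' ≫ γ) = G.map B₂ := by
      rw [G.toFunctor.map_comp]
      change G.map (ρ.map χ') ≫ G.map γ = G.map B₂
      rw [hγ, ← cancel_epi (eArr e z), ← hB, ← h3, ← Category.assoc, ← eArr_nat, Category.assoc]
      change π.map (f.map χ') ≫ eArr e (FObj.pt w) ≫ inv (eArr e (FObj.pt w)) ≫
        π.map (FObj.Hom.hom α) ≫ y.obj.iso.hom = _
      rw [IsIso.hom_inv_id_assoc, π.toFunctor.map_comp, Category.assoc]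
    have h5 : (G.map (ρ.map χ' ≫ γ)).hom = (G.map B₂).hom := by rw [h4]
    exact h5
  refine ⟨FObj.Hom.hom χ, ?_, fun χ' hχ' => ?_⟩
  · apply ObjectProperty.hom_ext
    apply CategoricalPullback.hom_ext
    · exact h1
    · exact key _ h1
  · have h3 : f.map χ' ≫ FObj.Hom.hom α = B₁ := congrArg (fun t => t.hom.fst) hχ'
    have h4 : ρ.map χ' ≫ γ = B₂ := congrArg (fun t => t.hom.snd) hχ'
    let χ₁ : Z ⟶ w := FObj.mkHom χ' (by
      change ρ.map χ' ≫ FObj.arr w = B₂ ≫ b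
      rw [← hγb, ← Category.assoc, h4])
    have h5 : χ₁ = χ := hχu χ₁ (FObj.hom_ext h3)
    exact congrArg FObj.Hom.hom h5

/-- Restriction of an object of the category of a sheaf to an affine neighbourhood of a point. -/
theorem exists_affine_nhd {A : Sp S} (n : (ofSp A).obj) (t : ↥n.base.left) :
    ∃ (n' : (ofSp A).obj) (k : n' ⟶ n), IsAffine n'.base.left ∧ IsOpenImmersion k.hom.left ∧ t ∈ Set.range k.hom.left := by
  obtain ⟨V, hV, hx, -⟩ := exists_isAffineOpen_mem_and_subset (x := t) (U := ⊤) trivial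
  let W : Over S := Over.mk (V.ι ≫ n.base.hom)
  let i : W ⟶ n.base := Over.homMk V.ι rfl
  refine ⟨⟨W, A.obj.map i.op n.sec⟩, ⟨i, rfl⟩, hV, (inferInstance : IsOpenImmersion V.ι), ?_⟩
  change t ∈ Set.range V.ι
  rw [Scheme.Opens.range_ι]
  exact hx

/-- The charts give local universal isomorphic arrows. -/
theorem uniAt_of_chart (h𝒲 : FibCat.IsFibGrpd 𝒲.p) (h𝒳 : FibCat.IsFibGrpd 𝒳.p)
    (x : (FibCat.fp π (ofSpMap g)).obj) {n' : (ofSp N).obj} (hn' : IsAffine n'.base.left) (a : n' ⟶ x.obj.snd)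
    {E' : EtOver N} {E : EtOver M} (m : (ofSpMap g).obj (etaOf E') ⟶ etaOf E) (hm : IsIso (bmap (ofSp M) m))
    (hF : IsRep (MorphismProperty.isomorphisms Scheme.{u}) (fibSq e m)) (b : n' ⟶ etaOf E') :
    UniAt (FibCat.fpLift f ρ e) x (a.hom ≫ eqToHom ((FibCat.fpSnd π (ofSpMap g)).w_obj x)) := by
  have hN : FibCat.IsFibGrpd (ofSp N).p := Stk.isFibGrpd_ofPsh N.obj
  have hfp : FibCat.IsFibGrpd (FibCat.fp π (ofSpMap g)).p :=
    K751.Fp.isFibGrpd_fp h𝒳 hN (Stk.isFibGrpd_ofPsh M.obj)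
  let f₀ : n'.base ⟶ (FibCat.fp π (ofSpMap g)).p.obj x :=
    a.hom ≫ eqToHom ((FibCat.fpSnd π (ofSpMap g)).w_obj x)
  obtain ⟨y, φ, hφ⟩ := K895.Fib.exists_lift hfp f₀ x rfl
  have hφ₂ : (ofSp N).p.IsHomLift f₀ ((FibCat.fpSnd π (ofSpMap g)).map φ) := K895.Fib.lift_map _ hφ
  have ha : (ofSp N).p.IsHomLift a.hom a := IsHomLift.map (ofSp N).p a
  have ha' : (ofSp N).p.IsHomLift f₀ a := by
    change (ofSp N).p.IsHomLift (a.hom ≫ eqToHom _) a
    infer_instance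
  obtain ⟨c, hc, -⟩ := K895.Fib.exists_fac hN (𝟙 _) f₀ a _ ha' (K895.Fib.lift_eq hφ₂ (Category.id_comp _).symm)
  have hy : IsAffine (sch 𝒳 y.obj.fst) := by
    have h1 : (FibCat.fp π (ofSpMap g)).p.obj y = n'.base := K895.Fib.obj_eq_of_lift_left hφ
    change IsAffine ((FibCat.fp π (ofSpMap g)).p.obj y).left
    rw [h1]
    exact hn'
  obtain ⟨w, A, hA, hu⟩ := exists_uni e h𝒲 h𝒳 y hy m hm hF (c ≫ b)
  exact uniAt_of_iso h𝒲 φ hφ A hA hu

end Cart

/-- (N2) final assembly: étale-local recognition of cartesian squares over algebraic spaces. -/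
theorem isTwoCartOver_of_charts [QuasiSeparatedSpace S] (𝒲 𝒳 : AlgSt.Cat S)
    (h𝒲 : IsAlgStack Scheme.fppfPrecoverage 𝒲) (h𝒳 : IsAlgStack Scheme.fppfPrecoverage 𝒳)
    (N M : Space S) (hN : IsQuasiSeparatedSp N.obj) (hM : IsQuasiSeparatedSp M.obj)
    (ρ : 𝒲 ⥤ᵇ ofSp N.obj) (π : 𝒳 ⥤ᵇ ofSp M.obj) (f : 𝒲 ⥤ᵇ 𝒳) (g : N.obj ⟶ M.obj)
    (e : BasedFunctor.comp f π ≅ BasedFunctor.comp ρ (ofSpMap g))
    (h : ∀ (n : (ofSp N.obj).obj) (t : ↥n.base.left), ∃ (E' : EtOver N.obj) (E : EtOver M.obj)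
      (m : (ofSpMap g).obj (etaOf E') ⟶ etaOf E) (n' : (ofSp N.obj).obj) (a : n' ⟶ n) (b : n' ⟶ etaOf E'),
      IsAffine E'.obj.left.left ∧ IsAffine E.obj.left.left ∧ IsIso (bmap (ofSp M.obj) m) ∧
      IsRep (MorphismProperty.isomorphisms Scheme.{u}) (fibSq e m) ∧ Etale a.hom.left ∧ t ∈ Set.range a.hom.left) :
    IsEtaleMor g ∧ FibCat.IsTwoCartOver f ρ e := by
  refine ⟨isEtaleMor_of_charts N M g fun n t => ?_, ?_⟩
  · obtain ⟨E', E, m, n', a, b, -, -, h3, -, h5, h6⟩ := h n t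
    exact ⟨E', E, m, n', a, b, h3, h5, h6⟩
  have hst : ∀ A : Sp S, Stk.IsPrestack (J S) (ofSp A) := fun A =>
    K895.LocEquiv.isPrestack_of_isStack (K740.SpDM.isStack_ofSp A)
  have hpre : Stk.IsPrestack (J S) (FibCat.fp π (ofSpMap g)) :=
    K751.Fp.isPrestack_fp (K895.LocEquiv.isPrestack_of_isStack h𝒳.isStack) (hst _) (hst _)
  refine EqLoc.isEquivOver (J := J S) hpre ?_ h𝒲.isStack
  intro x
  have key : ∀ t : ↥x.obj.snd.base.left, ∃ (n' : (ofSp N.obj).obj) (a : n' ⟶ x.obj.snd),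
      Etale a.hom.left ∧ t ∈ Set.range a.hom.left ∧
        UniAt (FibCat.fpLift f ρ e) x (a.hom ≫ eqToHom ((FibCat.fpSnd π (ofSpMap g)).w_obj x)) := by
    intro t
    obtain ⟨E', E, m, n₁, a, b, -, -, h3, h4, h5, ⟨t₁, ht₁⟩⟩ := h x.obj.snd t
    obtain ⟨n', k, hn', hk, ⟨t', ht'⟩⟩ := exists_affine_nhd n₁ t₁
    refine ⟨n', k ≫ a, ?_, ⟨t', ?_⟩, uniAt_of_chart e h𝒲.isStack.1 h𝒳.isStack.1 x hn' (k ≫ a) m h3 h4 (k ≫ b)⟩
    · change Etale (k.hom ≫ a.hom).left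
      rw [Over.comp_left]
      infer_instance
    · change (k.hom.left ≫ a.hom.left) t' = t
      rw [Scheme.Hom.comp_apply, ht', ht₁]
  choose n' a ha ht hu using key
  let q : ∀ t : ↥x.obj.snd.base.left, (n' t).base ⟶ (FibCat.fp π (ofSpMap g)).p.obj x := fun t =>
    (a t).hom ≫ eqToHom ((FibCat.fpSnd π (ofSpMap g)).w_obj x)
  have hiso : IsIso (eqToHom ((FibCat.fpSnd π (ofSpMap g)).w_obj x)).left := by
    have : IsIso ((Over.forget S).map (eqToHom ((FibCat.fpSnd π (ofSpMap g)).w_obj x))) := inferInstance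
    exact this
  have hq : ∀ t, Etale (q t).left := fun t => by
    have := ha t
    change Etale ((a t).hom ≫ eqToHom _).left
    rw [Over.comp_left]
    infer_instance
  refine ⟨Sieve.generate (Presieve.ofArrows _ q), ?_, ?_⟩
  · refine K598.Site.mem_J_of_family _ q (fun t => Sieve.le_generate _ _ _ ⟨t⟩) (fun t => ?_) (fun t => ?_) fun t => ?_
    · have := hq t; infer_instance
    · have := hq t; infer_instance
    · let t₀ : ↥x.obj.snd.base.left := inv (eqToHom ((FibCat.fpSnd π (ofSpMap g)).w_obj x)).left t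
      obtain ⟨v, hv⟩ := ht t₀
      refine ⟨t₀, v, ?_⟩
      change ((a t₀).hom.left ≫ (eqToHom ((FibCat.fpSnd π (ofSpMap g)).w_obj x)).left) v = t
      rw [Scheme.Hom.comp_apply, hv]
      change (inv (eqToHom ((FibCat.fpSnd π (ofSpMap g)).w_obj x)).left ≫
        (eqToHom ((FibCat.fpSnd π (ofSpMap g)).w_obj x)).left) t = t
      rw [IsIso.inv_hom_id]
      rfl
  · rintro V k ⟨_, k', _, ⟨t⟩, rfl⟩
    exact (hu t).comp h𝒲.isStack.1 hpre.1 k'

end K908.LunaN2
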