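import Groth.Agent.StMod.K862.Rep
import Groth.Agent.StMod.K906.FibRep
import Groth.Agent.AlgSt.K740.SpIso
import Groth.Agent.AlgSt.K734.Props
import Groth.Agent.AlgSt.K739.Props
import Groth.Agent.AlgSp.K610.ZarGlue
import Groth.Agent.Desc.LQF
import Groth.Agent.S10259
import Groth.Agent.S10535

/-!
# Universal arrows for étale separated representable functors

* `exists_isTerm_etSep` : for `p` representable by algebraic spaces, étale and separated, over every object there is a universal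
  arrow with étale separated structure morphism (étale separated algebraic spaces over a scheme are schemes);
* `repByAlgSpWith_etSep_comp_subIncl` : restriction to an open substack.
-/

set_option autoImplicit false
set_option linter.unusedVariables false
set_option linter.style.haveILetI false
set_option backward.isDefEq.respectTransparency false
set_option backward.isDefEq.respectTransparency.types false

universe v' w' v w u

open CategoryTheory CategoryTheory.Limits AlgebraicGeometry Opposite StMod AlgSt AlgSp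

namespace K908.LunaRep

open K906 K862.Rep K908.Aff

variable {S : Scheme.{u}}

/-- S10259 in terms of `yon`. -/
theorem exists_iso_yon {F : Space S} {U : Over S} {π : F.obj ⟶ (yon S).obj U}
    (h1 : LocP (@LocallyQuasiFinite ⊓ @LocallyOfFiniteType) π) (h2 : IsSeparatedMor π) :
    ∃ (W : Over S) (i : (yon S).obj W ⟶ F.obj) (_ : IsIso i) (w : W ⟶ U), i ≫ π = (yon S).map w := by
  have h := Groth.Agent.S10259.result U F (ObjectProperty.homMk π) h1 h2
  obtain ⟨W, ⟨i⟩⟩ := K610.ZarGlue.isRepresentable_iff.1 h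
  obtain ⟨w, hw⟩ := (yon S).map_surjective (i.hom ≫ π)
  exact ⟨W, i.hom, inferInstance, w, hw.symm⟩

section

variable {𝒳 : BasedCategory.{v, w} (Over S)} {𝒴 : BasedCategory.{v', w'} (Over S)} {p : 𝒴 ⥤ᵇ 𝒳}

/-- The structure morphism of an object of `fibCat`. -/
theorem fbase_left {ξ : 𝒳.obj} (z : (fibCat p ξ).obj) : (fbase z).left = str p (FObj.arr z) := rfl

/-- A sheaf representing `fibCat p ξ` which is a scheme gives a universal arrow. -/
theorem exists_isTerm_of_secRep {ξ : 𝒳.obj} {F : Sp S} {π : F ⟶ (yon S).obj (𝒳.p.obj ξ)}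
    (R : K738.SecRep (toBase p ξ) F π) {W : Over S} (i : (yon S).obj W ⟶ F) [IsIso i] :
    ∃ (z : (fibCat p ξ).obj) (h : W = (fibCat p ξ).p.obj z), IsTerm p (FObj.arr z) ∧
      i ≫ π = (yon S).map (eqToHom h ≫ fbase z) := by
  let x : F.obj.obj (op W) := i.hom.app (op W) ⟨𝟙 W⟩
  have hb : ∀ V : Over S, Function.Bijective (i.hom.app (op V)) := by
    intro V
    have h1 : IsIso i.hom := inferInstanceAs (IsIso ((sheafToPresheaf _ _).map i))
    have h2 : IsIso (i.hom.app (op V)) := inferInstance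
    exact (isIso_iff_bijective _).1 h2
  have hx : ∀ (V : Over S) (g : V ⟶ W), F.obj.map g.op x = i.hom.app (op V) ⟨g⟩ := by
    intro V g
    have h1 := congrArg (fun k => k (⟨𝟙 W⟩ : ULift (W ⟶ W))) (i.hom.naturality g.op)
    refine h1.symm.trans ?_
    change i.hom.app (op V) ⟨g ≫ 𝟙 W⟩ = _
    rw [Category.comp_id]
  obtain ⟨z, h, hz⟩ := R.surj x
  refine ⟨z, h, ?_, ?_⟩
  · intro θ β
    let a : (fibCat p ξ).obj := (⟨θ, β⟩ : FObj p ξ)
    obtain ⟨⟨g⟩, hg⟩ := (hb ((fibCat p ξ).p.obj a)).2 (R.sec a)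
    have hgz : F.obj.map (g ≫ eqToHom h).op (R.sec z) = R.sec a := by
      rw [op_comp, Functor.map_comp]
      change F.obj.map g.op (F.obj.map (eqToHom h).op (R.sec z)) = _
      rw [hz, hx, hg]
    obtain ⟨m, hm⟩ := R.full (z := a) (z' := z) (g ≫ eqToHom h) hgz
    refine ⟨m.hom, m.comm, ?_⟩
    intro χ hχ
    let m' : a ⟶ z := FObj.mkHom χ hχ
    have h1 : m' = m := by
      apply R.faithful
      have h2 := R.map m'
      have h3 := R.map m
      have key : ∀ (k k' : (fibCat p ξ).p.obj a ⟶ (fibCat p ξ).p.obj z),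
          F.obj.map k.op (R.sec z) = F.obj.map k'.op (R.sec z) → k = k' := by
        intro k k' hk
        have e1 : ∀ l : (fibCat p ξ).p.obj a ⟶ (fibCat p ξ).p.obj z, F.obj.map l.op (R.sec z) =
            i.hom.app (op _) ⟨l ≫ eqToHom h.symm⟩ := by
          intro l
          rw [← hx, ← hz]
          change _ = F.obj.map (l ≫ eqToHom h.symm).op (F.obj.map (eqToHom h).op (R.sec z))
          rw [← Functor.map_comp_apply, ← op_comp]
          simp
        rw [e1, e1] at hk
        have e2 := congrArg ULift.down ((hb _).1 hk)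
        exact (cancel_mono (eqToHom h.symm)).1 e2
      exact key _ _ (h2.trans h3.symm)
    exact congrArg (fun t => FObj.Hom.hom t) h1
  · have h1 := R.proj z
    obtain ⟨w, hw⟩ := (yon S).map_surjective (i ≫ π)
    rw [← hw]
    congr 1
    have h2 : (i ≫ π).hom.app (op W) ⟨𝟙 W⟩ = ((yon S).map w).hom.app (op W) ⟨𝟙 W⟩ := by rw [hw]
    have h3 : ((yon S).map w).hom.app (op W) ⟨𝟙 W⟩ = (⟨w⟩ : ULift (W ⟶ 𝒳.p.obj ξ)) :=
      congrArg ULift.up (Category.id_comp w)
    have h4 : (i ≫ π).hom.app (op W) ⟨𝟙 W⟩ = π.hom.app (op W) x := rfl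
    rw [h3, h4, ← hz] at h2
    have h5 : π.hom.app (op W) (F.obj.map (eqToHom h).op (R.sec z)) =
        ((yon S).obj (𝒳.p.obj ξ)).obj.map (eqToHom h).op (π.hom.app _ (R.sec z)) :=
      congrArg (fun k => k (R.sec z)) (π.hom.naturality (eqToHom h).op)
    rw [h5, h1, str_toBase] at h2
    exact (congrArg ULift.down h2).symm

/-- Universal arrows for étale separated representable functors. -/
theorem exists_isTerm_etSep (h𝒳 : FibCat.IsFibGrpd 𝒳.p)
    (hp : AlgSt.RepByAlgSpWith (AlgSp.IsEtaleMor ⊓ AlgSp.IsSeparatedMor) p) (ξ : 𝒳.obj) :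
    ∃ (y : 𝒴.obj) (α : p.obj y ⟶ ξ), IsTerm p α ∧ Etale (str p α) ∧ IsSeparated (str p α) := by
  obtain ⟨F, π, ⟨h1, h2⟩, ⟨R⟩⟩ := exists_secRep_fibCat h𝒳 hp ξ
  have h3 : LocP @Etale π := K597.locP_etale_of_isEtaleMor h1
  obtain ⟨W, i, hi, w, hw⟩ := exists_iso_yon (F := F) (π := π) (K597.locP_mono (fun A B f hf => by
    have : Etale f := hf
    exact ⟨Groth.Agent.Desc.LQF.of_etale f, inferInstance⟩) h3) h2
  obtain ⟨z, h, hz, hzw⟩ := exists_isTerm_of_secRep R i
  refine ⟨FObj.pt z, FObj.arr z, hz, ?_⟩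
  have e : IsIso (eqToHom h).left := inferInstanceAs (IsIso ((Over.forget S).map (eqToHom h)))
  have h4 : IsEtaleMor ((yon S).map (eqToHom h ≫ fbase z)) := by
    rw [← hzw]
    intro U φ hφ
    rw [← Category.assoc]
    exact h1 _ ((MorphismProperty.cancel_right_of_respectsIso (RepWith @Etale) φ i).2 hφ)
  have h5 : IsSeparatedMor ((yon S).map (eqToHom h ≫ fbase z)) := by
    rw [← hzw]
    exact (MorphismProperty.cancel_left_of_respectsIso _ i π).2 h2
  have h6 := (isEtaleMor_yon_map_iff _).1 h4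
  have h7 := (isSeparatedMor_yon_map_iff _).1 h5
  rw [Over.comp_left] at h6 h7
  exact ⟨(MorphismProperty.cancel_left_of_respectsIso @Etale _ _).1 h6,
    (MorphismProperty.cancel_left_of_respectsIso @IsSeparated _ _).1 h7⟩

end

theorem nice_sep : K734.Rep.Nice (S := S) AlgSp.IsSeparatedMor where
  bc := K739.Props.bc_sep
  comp := K739.Props.comp_sep
  loc := K739.Props.isLocalOnBase_fppf_of_fpqc (Groth.Agent.S10535.result S)

theorem isSeparated_of_openImm {F : AlgSp.Sp S} {U : Over S} {q : F ⟶ (yon S).obj U}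
    (h : RepWith @IsOpenImmersion q) : AlgSp.IsSeparatedMor q :=
  (K595.DiagBasic.isSeparatedMor_iff_repWith h.1).2 (K597.repWith_mono (fun _ _ g hg => by
    have : IsOpenImmersion g := hg
    infer_instance) h)

/-- A separated representable functor restricted to an open substack on which it is étale. -/
theorem repByAlgSpWith_etSep_comp_subIncl {𝒳' 𝒳 : AlgSt.Cat S} (h𝒳' : FibCat.IsFibGrpd 𝒳'.p) {Q : 𝒳'.obj → Prop}
    (hQ : AlgSt.IsOpenSubstack 𝒳' Q Scheme.fppfPrecoverage) {f : 𝒳' ⥤ᵇ 𝒳}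
    (hf : AlgSt.RepByAlgSpWith AlgSp.IsSeparatedMor f)
    (he : AlgSt.RepByAlgSpWith AlgSp.IsEtaleMor (BasedFunctor.comp (AlgSt.subIncl 𝒳' Q) f)) :
    AlgSt.RepByAlgSpWith (AlgSp.IsEtaleMor ⊓ AlgSp.IsSeparatedMor) (BasedFunctor.comp (AlgSt.subIncl 𝒳' Q) f) := by
  refine K740.SpIso.repByAlgSpWith_inf he ?_
  exact K734.Rep.Nice.repByAlgSpWith_comp nice_sep hQ.2.1.isStack.1 h𝒳'
    (K740.SpIso.repByAlgSpWith_imp hQ.2.2 fun _ _ _ h => isSeparated_of_openImm h) hf

end K908.LunaRep
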