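import Groth.Agent.StMod.K908.Ext
import Groth.Agent.StMod.K908.BC

/-!
# Sections of a quasi-coherent module on `𝒳` in terms of the affine objects

For `F : Mod 𝒳`, `rest F C` is the family of modules of global sections over the objects of `C`; it is cartesian for
`F : QCoh 𝒳` (`rest_isCart`), and sections of `F.obj ξ` over an open `U` are the compatible families over `U`
(`toFam_bijective`).
-/

set_option autoImplicit false
set_option linter.unusedVariables false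
set_option linter.style.haveILetI false
set_option backward.isDefEq.respectTransparency false
set_option backward.isDefEq.respectTransparency.types false
set_option linter.dupNamespace false
set_option linter.unusedSectionVars false

universe v' w' v w u

open CategoryTheory CategoryTheory.Limits AlgebraicGeometry Opposite TopologicalSpace StMod
open Groth.Agent.CohqA.BaseChangeMod

namespace K908.QSec

open K908.AMod K908.Fam K908.Ext

variable {S : Scheme.{u}} {𝒳 : BasedCategory.{v, w} (Over S)}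

section Sec

/-- Restriction of a section over `U` along an arrow landing in `U`. -/
noncomputable def secX (F : Mod 𝒳) {ζ ξ : 𝒳.obj} (φ : ζ ⟶ ξ) (U : (sch 𝒳 ξ).Opens) (h : InOp φ U) :
    Γ(F.obj ξ, U) →+ Γ(F.obj ζ, ⊤) :=
  (Groth.Agent.CohqA.PullbackAffine.secMap (bmap 𝒳 φ) (F.map φ rfl) U ⊤ h).hom

theorem secX_smul (F : Mod 𝒳) {ζ ξ : 𝒳.obj} (φ : ζ ⟶ ξ) (U : (sch 𝒳 ξ).Opens) (h : InOp φ U)
    (r : Γ(sch 𝒳 ξ, U)) (x : Γ(F.obj ξ, U)) :
    secX F φ U h (r • x) = (bmap 𝒳 φ).appLE U ⊤ h r • secX F φ U h x :=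
  Groth.Agent.CohqA.PullbackAffine.secMap_smul _ _ _ _ _ r x

theorem secX_top (F : Mod 𝒳) {ζ ξ : 𝒳.obj} (φ : ζ ⟶ ξ) (x : Γ(F.obj ξ, ⊤)) :
    secX F φ ⊤ (inOp_top φ) x = F.mapTop φ x := by
  have := Groth.Agent.CohqA.PullbackAffine.secMap_top (bmap 𝒳 φ) (F.map φ rfl)
  exact congrArg (fun k => k.hom x) this

theorem secX_congr (F : Mod 𝒳) {ζ ξ : 𝒳.obj} {φ φ' : ζ ⟶ ξ} (e : φ = φ') (U : (sch 𝒳 ξ).Opens) (h : InOp φ U)
    (h' : InOp φ' U) (x : Γ(F.obj ξ, U)) : secX F φ U h x = secX F φ' U h' x := by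
  subst e
  rfl

theorem secX_res (F : Mod 𝒳) {ζ ξ : 𝒳.obj} (φ : ζ ⟶ ξ) {U V : (sch 𝒳 ξ).Opens} (hVU : V ≤ U) (h : InOp φ V)
    (x : Γ(F.obj ξ, U)) :
    secX F φ V h ((F.obj ξ).presheaf.map (homOfLE hVU).op x) = secX F φ U (h.mono hVU) x := by
  change (F.obj ζ).presheaf.map (homOfLE h).op ((F.map φ rfl).app V ((F.obj ξ).presheaf.map (homOfLE hVU).op x)) =
    (F.obj ζ).presheaf.map (homOfLE (h.mono hVU)).op ((F.map φ rfl).app U x)
  rw [Groth.Agent.CohqA.PullbackSections.app_map (F.map φ rfl) hVU x]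
  exact Groth.Agent.CohqA.PullbackSections.map_map' (F.obj ζ) h _ ((F.map φ rfl).app U x)

theorem secX_comp (F : Mod 𝒳) {ζ' ζ ξ : 𝒳.obj} (ψ : ζ' ⟶ ζ) (φ : ζ ⟶ ξ) (U : (sch 𝒳 ξ).Opens) (h : InOp φ U)
    (x : Γ(F.obj ξ, U)) : F.mapTop ψ (secX F φ U h x) = secX F (ψ ≫ φ) U (h.precomp ψ) x := by
  have key : ∀ (g : sch 𝒳 ζ' ⟶ sch 𝒳 ξ) (hg : bmap 𝒳 (ψ ≫ φ) = g) (h' : ⊤ ≤ g ⁻¹ᵁ U),
      secX F (ψ ≫ φ) U (h.precomp ψ) x =
        (F.obj ζ').presheaf.map (homOfLE h').op ((F.map (ψ ≫ φ) hg).app U x) := by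
    rintro _ rfl h'
    rfl
  have h1 : ⊤ ≤ (bmap 𝒳 ψ ≫ bmap 𝒳 φ) ⁻¹ᵁ U := by
    have := h.precomp ψ
    unfold InOp at this
    rwa [bmap_comp] at this
  rw [key (bmap 𝒳 ψ ≫ bmap 𝒳 φ) (bmap_comp ψ φ) h1, Mod.map_comp_app F ψ φ rfl rfl U]
  change (F.map ψ rfl).app ⊤ ((F.obj ζ).presheaf.map (homOfLE h).op ((F.map φ rfl).app U x)) =
    (F.obj ζ').presheaf.map (homOfLE h1).op ((F.map ψ rfl).app _ ((F.map φ rfl).app U x))
  exact Groth.Agent.CohqA.PullbackSections.app_map (F.map ψ rfl) h _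

theorem secX_hom {F G : Mod 𝒳} (u : F ⟶ G) {ζ ξ : 𝒳.obj} (φ : ζ ⟶ ξ) (U : (sch 𝒳 ξ).Opens) (h : InOp φ U)
    (x : Γ(F.obj ξ, U)) : secX G φ U h ((u.app ξ).app U x) = (u.app ζ).app ⊤ (secX F φ U h x) := by
  have e := congrArg (fun f => Scheme.Modules.Hom.app f U x) (u.comm φ rfl)
  simp only [Scheme.Modules.Hom.comp_app, Scheme.Modules.pushforward_map_app] at e
  have e' : (u.app ζ).app ((bmap 𝒳 φ) ⁻¹ᵁ U) ((F.map φ rfl).app U x) = (G.map φ rfl).app U ((u.app ξ).app U x) := e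
  change (G.obj ζ).presheaf.map (homOfLE h).op ((G.map φ rfl).app U ((u.app ξ).app U x)) =
    (u.app ζ).app ⊤ ((F.obj ζ).presheaf.map (homOfLE h).op ((F.map φ rfl).app U x))
  rw [Groth.Agent.CohqA.PullbackSections.app_map (u.app ζ) h, e']

end Sec

/-- The family of global sections over the objects of `C`. -/
noncomputable def rest (F : Mod 𝒳) (C : ASieve 𝒳) : AMod C.cat where
  obj ζ := Γ(F.obj ζ.obj, ⊤)
  mod ζ := inferInstanceAs (Module Γ(sch 𝒳 ζ.obj, ⊤) Γ(F.obj ζ.obj, ⊤))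
  map ψ := { toFun := F.mapTop ψ.hom
             map_zero' := F.mapTop_zero _
             map_add' := F.mapTop_add _ }
  map_smul ψ r x := F.mapTop_smul ψ.hom r x
  map_id ζ x := F.mapTop_id ζ.obj x
  map_comp ψ φ x := F.mapTop_comp ψ.hom φ.hom x

theorem rest_map (F : Mod 𝒳) (C : ASieve 𝒳) {ζ' ζ : C.cat.obj} (ψ : ζ' ⟶ ζ) (x : Γ(F.obj ζ.obj, ⊤)) :
    (rest F C).map ψ x = F.mapTop ψ.hom x := rfl

theorem rest_isCart (F : QCoh 𝒳) (C : ASieve 𝒳) : (rest F.obj C).IsCart := by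
  intro ζ' ζ ψ
  have : IsAffine (sch 𝒳 ζ.obj) := C.aff ζ.property
  have : IsAffine (sch 𝒳 ζ'.obj) := C.aff ζ'.property
  have h1 := F.property.1 ψ.hom rfl
  rw [← Groth.Agent.CohqA.PullbackUniv.isUniv_iff_isIso] at h1
  have q1 : (F.obj.obj ζ.obj).IsQuasicoherent := F.property.2 _
  have q2 : (F.obj.obj ζ'.obj).IsQuasicoherent := F.property.2 _
  exact (Groth.Agent.CohqA.PullbackAffine.isUniv_iff_isBC (bmap 𝒳 ψ.hom) (F.obj.map ψ.hom rfl)).1 h1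

variable {C : ASieve 𝒳}

/-- The family of restrictions of a section. -/
noncomputable def toFam (F : Mod 𝒳) (C : ASieve 𝒳) (ξ : 𝒳.obj) (U : (sch 𝒳 ξ).Opens) :
    Γ(F.obj ξ, U) →+ BFam (rest F C) ξ U where
  toFun x := BFam.mk (fun ζ φ h => secX F φ U h x) (fun ζ' ζ ψ φ h => secX_comp F ψ.hom φ U h x)
  map_zero' := BFam.ext fun ζ φ h => map_zero _
  map_add' x y := BFam.ext fun ζ φ h => map_add _ _ _

theorem toFam_v (F : Mod 𝒳) (ξ : 𝒳.obj) (U : (sch 𝒳 ξ).Opens) (x : Γ(F.obj ξ, U)) (ζ : C.cat.obj)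
    (φ : ζ.obj ⟶ ξ) (h : InOp φ U) : (toFam F C ξ U x).v ζ φ h = secX F φ U h x := rfl

theorem toFam_smul (F : Mod 𝒳) (ξ : 𝒳.obj) (U : (sch 𝒳 ξ).Opens) (r : Γ(sch 𝒳 ξ, U)) (x : Γ(F.obj ξ, U)) :
    toFam F C ξ U (r • x) = r • toFam F C ξ U x := by
  ext ζ φ h
  exact secX_smul F φ U h r x

/-- Restriction along an open immersion from an affine object onto `U` is bijective. -/
theorem secX_bijective (F : QCoh 𝒳) {ζ ξ : 𝒳.obj} (φ : ζ ⟶ ξ) [hφ : IsOpenImmersion (bmap 𝒳 φ)]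
    [hA : IsAffine (sch 𝒳 ζ)] {U : (sch 𝒳 ξ).Opens} (hU : (bmap 𝒳 φ).opensRange = U) (h : InOp φ U) :
    Function.Bijective (secX F.obj φ U h) := by
  have h1 := F.property.1 φ rfl
  rw [← Groth.Agent.CohqA.PullbackUniv.isUniv_iff_isIso] at h1
  have q1 : (F.obj.obj ξ).IsQuasicoherent := F.property.2 _
  have hUa : IsAffineOpen U := by rw [← hU]; exact isAffineOpen_opensRange _
  have h2 := Groth.Agent.CohqA.PullbackSections.isBC_secMap (bmap 𝒳 φ) (F.obj.map φ rfl) h1 hUa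
    (isAffineOpen_top _) h
  -- the ring map is bijective
  have hb : Function.Bijective ((bmap 𝒳 φ).appLE U ⊤ h).hom := by
    subst hU
    have h1 : (bmap 𝒳 φ).opensRange = (bmap 𝒳 φ) ''ᵁ ⊤ := ((bmap 𝒳 φ).image_top_eq_opensRange).symm
    have h2 : IsIso ((bmap 𝒳 φ).appLE (bmap 𝒳 φ).opensRange ⊤ h) := by
      have h3 : (bmap 𝒳 φ).appLE (bmap 𝒳 φ).opensRange ⊤ h =
        (sch 𝒳 ξ).presheaf.map (eqToHom h1.symm).op ≫ ((bmap 𝒳 φ).appIso ⊤).hom := by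
        rw [Scheme.Hom.appIso_hom', Scheme.Hom.map_appLE]
      rw [h3]
      infer_instance
    exact ConcreteCategory.bijective_of_isIso ((bmap 𝒳 φ).appLE (bmap 𝒳 φ).opensRange ⊤ h)
  exact BC.bijective_of_bijective hb h2

section Charts

variable [hX : FibCat.IsFibGrpd 𝒳.p]

variable (C) in
/-- Charts: open immersions from objects of `C` landing in `U`. -/
def Chart (ξ : 𝒳.obj) (U : (sch 𝒳 ξ).Opens) : Type (max v w) :=
  {p : Σ η : C.cat.obj, (η.obj ⟶ ξ) // IsOpenImmersion (bmap 𝒳 p.2) ∧ InOp p.2 U}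

/-- The image of a chart. -/
noncomputable def Chart.rg {ξ : 𝒳.obj} {U : (sch 𝒳 ξ).Opens} (c : Chart C ξ U) : (sch 𝒳 ξ).Opens :=
  haveI := c.2.1
  (bmap 𝒳 c.1.2).opensRange

omit hX in
theorem Chart.rg_le {ξ : 𝒳.obj} {U : (sch 𝒳 ξ).Opens} (c : Chart C ξ U) : c.rg ≤ U := by
  rintro _ ⟨z, rfl⟩
  exact c.2.2.mem z

omit hX in
theorem Chart.inOp_rg {ξ : 𝒳.obj} {U : (sch 𝒳 ξ).Opens} (c : Chart C ξ U) : InOp c.1.2 c.rg := by
  intro z _
  exact ⟨z, rfl⟩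

theorem le_iSup_rg {ξ : 𝒳.obj} (hZ : ZLoc C ξ) (U : (sch 𝒳 ξ).Opens) : U ≤ ⨆ c : Chart C ξ U, c.rg := by
  intro x hx
  obtain ⟨ζ, φ, h1, h2, h3⟩ := hZ.exists_nhd U hx
  let c : Chart C ξ U := ⟨⟨ζ, φ⟩, h1, fun z _ => h3 ⟨z, rfl⟩⟩
  exact Opens.mem_iSup.2 ⟨c, h2⟩

omit hX in
theorem Chart.secX_bijective (F : QCoh 𝒳) {ξ : 𝒳.obj} {U : (sch 𝒳 ξ).Opens} (c : Chart C ξ U) :
    Function.Bijective (secX F.obj c.1.2 c.rg c.inOp_rg) := by
  haveI := c.2.1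
  haveI : IsAffine (sch 𝒳 c.1.1.obj) := C.aff c.1.1.property
  exact QSec.secX_bijective F c.1.2 rfl _

/-- Sections are determined on charts. -/
theorem sec_ext (F : QCoh 𝒳) {ξ : 𝒳.obj} (hZ : ZLoc C ξ) {U : (sch 𝒳 ξ).Opens} (x y : Γ(F.obj.obj ξ, U))
    (h : ∀ c : Chart C ξ U, secX F.obj c.1.2 U c.2.2 x = secX F.obj c.1.2 U c.2.2 y) : x = y := by
  refine BC.sec_ext (F.obj.obj ξ) (fun c : Chart C ξ U => c.rg) U (fun c => c.rg_le) (le_iSup_rg hZ U) x y ?_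
  intro c
  apply (c.secX_bijective F).1
  rw [secX_res, secX_res]
  exact h c

/-- Sections over `U` are the same as compatible families over `U`. -/
theorem toFam_bijective (F : QCoh 𝒳) {ξ : 𝒳.obj} (hZ : ZLoc C ξ) (U : (sch 𝒳 ξ).Opens) :
    Function.Bijective (toFam F.obj C ξ U) := by
  constructor
  · intro x y hxy
    refine sec_ext F hZ x y fun c => ?_
    exact congrArg (fun s : BFam (rest F.obj C) ξ U => s.v c.1.1 c.1.2 c.2.2) hxy
  · intro s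
    choose t ht using fun c : Chart C ξ U => (c.secX_bijective F).2 (s.v c.1.1 c.1.2 c.2.2)
    -- restriction of the chosen sections along arrows
    have key : ∀ (c : Chart C ξ U) (θ : C.cat.obj) (b : θ.obj ⟶ ξ) (h : InOp b c.rg) (hU : InOp b U),
        secX F.obj b c.rg h (t c) = s.v θ b hU := by
      intro c θ b h hU
      haveI := c.2.1
      obtain ⟨χ, hχ⟩ := exists_lift_of_inOp c.1.2 (U := c.rg) rfl b h
      let χ' : θ ⟶ c.1.1 := ObjectProperty.homMk χ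
      rw [← s.map_eq χ' c.1.2 c.2.2 b hU hχ, ← ht c]
      change _ = F.obj.mapTop χ _
      rw [secX_comp]
      exact secX_congr F.obj hχ.symm _ _ _ _
    obtain ⟨x, hx⟩ := BC.sec_glue (F.obj.obj ξ) (fun c : Chart C ξ U => c.rg) U (fun c => c.rg_le)
      (le_iSup_rg hZ U) t (by
        intro c d
        refine sec_ext F hZ _ _ fun e => ?_
        rw [secX_res, secX_res, key c _ _ _ (e.2.2.mono (inf_le_left.trans c.rg_le)),
          key d _ _ _ (e.2.2.mono (inf_le_left.trans c.rg_le))])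
    refine ⟨x, ?_⟩
    refine BFam.eq_of_open (rest F.obj C) (rest_isCart F C) hZ fun η a ha hoi => ?_
    let c : Chart C ξ U := ⟨⟨η, a⟩, hoi, ha⟩
    rw [toFam_v]
    change secX F.obj c.1.2 U c.2.2 x = s.v c.1.1 c.1.2 c.2.2
    rw [← ht c, ← hx c, secX_res]

/-- Sections over `U` as compatible families, linear form. -/
noncomputable def famEquiv (F : QCoh 𝒳) {ξ : 𝒳.obj} (hZ : ZLoc C ξ) (U : (sch 𝒳 ξ).Opens) :
    Γ(F.obj.obj ξ, U) ≃ₗ[Γ(sch 𝒳 ξ, U)] BFam (rest F.obj C) ξ U :=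
  LinearEquiv.ofBijective { toFam F.obj C ξ U with map_smul' := toFam_smul F.obj ξ U } (toFam_bijective F hZ U)

theorem famEquiv_v (F : QCoh 𝒳) {ξ : 𝒳.obj} (hZ : ZLoc C ξ) (U : (sch 𝒳 ξ).Opens) (x : Γ(F.obj.obj ξ, U))
    (ζ : C.cat.obj) (φ : ζ.obj ⟶ ξ) (h : InOp φ U) : (famEquiv F hZ U x).v ζ φ h = secX F.obj φ U h x := rfl

end Charts

end K908.QSec
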