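import Groth.Agent.StMod.K908.HopfDat
import Groth.Agent.StMod.K908.DenseSurj
import Groth.Agent.Magnet.K951.Pts

/-!
# Functions and modules on products with an affine scheme over an affine base
-/

set_option autoImplicit false
set_option linter.unusedVariables false
set_option linter.style.haveILetI false
set_option backward.isDefEq.respectTransparency false
set_option backward.isDefEq.respectTransparency.types false
set_option linter.dupNamespace false
set_option linter.unusedSectionVars false

universe u

open CategoryTheory CategoryTheory.Limits MonoidalCategory CartesianMonoidalCategory AlgebraicGeometry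
open Groth.Agent.CohqA.BaseChangeMod CoactBr
open scoped TensorProduct

namespace K908.QuotAff

open K951.Pts K908.HopfBC

attribute [local instance] K951.Pts.algΓ

variable {R : Type u} [CommRing R] {A : Type u} [CommRing A] [Algebra R A] {T : Over (Spec (CommRingCat.of R))}

theorem isPullback_left (T : Over (Spec (CommRingCat.of R))) (G : Over (Spec (CommRingCat.of R))) :
    IsPullback (fst T G).left (snd T G).left T.hom G.hom := by
  exact IsPullback.of_hasPullback T.hom G.hom

theorem isPushout_fn [IsAffine T.left] :
    IsPushout (CommRingCat.ofHom (algebraMap R A)) (CommRingCat.ofHom (algebraMap R Γ(T.left, ⊤)))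
      (CommRingCat.ofHom (fn (snd T (sp R A)) : A →+* Γ((T ⊗ sp R A).left, ⊤))) (fst T (sp R A)).left.appTop := by
  have h0 : IsAffine (sp R A).left := inferInstanceAs (IsAffine (Spec (CommRingCat.of A)))
  have h1 := isPushout_appTop_of_isPullback (isPullback_left T (sp R A))
  have h2 : IsPushout (CommRingCat.ofHom (algebraMap R A)) (Scheme.ΓSpecIso (CommRingCat.of R)).inv
      (Scheme.ΓSpecIso (CommRingCat.of A)).inv (sp R A).hom.appTop := by
    refine IsPushout.of_vert_isIso ⟨?_⟩
    exact (Scheme.ΓSpecIso_inv_naturality (CommRingCat.ofHom (algebraMap R A)))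
  exact h2.paste_vert h1.flip

/-- Sections over a product with an affine scheme. -/
theorem bijective_ten [IsAffine T.left] {P P1 : Type u} [AddCommGroup P] [Module R P] [Module Γ(T.left, ⊤) P]
    [IsScalarTower R Γ(T.left, ⊤) P] [AddCommGroup P1] [Module Γ((T ⊗ sp R A).left, ⊤) P1]
    (j : P →+ P1) (h : IsBC (fst T (sp R A)).left.appTop.hom j) (hj : RLin R Γ((T ⊗ sp R A).left, ⊤) j) :
    Function.Bijective (ten (fn (snd T (sp R A))) j hj) := by
  letI : Module A P1 := Module.compHom P1 (fn (snd T (sp R A)) : A →+* Γ((T ⊗ sp R A).left, ⊤))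
  letI : Module R P1 := Module.compHom P1 (algebraMap R A)
  have : IsScalarTower R A P1 := ⟨fun r a x => by
    change fn (snd T (sp R A)) (r • a) • x = fn (snd T (sp R A)) (algebraMap R A r) • fn (snd T (sp R A)) a • x
    rw [Algebra.smul_def, map_mul, mul_smul]⟩
  have h1 : IsBC (algebraMap R A) j := by
    refine K908.BC.isBC_of_isPushout (algebraMap R Γ(T.left, ⊤)) (algebraMap R A) (fst T (sp R A)).left.appTop.hom
      (fn (snd T (sp R A)) : A →+* Γ((T ⊗ sp R A).left, ⊤)) isPushout_fn
      (fun r m => (algebraMap_smul Γ(T.left, ⊤) r m).symm) (fun a m => rfl) h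
  let j' : P →ₗ[R] P1 := { j with map_smul' := fun r x => h1.map_smul r x }
  have h2 : IsBaseChange A j' := (isBC_iff_isBaseChange j').1 h1
  have h3 : ∀ z : P ⊗[R] A, ten (fn (snd T (sp R A))) j hj z = h2.equiv (TensorProduct.comm R P A z) := by
    intro z
    induction z with
    | zero => simp
    | add x y hx hy => rw [map_add, map_add, map_add, hx, hy]
    | tmul m a =>
      rw [TensorProduct.comm_tmul, IsBaseChange.equiv_tmul]
      rfl
  have h4 : (ten (fn (snd T (sp R A))) j hj : P ⊗[R] A → P1) =
      h2.equiv ∘ (TensorProduct.comm R P A) := funext h3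
  rw [h4]
  exact h2.equiv.bijective.comp (TensorProduct.comm R P A).bijective

end K908.QuotAff
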