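import Groth.Agent.StMod.K908.BG

/-!
# Trivial torsors with a point of `X` as objects of `[X/G]` and the arrows between them
-/

set_option autoImplicit false
set_option linter.unusedVariables false
set_option linter.style.haveILetI false
set_option backward.isDefEq.respectTransparency false
set_option backward.isDefEq.respectTransparency.types false
set_option linter.dupNamespace false
set_option linter.unusedSectionVars false

universe u

open CategoryTheory CategoryTheory.Limits MonoidalCategory CartesianMonoidalCategory MonObj GrpObj AlgebraicGeometry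
open StMod AlgSt K750.TorsPts K736.QuotTriv

namespace K908.QuotPt

open K907.Sec K908.Cmp

variable {S : Scheme.{u}} {G X : Over S} [GrpObj G] (aX : AlgGrp.Action G X)

/-- The object of `[X/G]` of a point of `X`. -/
noncomputable def tx {V : Over S} (x : V ⟶ X) : (QuotSt Scheme.fppfPrecoverage G aX).obj :=
  (quotMap Scheme.fppfPrecoverage G aX).obj ⟨V, ⟨x⟩⟩

theorem tx_base {V : Over S} (x : V ⟶ X) : (tx aX x).base = V := rfl

theorem tx_P {V : Over S} (x : V ⟶ X) : (tx aX x).P = G ⊗ V := rfl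

/-- The unit point. -/
noncomputable def uno {V : Over S} (x : V ⟶ X) : V ⟶ (tx aX x).P :=
  show V ⟶ G ⊗ V from lift (1 : V ⟶ G) (𝟙 V)

theorem uno_π {V : Over S} (x : V ⟶ X) : uno aX x ≫ (tx aX x).π = 𝟙 V := lift_snd _ _

theorem uno_φ {V : Over S} (x : V ⟶ X) : uno aX x ≫ (tx aX x).φ = x := by
  change lift (1 : V ⟶ G) (𝟙 V) ≫ (G ◁ x) ≫ aX.act = x
  rw [lift_whiskerLeft_assoc, Category.id_comp]
  exact lift_one_act aX x

variable {aX}

/-- The arrow attached to a morphism `f` and a group element `g` with `g · x(f) = x'`. -/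
noncomputable def ar {V' V : Over S} (x' : V' ⟶ X) (x : V ⟶ X) (f : V' ⟶ V) (g : V' ⟶ G)
    (h : act aX g (f ≫ x) = x') : tx aX x' ⟶ tx aX x where
  base := f
  top := rmul g f
  eqv := rmul_eqv g f
  cart := isPullback_rmul g f
  wφ := rmul_act aX f x' x g h

theorem ar_base {V' V : Over S} (x' : V' ⟶ X) (x : V ⟶ X) (f : V' ⟶ V) (g : V' ⟶ G)
    (h : act aX g (f ≫ x) = x') : (ar x' x f g h).base = f := rfl

theorem uno_ar {V' V : Over S} (x' : V' ⟶ X) (x : V ⟶ X) (f : V' ⟶ V) (g : V' ⟶ G)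
    (h : act aX g (f ≫ x) = x') : uno aX x' ≫ (ar x' x f g h).top = act (tx aX x).act g (f ≫ uno aX x) := by
  change lift (1 : V' ⟶ G) (𝟙 V') ≫ rmul g f = lift g (f ≫ lift (1 : V ⟶ G) (𝟙 V)) ≫ (leftMul G V).act
  rw [lift_rmul, comp_lift, comp_one, Category.comp_id, leftMul_act_pt]
  simp

theorem ar_comp {V'' V' V : Over S} (x'' : V'' ⟶ X) (x' : V' ⟶ X) (x : V ⟶ X) (f' : V'' ⟶ V') (f : V' ⟶ V)
    (g' : V'' ⟶ G) (g : V' ⟶ G) (h' : act aX g' (f' ≫ x') = x'') (h : act aX g (f ≫ x) = x')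
    (h'' : act aX (g' * (f' ≫ g)) ((f' ≫ f) ≫ x) = x'') :
    ar x'' x' f' g' h' ≫ ar x' x f g h = ar x'' x (f' ≫ f) (g' * (f' ≫ g)) h'' := by
  apply QuotObj.hom_ext
  · rfl
  · change rmul g' f' ≫ rmul g f = rmul (g' * (f' ≫ g)) (f' ≫ f)
    apply hom_eq
    intro W a t
    rw [← Category.assoc, lift_rmul, lift_rmul, lift_rmul]
    simp only [comp_mul, Category.assoc, _root_.mul_assoc]

theorem act_comp {V'' V' V : Over S} {x'' : V'' ⟶ X} {x' : V' ⟶ X} {x : V ⟶ X} {f' : V'' ⟶ V'} {f : V' ⟶ V}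
    {g' : V'' ⟶ G} {g : V' ⟶ G} (h' : act aX g' (f' ≫ x') = x'') (h : act aX g (f ≫ x) = x') :
    act aX (g' * (f' ≫ g)) ((f' ≫ f) ≫ x) = x'' := by
  rw [act_mul, Category.assoc, ← comp_act, h, h']

theorem ar_trans {V'' V' V : Over S} {x'' : V'' ⟶ X} {x' : V' ⟶ X} {x : V ⟶ X} {f' : V'' ⟶ V'} {f : V' ⟶ V}
    {g' : V'' ⟶ G} {g : V' ⟶ G} (h' : act aX g' (f' ≫ x') = x'') (h : act aX g (f ≫ x) = x') :
    ar x'' x' f' g' h' ≫ ar x' x f g h = ar x'' x (f' ≫ f) (g' * (f' ≫ g)) (act_comp h' h) :=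
  ar_comp _ _ _ _ _ _ _ _ _ _

theorem ar_congr {V' V : Over S} {x' : V' ⟶ X} {x : V ⟶ X} {f f' : V' ⟶ V} {g g' : V' ⟶ G}
    (h : act aX g (f ≫ x) = x') (h' : act aX g' (f' ≫ x) = x') (hf : f = f') (hg : g = g') :
    ar x' x f g h = ar x' x f' g' h' := by
  subst hf; subst hg; rfl

theorem ar_id {V : Over S} (x : V ⟶ X) (h : act aX 1 (𝟙 V ≫ x) = x) : ar x x (𝟙 V) 1 h = 𝟙 (tx aX x) := by
  apply QuotObj.hom_ext
  · rfl
  · exact BG.rmul_one V

/-- Every arrow between these objects is of this form. -/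
theorem exists_ar {V' V : Over S} {x' : V' ⟶ X} {x : V ⟶ X} (k : tx aX x' ⟶ tx aX x) :
    ∃ (f : V' ⟶ V) (g : V' ⟶ G) (h : act aX g (f ≫ x) = x'), k = ar x' x f g h := by
  obtain ⟨g, hg, ht⟩ := exists_rightMul (G := G) aX (T := V') (T' := V) k.base x' x k.top k.cart.w k.eqv k.wφ
  refine ⟨k.base, g, hg, ?_⟩
  apply QuotObj.hom_ext
  · rfl
  · exact ht

/-- The arrow out of `tx` attached to a point of the torsor. -/
theorem exists_ofPt {V : Over S} (A : (QuotSt Scheme.fppfPrecoverage G aX).obj) (p : V ⟶ A.P) :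
    ∃ k : tx aX (p ≫ A.φ) ⟶ A, k.base = p ≫ A.π ∧ uno aX (p ≫ A.φ) ≫ k.top = p :=
  exists_hom_of_section (A := tx aX (p ≫ A.φ)) (B := A) (p ≫ A.π) (uno aX (p ≫ A.φ)) (uno_π _ _) p rfl
    (uno_φ aX _).symm

end K908.QuotPt
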