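import Groth.Agent.StMod.K908.QuotAff
import Groth.Agent.StMod.K908.QuotPt

/-!
# The quasi-coherent module on `[Spec B / G]` of a `(B, A)`-module
-/

set_option autoImplicit false
set_option linter.unusedVariables false
set_option linter.style.haveILetI false
set_option backward.isDefEq.respectTransparency false
set_option backward.isDefEq.respectTransparency.types false
set_option linter.dupNamespace false
set_option linter.unusedSectionVars false

universe u

open CategoryTheory CategoryTheory.Limits MonoidalCategory CartesianMonoidalCategory MonObj AlgebraicGeometry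
open Groth.Agent.CohqA.BaseChangeMod CoactBr AlgSt StMod K750.TorsPts
open scoped TensorProduct

namespace K908.QuotQ

open K951.Pts K908.HopfBC K908.QuotAff K908.QuotPt K908.AMod K908.Desc K908.QHom K908.QSec K908.Dense K907.Sec

attribute [local instance] K951.Pts.algΓ

section Choice

variable {Q Q' : Type u} [CommRing Q] [CommRing Q'] (φ : Q →+* Q') (M : Type u) [AddCommGroup M] [Module Q M]

/-- A chosen base change. -/
def BCT : Type u := (exists_isBC φ M).choose

noncomputable instance : AddCommGroup (BCT φ M) := (exists_isBC φ M).choose_spec.choose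

noncomputable instance : Module Q' (BCT φ M) := (exists_isBC φ M).choose_spec.choose_spec.choose

/-- The map to the chosen base change. -/
noncomputable def bcι : M →+ BCT φ M := (exists_isBC φ M).choose_spec.choose_spec.choose_spec.choose

theorem isBC_bcι : IsBC φ (bcι φ M) := (exists_isBC φ M).choose_spec.choose_spec.choose_spec.choose_spec

end Choice

section Points

variable {R : Type u} [CommRing R]

/-- Functions along a morphism, as an algebra map. -/
noncomputable def gal {T' T : Over (Spec (CommRingCat.of R))} (f : T' ⟶ T) : Γ(T.left, ⊤) →ₐ[R] Γ(T'.left, ⊤) where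
  __ := f.left.appTop.hom
  commutes' r := by
    change f.left.appTop.hom (fnS T.hom r) = fnS T'.hom r
    rw [← fnS_comp_apply, Over.w]

theorem gal_apply {T' T : Over (Spec (CommRingCat.of R))} (f : T' ⟶ T) (r : Γ(T.left, ⊤)) :
    gal f r = f.left.appTop.hom r := rfl

variable {A B : Type u} [CommRing A] [HopfAlgebra R A] [CommRing B] [Algebra R B]

theorem gal_fn {T' T : Over (Spec (CommRingCat.of R))} (f : T' ⟶ T) (w : T ⟶ sp R B) :
    (gal f).comp (fn w) = fn (f ≫ w) := by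
  apply AlgHom.ext
  intro b
  exact (fn_comp f w b).symm

theorem fn_gmul {T : Over (Spec (CommRingCat.of R))} (g h : T ⟶ sp R A) : fn (g * h) = gmul (fn g) (fn h) :=
  fn_mul g h

variable [HopfRep.Comod R A B] [GLin.IsCoactAlg R A B]

theorem fn_ract {T : Over (Spec (CommRingCat.of R))} (x : T ⟶ sp R B) (g : T ⟶ sp R A) :
    fn (lift x g ≫ ract R A B) = pact (fn x) (fn g) := by
  rw [← aff_comp_pt x, ← aff_comp_pt g, ← comp_lift, Category.assoc, lift_pt_ract, fn_comp_pt, fn_aff, AlgHom.id_comp,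
    aff_comp_pt, aff_comp_pt]
  rfl

theorem act_eq_ract {T : Over (Spec (CommRingCat.of R))} (x : T ⟶ sp R B) (g : T ⟶ sp R A) :
    act (action R A B) g x = lift x g⁻¹ ≫ ract R A B := lift_action_act g x

theorem fn_act {T : Over (Spec (CommRingCat.of R))} (x : T ⟶ sp R B) (g : T ⟶ sp R A) :
    pact (fn (act (action R A B) g x)) (fn g) = fn x := by
  rw [← fn_ract, act_eq_ract, lift_ract_ract, inv_mul_cancel, lift_one_ract]

end Points

variable (R A B : Type u) [CommRing R] [CommRing A] [HopfAlgebra R A] [Module.Flat R A]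
  [CommRing B] [Algebra R B] [HopfRep.Comod R A B] [GLin.IsCoactAlg R A B]

/-- The quotient stack. -/
noncomputable abbrev QX : BasedCategory.{u, u + 1} (Over (Spec (CommRingCat.of R))) :=
  QuotSt Scheme.fppfPrecoverage (sp R A) (action R A B)

noncomputable instance isFibGrpdQX : FibCat.IsFibGrpd (QX R A B).p := K744.QuotFib.isFibGrpd

instance affG : IsAffineHom (sp R A).hom := by
  change IsAffineHom (Spec.map (CommRingCat.ofHom (algebraMap R A)))
  infer_instance

instance flatG : Flat (sp R A).hom := by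
  change Flat (Spec.map (CommRingCat.ofHom (algebraMap R A)))
  rw [Flat.SpecMap_iff]
  exact (RingHom.flat_algebraMap_iff).2 inferInstance

/-- The objects over affine schemes whose torsor has a section. -/
def cov : ASieve (QX R A B) where
  P ζ := IsAffine ζ.base.left ∧ ∃ s : ζ.base ⟶ ζ.P, s ≫ ζ.π = 𝟙 _
  aff _ h := h.1
  down ζ' ζ c h ha := ⟨ha, by
    obtain ⟨-, s, hs⟩ := h
    exact ⟨c.cart.lift (c.base ≫ s) (𝟙 _) (by rw [Category.assoc, hs, Category.comp_id, Category.id_comp]),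
      c.cart.lift_snd _ _ _⟩⟩

theorem dense_cov : Dense (cov R A B) := by
  intro y hy
  have hy' : IsAffine y.base.left := hy
  have h1 := K744.TorsProp.isAffineHom_of_torsor y
  have h2 := K744.TorsProp.flat_of_torsor y
  have h3 := K744.TorsProp.surjective_of_torsor y
  have h4 : IsAffine y.P.left := isAffine_of_isAffineHom y.π.left
  obtain ⟨k, hk, -⟩ := exists_ofPt y (𝟙 y.P)
  replace hk : k.base = y.π := hk.trans (Category.id_comp _)
  refine ⟨⟨tx (action R A B) (𝟙 y.P ≫ y.φ), h4, uno _ _, uno_π _ _⟩, k, ?_⟩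
  exact ⟨by change Flat k.base.left; rw [hk]; exact h2, by change Surjective k.base.left; rw [hk]; exact h3⟩

variable {R A B}

/-- The chosen section. -/
noncomputable def sct (ζ : (cov R A B).cat.obj) : ζ.obj.base ⟶ ζ.obj.P := ζ.property.2.choose

theorem sct_π (ζ : (cov R A B).cat.obj) : sct ζ ≫ ζ.obj.π = 𝟙 _ := ζ.property.2.choose_spec

/-- The chosen point of `X`. -/
noncomputable def px (ζ : (cov R A B).cat.obj) : ζ.obj.base ⟶ sp R B := sct ζ ≫ ζ.obj.φ

/-- The group element comparing the chosen sections along an arrow. -/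
theorem exists_gc {ζ' ζ : (cov R A B).cat.obj} (c : ζ' ⟶ ζ) :
    ∃! g : ζ'.obj.base ⟶ sp R A, act ζ.obj.act g (c.hom.base ≫ sct ζ) = sct ζ' ≫ c.hom.top :=
  existsUnique_act ζ.obj.act ζ.obj.cart _ _ (by
    rw [Category.assoc, Category.assoc, sct_π, c.hom.cart.w, ← Category.assoc, sct_π, Category.id_comp,
      Category.comp_id])

/-- The group element comparing the chosen sections along an arrow. -/
noncomputable def gc {ζ' ζ : (cov R A B).cat.obj} (c : ζ' ⟶ ζ) : ζ'.obj.base ⟶ sp R A := (exists_gc c).choose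

theorem act_gc {ζ' ζ : (cov R A B).cat.obj} (c : ζ' ⟶ ζ) :
    act ζ.obj.act (gc c) (c.hom.base ≫ sct ζ) = sct ζ' ≫ c.hom.top := (exists_gc c).choose_spec.1

theorem gc_unique {ζ' ζ : (cov R A B).cat.obj} (c : ζ' ⟶ ζ) (g : ζ'.obj.base ⟶ sp R A)
    (h : act ζ.obj.act g (c.hom.base ≫ sct ζ) = sct ζ' ≫ c.hom.top) : gc c = g :=
  (exists_gc c).unique (act_gc c) h

theorem px_gc {ζ' ζ : (cov R A B).cat.obj} (c : ζ' ⟶ ζ) :
    act (action R A B) (gc c) (c.hom.base ≫ px ζ) = px ζ' := by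
  rw [px, px, ← Category.assoc c.hom.base, ← act_eqv ζ.obj.act _ ζ.obj.φ ζ.obj.eqv, act_gc, Category.assoc, c.hom.wφ]

theorem gc_id (ζ : (cov R A B).cat.obj) : gc (𝟙 ζ) = 1 := by
  apply gc_unique
  rw [act_one]
  exact (Category.id_comp _).trans (Category.comp_id _).symm

theorem gc_comp {ζ'' ζ' ζ : (cov R A B).cat.obj} (c' : ζ'' ⟶ ζ') (c : ζ' ⟶ ζ) :
    gc (c' ≫ c) = gc c' * (c'.hom.base ≫ gc c) := by
  apply gc_unique
  have e1 : (c' ≫ c).hom.base = c'.hom.base ≫ c.hom.base := rfl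
  have e2 : (c' ≫ c).hom.top = c'.hom.top ≫ c.hom.top := rfl
  rw [e1, e2, act_mul, Category.assoc, ← comp_act, act_gc, ← Category.assoc, ← Category.assoc,
    ← act_eqv ζ'.obj.act ζ.obj.act c.hom.top c.hom.eqv, act_gc]

theorem pact_gc {ζ' ζ : (cov R A B).cat.obj} (c : ζ' ⟶ ζ) :
    pact (fn (px ζ')) (fn (gc c)) = (gal c.hom.base).comp (fn (px ζ)) := by
  rw [gal_fn, ← px_gc c, fn_act]

section Mod

variable (M : Type u) [AddCommGroup M] [Module R M] [Module B M] [IsScalarTower R B M]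
  [HopfRep.Comod R A M] [TameAct.IsHopfMod R A B M]
  (M' : Type u) [AddCommGroup M'] [Module R M'] [Module B M'] [IsScalarTower R B M']
  [HopfRep.Comod R A M'] [TameAct.IsHopfMod R A B M']

/-- The value of the family. -/
abbrev NM (ζ : (cov R A B).cat.obj) : Type u := BCT (fn (px ζ) : B →+* Γ(ζ.obj.base.left, ⊤)) M

/-- The canonical map. -/
noncomputable def io (ζ : (cov R A B).cat.obj) : M →+ NM M ζ := bcι (fn (px ζ) : B →+* Γ(ζ.obj.base.left, ⊤)) M

theorem isBC_io (ζ : (cov R A B).cat.obj) : IsBC (fn (px ζ) : B →+* Γ(ζ.obj.base.left, ⊤)) (io M ζ) := isBC_bcι _ _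

theorem rlin_io (ζ : (cov R A B).cat.obj) : RLin R Γ(ζ.obj.base.left, ⊤) (io M ζ) :=
  rlin_of_semi (fn (px ζ)) (io M ζ) (isBC_io M ζ).map_smul

theorem exists_mapN {ζ' ζ : (cov R A B).cat.obj} (c : ζ' ⟶ ζ) :
    ∃ t : NM M ζ →+ NM M ζ', (∀ (r : Γ(ζ.obj.base.left, ⊤)) (x : NM M ζ), t (r • x) = gal c.hom.base r • t x) ∧
      ∀ m, t (io M ζ m) = tw (fn (gc c)) (io M ζ') (rlin_io M ζ') m := by
  obtain ⟨t, h1, h2⟩ := exists_semi (isBC_io M ζ) (gal c.hom.base : Γ(ζ.obj.base.left, ⊤) →+* Γ(ζ'.obj.base.left, ⊤))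
    (tw (fn (gc c)) (io M ζ') (rlin_io M ζ')) (by
      intro b m
      rw [tw_semi (fn (px ζ')) (fn (gc c)) (io M ζ') (isBC_io M ζ').map_smul, pact_gc]
      rfl)
  exact ⟨t, h1, h2⟩

/-- The restriction maps. -/
noncomputable def mapN {ζ' ζ : (cov R A B).cat.obj} (c : ζ' ⟶ ζ) : NM M ζ →+ NM M ζ' := (exists_mapN M c).choose

theorem mapN_smul {ζ' ζ : (cov R A B).cat.obj} (c : ζ' ⟶ ζ) (r : Γ(ζ.obj.base.left, ⊤)) (x : NM M ζ) :
    mapN M c (r • x) = gal c.hom.base r • mapN M c x := (exists_mapN M c).choose_spec.1 r x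

theorem mapN_io {ζ' ζ : (cov R A B).cat.obj} (c : ζ' ⟶ ζ) (m : M) :
    mapN M c (io M ζ m) = tw (fn (gc c)) (io M ζ') (rlin_io M ζ') m := (exists_mapN M c).choose_spec.2 m

theorem mapN_ext {ζ' ζ : (cov R A B).cat.obj} (c : ζ'.obj.base ⟶ ζ.obj.base) (t t' : NM M ζ →+ NM M ζ')
    (ht : ∀ (r : Γ(ζ.obj.base.left, ⊤)) (x : NM M ζ), t (r • x) = gal c r • t x)
    (ht' : ∀ (r : Γ(ζ.obj.base.left, ⊤)) (x : NM M ζ), t' (r • x) = gal c r • t' x)
    (h : ∀ m, t (io M ζ m) = t' (io M ζ m)) : t = t' :=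
  semi_ext (isBC_io M ζ) (gal c : Γ(ζ.obj.base.left, ⊤) →+* Γ(ζ'.obj.base.left, ⊤)) t t' ht ht' h

/-- The general form of the values of the restriction maps. -/
theorem mapN_tw {ζ' ζ : (cov R A B).cat.obj} (c : ζ' ⟶ ζ) (h : ζ.obj.base ⟶ sp R A) (m : M) :
    mapN M c (tw (fn h) (io M ζ) (rlin_io M ζ) m) =
      tw (fn (gc c * (c.hom.base ≫ h))) (io M ζ') (rlin_io M ζ') m := by
  have h1 : RLin R Γ(ζ'.obj.base.left, ⊤) ((mapN M c).comp (io M ζ)) :=
    rlin_comp (gal c.hom.base) (mapN M c) (mapN_smul M c) _ (rlin_io M ζ)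
  rw [tw_nat (gal c.hom.base) (mapN M c) (mapN_smul M c) (fn h) (io M ζ) (rlin_io M ζ) h1, fn_gmul,
    ← tw_tw (fn (gc c)) (fn (c.hom.base ≫ h)) (io M ζ') (rlin_io M ζ') (rlin_tw _ _ _)]
  exact tw_congr _ _ (gal_fn _ _) (AddMonoidHom.ext (mapN_io M c)) m

theorem mapN_id (ζ : (cov R A B).cat.obj) : mapN M (𝟙 ζ) = AddMonoidHom.id _ := by
  have e : ∀ r : Γ(ζ.obj.base.left, ⊤), gal (𝟙 ζ.obj.base) r = r := by
    intro r
    rw [gal_apply]
    change (𝟙 ζ.obj.base.left : ζ.obj.base.left ⟶ _).appTop.hom r = r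
    rw [Scheme.Hom.id_appTop]
    rfl
  refine mapN_ext M (𝟙 ζ.obj.base) _ _ (mapN_smul M (𝟙 ζ)) (fun r x => ?_) fun m => ?_
  · rw [e]; rfl
  · rw [mapN_io]
    refine (tw_congr _ (rlin_io M ζ) ?_ rfl m).trans (tw_one _ _ _)
    rw [gc_id, fn_one]

theorem mapN_comp {ζ'' ζ' ζ : (cov R A B).cat.obj} (c' : ζ'' ⟶ ζ') (c : ζ' ⟶ ζ) :
    mapN M (c' ≫ c) = (mapN M c').comp (mapN M c) := by
  refine mapN_ext M (c'.hom.base ≫ c.hom.base) _ _ (mapN_smul M (c' ≫ c)) (fun r x => ?_) fun m => ?_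
  · change mapN M c' (mapN M c (r • x)) = _ • mapN M c' (mapN M c x)
    rw [mapN_smul, mapN_smul]
    congr 1
  · change _ = mapN M c' (mapN M c (io M ζ m))
    rw [mapN_io, mapN_io, mapN_tw, gc_comp]

/-- The family of modules on the objects with a section. -/
noncomputable def aN : AMod (cov R A B).cat where
  obj ζ := NM M ζ
  grp ζ := inferInstance
  mod ζ := inferInstanceAs (Module Γ(ζ.obj.base.left, ⊤) (NM M ζ))
  map c := mapN M c
  map_smul c r x := mapN_smul M c r x
  map_id ζ x := DFunLike.congr_fun (mapN_id M ζ) x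
  map_comp c' c x := DFunLike.congr_fun (mapN_comp M c' c) x

theorem aN_isCart : (aN (R := R) (A := A) (B := B) M).IsCart := by
  intro ζ' ζ c
  have h1 : IsBC ((gal c.hom.base : Γ(ζ.obj.base.left, ⊤) →+* Γ(ζ'.obj.base.left, ⊤)).comp
      (fn (px ζ) : B →+* Γ(ζ.obj.base.left, ⊤))) ((mapN M c).comp (io M ζ)) := by
    have h2 := isBC_tw (fn (px ζ')) (fn (gc c)) (io M ζ') (isBC_io M ζ') (rlin_io M ζ')
    rw [pact_gc] at h2
    have h3 : (mapN M c).comp (io M ζ) = tw (fn (gc c)) (io M ζ') (rlin_io M ζ') := AddMonoidHom.ext (mapN_io M c)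
    rw [h3]
    exact h2
  exact ((isBC_io M ζ).comp_iff (mapN_smul M c)).1 h1

/-- The quasi-coherent module of a `(B, A)`-module. -/
noncomputable def QM : QCoh (QX R A B) := (exists_qcoh (dense_cov R A B) (aN M) (aN_isCart M)).choose

/-- The comparison with the family. -/
noncomputable def tM : AHom (rest (QM (R := R) (A := A) (B := B) M).obj (cov R A B)) (aN M) :=
  (exists_qcoh (dense_cov R A B) (aN M) (aN_isCart M)).choose_spec.choose

theorem tM_bijective (ζ : (cov R A B).cat.obj) : Function.Bijective ((tM M).app ζ) :=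
  (exists_qcoh (dense_cov R A B) (aN M) (aN_isCart M)).choose_spec.choose_spec ζ

/-- The object of a point of `X` over an affine scheme. -/
noncomputable def zx {V : Over (Spec (CommRingCat.of R))} (hV : IsAffine V.left) (x : V ⟶ sp R B) :
    (cov R A B).cat.obj := ⟨tx (action R A B) x, hV, uno _ _, uno_π _ _⟩

theorem exists_kx {V : Over (Spec (CommRingCat.of R))} (hV : IsAffine V.left) (x : V ⟶ sp R B) :
    ∃ k : V ⟶ sp R A, act (tx (action R A B) x).act k (uno (action R A B) x) = sct (zx (A := A) hV x) := by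
  obtain ⟨g, hg, -⟩ := existsUnique_act (tx (action R A B) x).act (tx (action R A B) x).cart
    (uno (action R A B) x) (sct (zx (A := A) hV x)) (by
      rw [uno_π]
      exact sct_π (zx (A := A) hV x))
  exact ⟨g, hg⟩

/-- The group element comparing the chosen section with the unit section. -/
noncomputable def kx {V : Over (Spec (CommRingCat.of R))} (hV : IsAffine V.left) (x : V ⟶ sp R B) : V ⟶ sp R A :=
  (exists_kx (A := A) hV x).choose

theorem act_kx {V : Over (Spec (CommRingCat.of R))} (hV : IsAffine V.left) (x : V ⟶ sp R B) :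
    act (tx (action R A B) x).act (kx (A := A) hV x) (uno (action R A B) x) = sct (zx (A := A) hV x) :=
  (exists_kx (A := A) hV x).choose_spec

theorem act_kx_px {V : Over (Spec (CommRingCat.of R))} (hV : IsAffine V.left) (x : V ⟶ sp R B) :
    act (action R A B) (kx (A := A) hV x) x = px (zx (A := A) hV x) := by
  have h1 : px (zx (A := A) hV x) = sct (zx (A := A) hV x) ≫ (tx (action R A B) x).φ := rfl
  rw [h1, ← act_kx hV x, act_eqv _ _ _ (tx (action R A B) x).eqv, uno_φ]

/-- The comparison map at the object of a point. -/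
noncomputable def EN {V : Over (Spec (CommRingCat.of R))} (hV : IsAffine V.left) (x : V ⟶ sp R B) :
    M →+ NM M (zx (A := A) hV x) :=
  tw (fn (kx (A := A) hV x)) (io M (zx (A := A) hV x)) (rlin_io M (zx (A := A) hV x))

theorem isBC_EN {V : Over (Spec (CommRingCat.of R))} (hV : IsAffine V.left) (x : V ⟶ sp R B) :
    IsBC (fn x : B →+* Γ(V.left, ⊤)) (EN (A := A) M hV x) := by
  have h2 := isBC_tw (fn (px (zx (A := A) hV x))) (fn (kx (A := A) hV x)) (io M (zx (A := A) hV x)) (isBC_io M _) (rlin_io M _)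
  have h3 : pact (fn (px (zx (A := A) hV x))) (fn (kx (A := A) hV x)) = fn x := by
    rw [← act_kx_px, fn_act]
  rw [h3] at h2
  exact h2

theorem mapN_EN {V' V : Over (Spec (CommRingCat.of R))} (hV' : IsAffine V'.left) (hV : IsAffine V.left)
    (x' : V' ⟶ sp R B) (x : V ⟶ sp R B) (f : V' ⟶ V) (g : V' ⟶ sp R A) (h : act (action R A B) g (f ≫ x) = x')
    (hE : RLin R Γ(V'.left, ⊤) (EN (A := A) M hV' x')) (m : M) :
    mapN M (ζ' := zx (A := A) hV' x') (ζ := zx (A := A) hV x) (ObjectProperty.homMk (ar x' x f g h)) (EN (A := A) M hV x m) =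
      tw (fn g) (EN (A := A) M hV' x') hE m := by
  let c : zx (A := A) hV' x' ⟶ zx (A := A) hV x := ObjectProperty.homMk (ar x' x f g h)
  have hb : c.hom.base = f := rfl
  have e : (show V' ⟶ sp R A from gc c) * (f ≫ kx (A := A) hV x) = kx (A := A) hV' x' * g := by
    apply act_left_cancel (tx (action R A B) x).act (tx (action R A B) x).cart (f ≫ uno (action R A B) x)
    rw [act_mul, ← comp_act, act_kx, act_mul, ← uno_ar x' x f g h]
    rw [← act_eqv (tx (action R A B) x').act (tx (action R A B) x).act _ (ar x' x f g h).eqv, act_kx]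
    exact act_gc c
  refine (mapN_tw M c (kx (A := A) hV x) m).trans ?_
  rw [hb, e, fn_gmul]
  exact (tw_tw (fn (kx (A := A) hV' x')) (fn g) (io M (zx (A := A) hV' x')) (rlin_io M _) (rlin_tw _ _ _) m).symm

/-- The linear equivalence with the family. -/
noncomputable def eM (ζ : (cov R A B).cat.obj) :
    Γ((QM (R := R) (A := A) (B := B) M).obj.obj ζ.obj, ⊤) ≃ₗ[Γ(ζ.obj.base.left, ⊤)] NM M ζ :=
  LinearEquiv.ofBijective (show Γ((QM (R := R) (A := A) (B := B) M).obj.obj ζ.obj, ⊤) →ₗ[Γ(ζ.obj.base.left, ⊤)] NM M ζ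
    from (tM M).app ζ) (tM_bijective M ζ)

theorem eM_map {ζ' ζ : (cov R A B).cat.obj} (c : ζ' ⟶ ζ)
    (x : Γ((QM (R := R) (A := A) (B := B) M).obj.obj ζ.obj, ⊤)) :
    eM M ζ' ((QM M).obj.mapTop c.hom x) = mapN M c (eM M ζ x) :=
  (tM M).comm c x

/-- The comparison map. -/
noncomputable def EM {V : Over (Spec (CommRingCat.of R))} (hV : IsAffine V.left) (x : V ⟶ sp R B) :
    M →+ Γ((QM M).obj.obj (tx (action R A B) x), ⊤) :=
  (eM M (zx (A := A) hV x)).symm.toLinearMap.toAddMonoidHom.comp (EN (A := A) M hV x)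

theorem eM_EM {V : Over (Spec (CommRingCat.of R))} (hV : IsAffine V.left) (x : V ⟶ sp R B) (m : M) :
    eM M (zx (A := A) hV x) (EM M hV x m) = EN (A := A) M hV x m :=
  (eM M (zx (A := A) hV x)).apply_symm_apply _

theorem isBC_EM {V : Over (Spec (CommRingCat.of R))} (hV : IsAffine V.left) (x : V ⟶ sp R B) :
    IsBC (fn x : B →+* Γ(V.left, ⊤)) (EM (A := A) M hV x) :=
  (isBC_EN (A := A) M hV x).of_equiv (eM M (zx (A := A) hV x)).symm (fun m => rfl)

theorem rlin_EM {V : Over (Spec (CommRingCat.of R))} (hV : IsAffine V.left) (x : V ⟶ sp R B) :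
    RLin R Γ(V.left, ⊤) (EM (A := A) M hV x) :=
  rlin_of_semi (fn x) _ (isBC_EM M hV x).map_smul

theorem rlin_EN {V : Over (Spec (CommRingCat.of R))} (hV : IsAffine V.left) (x : V ⟶ sp R B) :
    RLin R Γ(V.left, ⊤) (EN (A := A) M hV x) :=
  rlin_of_semi (fn x) _ (isBC_EN M hV x).map_smul

theorem mapTop_EM {V' V : Over (Spec (CommRingCat.of R))} (hV' : IsAffine V'.left) (hV : IsAffine V.left)
    (x' : V' ⟶ sp R B) (x : V ⟶ sp R B) (f : V' ⟶ V) (g : V' ⟶ sp R A) (h : act (action R A B) g (f ≫ x) = x')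
    (m : M) :
    (QM M).obj.mapTop (ar x' x f g h) (EM (A := A) M hV x m) =
      tw (fn g) (EM (A := A) M hV' x') (rlin_EM M hV' x') m := by
  apply (eM M (zx (A := A) hV' x')).injective
  refine (eM_map M (ζ' := zx (A := A) hV' x') (ζ := zx (A := A) hV x) (ObjectProperty.homMk (ar x' x f g h)) (EM (A := A) M hV x m)).trans ?_
  rw [eM_EM, mapN_EN M hV' hV x' x f g h (rlin_EN M hV' x')]
  refine Eq.trans ?_ (tw_linear  (eM M (zx (A := A) hV' x')).toLinearMap (fn g) (EM (A := A) M hV' x') (rlin_EM M hV' x')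
    (fun r m => by
      change eM M (zx (A := A) hV' x') (EM M hV' x' (r • m)) = _ • eM M (zx (A := A) hV' x') (EM M hV' x' m)
      rw [eM_EM, eM_EM]
      exact rlin_EN M hV' x' r m) m).symm
  refine tw_congr _ _ rfl ?_ m
  ext m
  exact (eM_EM M hV' x' m).symm

/-- Fixed vectors give compatible families. -/
theorem exists_fixed (n : M) (hn : n ∈ HopfRep.fixedPts R A M) :
    ∃ s : ∀ ζ : (cov R A B).cat.obj, Γ((QM (R := R) (A := A) (B := B) M).obj.obj ζ.obj, ⊤),
      (∀ ⦃ζ' ζ : (cov R A B).cat.obj⦄ (c : ζ' ⟶ ζ), (QM M).obj.mapTop c.hom (s ζ) = s ζ') ∧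
        ∀ {V : Over (Spec (CommRingCat.of R))} (hV : IsAffine V.left) (x : V ⟶ sp R B),
          s (zx (A := A) hV x) = EM M hV x n := by
  refine ⟨fun ζ => (eM M ζ).symm (io M ζ n), ?_, ?_⟩
  · intro ζ' ζ c
    rw [LinearEquiv.eq_symm_apply, eM_map, LinearEquiv.apply_symm_apply]
    exact (mapN_io M c n).trans (tw_of_fixed _ _ _ hn)
  · intro V hV x
    rw [LinearEquiv.symm_apply_eq, eM_EM]
    exact (tw_of_fixed _ _ _ hn).symm

section Hom

variable {M M'} (f : M →ₗ[B] M') (hf : Hoch.IsComodHom A (f.restrictScalars R))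

/-- The map of families. -/
theorem exists_homN (ζ : (cov R A B).cat.obj) :
    ∃ t : NM M ζ →ₗ[Γ(ζ.obj.base.left, ⊤)] NM M' ζ, ∀ m, t (io M ζ m) = io M' ζ (f m) := by
  obtain ⟨t, ht, -⟩ := (isBC_io M ζ).lift (NM M' ζ) ((io M' ζ).comp f.toAddMonoidHom) (fun b m => by
    change io M' ζ (f (b • m)) = _
    rw [f.map_smul]
    exact (isBC_io M' ζ).map_smul b (f m))
  exact ⟨t, ht⟩

/-- The map of families. -/
noncomputable def homN (ζ : (cov R A B).cat.obj) : NM M ζ →ₗ[Γ(ζ.obj.base.left, ⊤)] NM M' ζ := (exists_homN f ζ).choose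

theorem homN_io (ζ : (cov R A B).cat.obj) (m : M) : homN f ζ (io M ζ m) = io M' ζ (f m) := (exists_homN f ζ).choose_spec m

include hf in
theorem homN_tw (ζ : (cov R A B).cat.obj) (h : ζ.obj.base ⟶ sp R A) (m : M) :
    homN f ζ (tw (fn h) (io M ζ) (rlin_io M ζ) m) = tw (fn h) (io M' ζ) (rlin_io M' ζ) (f m) := by
  have h1 : RLin R Γ(ζ.obj.base.left, ⊤) ((homN f ζ).toAddMonoidHom.comp (io M ζ)) := by
    intro r m
    change homN f ζ (io M ζ (r • m)) = _ • homN f ζ (io M ζ m)
    rw [rlin_io, map_smul]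
  have h2 : RLin R Γ(ζ.obj.base.left, ⊤) ((io M' ζ).comp (f.restrictScalars R).toAddMonoidHom) := by
    intro r m
    change io M' ζ (f.restrictScalars R (r • m)) = _ • io M' ζ (f m)
    rw [map_smul, rlin_io]
    rfl
  rw [tw_linear (homN f ζ) (fn h) (io M ζ) (rlin_io M ζ) h1]
  refine Eq.trans ?_ (tw_hom (f.restrictScalars R) hf (fn h) (io M' ζ) (rlin_io M' ζ) h2 m).symm
  exact tw_congr _ _ rfl (AddMonoidHom.ext (homN_io f ζ)) m

include hf in
theorem homN_map {ζ' ζ : (cov R A B).cat.obj} (c : ζ' ⟶ ζ) (x : NM M ζ) :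
    homN f ζ' (mapN M c x) = mapN M' c (homN f ζ x) := by
  have h := mapN_ext M (ζ' := ζ') (ζ := ζ) c.hom.base
  have key : (homN f ζ').toAddMonoidHom.comp (mapN M c) = (mapN M' c).comp (homN f ζ).toAddMonoidHom := by
    refine semi_ext (isBC_io M ζ) (gal c.hom.base : Γ(ζ.obj.base.left, ⊤) →+* Γ(ζ'.obj.base.left, ⊤)) _ _
      (fun r x => ?_) (fun r x => ?_) fun m => ?_
    · change homN f ζ' (mapN M c (r • x)) = _ • homN f ζ' (mapN M c x)
      rw [mapN_smul, map_smul]
      rfl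
    · change mapN M' c (homN f ζ (r • x)) = _ • mapN M' c (homN f ζ x)
      rw [map_smul, mapN_smul]
      rfl
    · change homN f ζ' (mapN M c (io M ζ m)) = mapN M' c (homN f ζ (io M ζ m))
      rw [mapN_io, homN_tw f hf, homN_io, mapN_io]
  exact DFunLike.congr_fun key x

include hf in
/-- The morphism of quasi-coherent modules of a morphism of `(B, A)`-modules. -/
theorem exists_map : ∃ u : QM (R := R) (A := A) (B := B) M ⟶ QM M',
    (∀ {V : Over (Spec (CommRingCat.of R))} (hV : IsAffine V.left) (x : V ⟶ sp R B) (m : M),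
      (u.hom.app (tx (action R A B) x)).app ⊤ (EM M hV x m) = EM M' hV x (f m)) ∧
    (Function.Surjective f → Mod.IsSurj u.hom) := by
  let t : AHom (rest (QM (R := R) (A := A) (B := B) M).obj (cov R A B)) (rest (QM M').obj (cov R A B)) :=
    { app := fun ζ => (eM M' ζ).symm.toLinearMap.comp ((homN f ζ).comp (eM M ζ).toLinearMap)
      comm := fun {ζ' ζ} c x => by
        apply (eM M' ζ').injective
        refine ((eM M' ζ').apply_symm_apply _).trans ?_
        refine Eq.trans ?_ (eM_map M' c _).symm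
        refine Eq.trans ?_ (congrArg (mapN M' c) ((eM M' ζ).apply_symm_apply _)).symm
        refine Eq.trans ?_ (homN_map f hf c _)
        exact congrArg (homN f ζ') (eM_map M c x) }
  obtain ⟨u, hu⟩ := exists_hom (dense_cov R A B) t
  refine ⟨⟨u⟩, ?_, ?_⟩
  · intro V hV x m
    refine (hu (zx (A := A) hV x) (EM M hV x m)).trans ?_
    apply (eM M' (zx (A := A) hV x)).injective
    refine ((eM M' (zx (A := A) hV x)).apply_symm_apply _).trans ?_
    change homN f (zx (A := A) hV x) (eM M (zx (A := A) hV x) (EM M hV x m)) = eM M' (zx (A := A) hV x) (EM M' hV x (f m))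
    rw [eM_EM, eM_EM]
    exact homN_tw f hf _ _ m
  · intro hs
    refine isSurj_of_dense (dense_cov R A B) u fun ζ => ?_
    intro y
    obtain ⟨z, hz⟩ : ∃ z, homN f ζ z = eM M' ζ y := by
      have h1 : LinearMap.range (homN f ζ) = ⊤ := by
        rw [← K907.Alg.span_range (isBC_io M' ζ), eq_comm]
        refine Submodule.span_eq_of_le _ ?_ ?_
        · rintro _ ⟨m', rfl⟩
          obtain ⟨m, rfl⟩ := hs m'
          exact ⟨io M ζ m, homN_io f ζ m⟩
        · rw [K907.Alg.span_range (isBC_io M' ζ)]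
          exact le_top
      have h2 : eM M' ζ y ∈ LinearMap.range (homN f ζ) := by rw [h1]; trivial
      exact h2
    refine ⟨(eM M ζ).symm z, ?_⟩
    refine (hu ζ _).trans ?_
    apply (eM M' ζ).injective
    refine ((eM M' ζ).apply_symm_apply _).trans ?_
    refine Eq.trans ?_ hz
    exact congrArg (homN f ζ) ((eM M ζ).apply_symm_apply z)

end Hom

end Mod

end K908.QuotQ
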