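import Groth.Agent.StMod.K908.QuotQ

/-!
# Sections of quasi-coherent modules on `[Spec B / G]` over the quotient are invariants
-/

set_option autoImplicit false
set_option linter.unusedVariables false
set_option linter.style.haveILetI false
set_option backward.isDefEq.respectTransparency false
set_option backward.isDefEq.respectTransparency.types false
set_option linter.dupNamespace false
set_option linter.unusedSectionVars false

universe u

open CategoryTheory CategoryTheory.Limits MonoidalCategory CartesianMonoidalCategory MonObj AlgebraicGeometry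
open Groth.Agent.CohqA.BaseChangeMod CoactBr AlgSt StMod K750.TorsPts
open scoped TensorProduct

namespace K908.QuotSec

open K951.Pts K908.HopfBC K908.HopfDat K908.QuotAff K908.QuotPt K908.AMod K908.Desc K908.QHom K908.QSec K908.Dense
open K907.Sec K908.QuotQ

attribute [local instance] K951.Pts.algΓ

set_option maxHeartbeats 1000000

variable {R A B : Type u} [CommRing R] [CommRing A] [HopfAlgebra R A] [Module.Flat R A]
  [CommRing B] [Algebra R B] [HopfRep.Comod R A B] [GLin.IsCoactAlg R A B]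

section Base

variable {Y : Over (Spec (CommRingCat.of R))} (ρ : QX R A B ⥤ᵇ AlgSt.ofSch Y) (p : sp R B ⟶ Y)
  (hρ : BasedFunctor.comp (AlgSt.quotMap Scheme.fppfPrecoverage (sp R A) (action R A B)) ρ =
    AlgSt.ofSpMap ((AlgSp.yon (Spec (CommRingCat.of R))).map p))

theorem hom_ext_base {ζ : (QX R A B).obj} {yy : (AlgSt.ofSch Y).obj} {α β : ρ.obj ζ ⟶ yy}
    (h : baseOver ρ ζ α = baseOver ρ ζ β) : α = β := by
  have h1 : (AlgSt.ofSch Y).p.map α = (AlgSt.ofSch Y).p.map β := by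
    rw [baseOver, baseOver] at h
    exact (cancel_epi _).1 h
  exact Stk.EltObj.hom_ext h1

include hρ in
theorem obj_tx {V : Over (Spec (CommRingCat.of R))} (x : V ⟶ sp R B) :
    ρ.obj (tx (action R A B) x) = ⟨V, ⟨x ≫ p⟩⟩ :=
  congrArg (fun F : AlgSt.ofSch (sp R B) ⥤ᵇ AlgSt.ofSch Y => F.obj ⟨V, ⟨x⟩⟩) hρ

include hρ in
theorem exists_al {V : Over (Spec (CommRingCat.of R))} (x : V ⟶ sp R B) (yy : (AlgSt.ofSch Y).obj) (f : V ⟶ yy.base)
    (h : f ≫ yy.sec.down = x ≫ p) : ∃ α : ρ.obj (tx (action R A B) x) ⟶ yy, baseOver ρ (tx (action R A B) x) α = f := by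
  let β : (⟨V, ⟨x ≫ p⟩⟩ : (AlgSt.ofSch Y).obj) ⟶ yy := ⟨f, ULift.ext _ _ h⟩
  refine ⟨eqToHom (obj_tx ρ p hρ x) ≫ β, ?_⟩
  rw [baseOver, Functor.map_comp, eqToHom_map, eqToHom_trans_assoc]
  exact Category.id_comp _

include hρ in
theorem al_sec {V : Over (Spec (CommRingCat.of R))} (x : V ⟶ sp R B) {yy : (AlgSt.ofSch Y).obj}
    (α : ρ.obj (tx (action R A B) x) ⟶ yy) : baseOver ρ (tx (action R A B) x) α ≫ yy.sec.down = x ≫ p := by
  let β : (⟨V, ⟨x ≫ p⟩⟩ : (AlgSt.ofSch Y).obj) ⟶ yy := eqToHom (obj_tx ρ p hρ x).symm ≫ α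
  have h1 : β.hom ≫ yy.sec.down = x ≫ p := congrArg ULift.down β.map_sec
  have h2 : baseOver ρ (tx (action R A B) x) α = β.hom := by
    have h3 : (AlgSt.ofSch Y).p.map β = eqToHom (congrArg (AlgSt.ofSch Y).p.obj (obj_tx ρ p hρ x).symm) ≫
        (AlgSt.ofSch Y).p.map α := by
      rw [Functor.map_comp, eqToHom_map]
    exact h3.symm
  rw [h2]
  exact h1

include hρ in
/-- The map `p` is invariant. -/
theorem p_inv {V : Over (Spec (CommRingCat.of R))} (x : V ⟶ sp R B) (g : V ⟶ sp R A) :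
    act (action R A B) g x ≫ p = x ≫ p := by
  obtain ⟨α, hα⟩ := exists_al ρ p hρ x ⟨V, ⟨x ≫ p⟩⟩ (𝟙 V) (Category.id_comp _)
  let k : tx (action R A B) (act (action R A B) g x) ⟶ tx (action R A B) x :=
    ar (act (action R A B) g x) x (𝟙 V) g (by rw [Category.id_comp])
  have h1 := al_sec ρ p hρ (act (action R A B) g x) (ρ.map k ≫ α)
  rw [← map_comp_baseOver, hα] at h1
  rw [← h1]
  exact (Category.assoc _ _ _).trans ((Category.id_comp _).trans (Category.id_comp _))

include hρ in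
theorem sec_sct {ζ : (QX R A B).obj} (s : ζ.base ⟶ ζ.P) (hs : s ≫ ζ.π = 𝟙 _) {yy : (AlgSt.ofSch Y).obj}
    (α : ρ.obj ζ ⟶ yy) : baseOver ρ ζ α ≫ yy.sec.down = (s ≫ ζ.φ) ≫ p := by
  obtain ⟨k, hk, -⟩ := exists_ofPt ζ s
  have h1 := al_sec ρ p hρ (s ≫ ζ.φ) (ρ.map k ≫ α)
  rw [← map_comp_baseOver] at h1
  rw [← h1]
  have h2 : (QX R A B).p.map k = 𝟙 ζ.base := hk.trans hs
  rw [h2]
  exact congrArg (fun t => t ≫ yy.sec.down) (Category.id_comp (baseOver ρ ζ α)).symm

end Base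

section Wide

/-- The sections over the object of a point, as a module over everything. -/
def HM (F : QCoh (QX R A B)) {V : Over (Spec (CommRingCat.of R))} (x : V ⟶ sp R B) : Type u :=
  Γ(F.obj.obj (tx (action R A B) x), ⊤)

variable (F F' : QCoh (QX R A B)) {V V' V'' : Over (Spec (CommRingCat.of R))} (x : V ⟶ sp R B) (x' : V' ⟶ sp R B)

noncomputable instance : AddCommGroup (HM F x) := inferInstanceAs (AddCommGroup Γ(F.obj.obj (tx (action R A B) x), ⊤))

noncomputable instance : Module Γ(V.left, ⊤) (HM F x) :=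
  inferInstanceAs (Module Γ(sch (QX R A B) (tx (action R A B) x), ⊤) Γ(F.obj.obj (tx (action R A B) x), ⊤))

noncomputable instance : Module R (HM F x) := Module.compHom _ (algebraMap R Γ(V.left, ⊤))

instance : IsScalarTower R Γ(V.left, ⊤) (HM F x) := ⟨fun r c m => by
  change (r • c) • m = algebraMap R Γ(V.left, ⊤) r • c • m
  rw [Algebra.smul_def, mul_smul]⟩

noncomputable instance : Module B (HM F x) := Module.compHom _ (fn x : B →+* Γ(V.left, ⊤))

theorem b_smul (b : B) (m : HM F x) : b • m = fn x b • m := rfl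

instance : IsScalarTower R B (HM F x) := ⟨fun r b m => by
  change fn x (r • b) • m = algebraMap R Γ(V.left, ⊤) r • fn x b • m
  rw [map_smul, Algebra.smul_def, mul_smul]⟩

variable {x x'} in
/-- The morphism of bases of an arrow. -/
noncomputable def bb (c : tx (action R A B) x' ⟶ tx (action R A B) x) : V' ⟶ V := c.base

/-- Restriction along an arrow. -/
noncomputable def rs (c : tx (action R A B) x' ⟶ tx (action R A B) x) : HM F x →+ HM F x' where
  toFun := F.obj.mapTop c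
  map_zero' := F.obj.mapTop_zero c
  map_add' := F.obj.mapTop_add c

variable {x x'}

theorem rs_smul (c : tx (action R A B) x' ⟶ tx (action R A B) x) (r : Γ(V.left, ⊤)) (m : HM F x) :
    rs F x x' c (r • m) = gal (bb c) r • rs F x x' c m := F.obj.mapTop_smul c r m

theorem rs_rlin (c : tx (action R A B) x' ⟶ tx (action R A B) x) : RLin R Γ(V'.left, ⊤) (rs F x x' c) := by
  intro r m
  rw [← algebraMap_smul Γ(V.left, ⊤) r m, rs_smul, AlgHom.commutes]

theorem rs_comp {x'' : V'' ⟶ sp R B} (c' : tx (action R A B) x'' ⟶ tx (action R A B) x')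
    (c : tx (action R A B) x' ⟶ tx (action R A B) x) (m : HM F x) :
    rs F x' x'' c' (rs F x x' c m) = rs F x x'' (c' ≫ c) m := (F.obj.mapTop_comp c' c m).symm

theorem rs_id (m : HM F x) : rs F x x (𝟙 _) m = m := F.obj.mapTop_id _ m

theorem isBC_rs (hV : IsAffine V.left) (hV' : IsAffine V'.left) (c : tx (action R A B) x' ⟶ tx (action R A B) x) :
    IsBC (bb c).left.appTop.hom (rs F x x' c) :=
  rest_isCart F (ASieve.all (QX R A B)) (ξ' := ⟨tx (action R A B) x', hV'⟩) (ξ := ⟨tx (action R A B) x, hV⟩)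
    (ObjectProperty.homMk c)

theorem isAffine_prod (hV : IsAffine V.left) : IsAffine (V ⊗ sp R A).left := by
  have h0 : IsAffine (sp R A).left := inferInstanceAs (IsAffine (Spec (CommRingCat.of A)))
  exact K907.Sec.isAffine_of_isPullback (isPullback_left V (sp R A))

variable (A) in
/-- The group acts on `W`. -/
structure WAct {W : Over (Spec (CommRingCat.of R))} (xW : W ⟶ sp R B) where
  a : W ⊗ sp R A ⟶ W
  x : a ≫ xW = lift (fst W (sp R A) ≫ xW) (snd W (sp R A)) ≫ ract R A B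
  one : ∀ {T : Over (Spec (CommRingCat.of R))} (w : T ⟶ W), lift w (1 : T ⟶ sp R A) ≫ a = w
  mul : ∀ {T : Over (Spec (CommRingCat.of R))} (w : T ⟶ W) (g h : T ⟶ sp R A),
    lift w (g * h) ≫ a = lift (lift w g ≫ a) h ≫ a

theorem bij_rs (hV : IsAffine V.left) (x1 : V ⊗ sp R A ⟶ sp R B) (c : tx (action R A B) x1 ⟶ tx (action R A B) x)
    (hc : bb c = fst V (sp R A)) : Function.Bijective (ten (fn (snd V (sp R A))) (rs F x x1 c) (rs_rlin F c)) := by
  refine bijective_ten (rs F x x1 c) ?_ (rs_rlin F c)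
  have := isBC_rs F hV (isAffine_prod hV) c
  rw [hc] at this
  exact this

end Wide

section Dat

variable {W : Over (Spec (CommRingCat.of R))} {xW : W ⟶ sp R B} (D : WAct A xW)

theorem pact_x : pact (fn (fst W (sp R A) ≫ xW)) (fn (snd W (sp R A))) = fn (D.a ≫ xW) := by
  rw [D.x, fn_ract]

theorem pt_act {T : Over (Spec (CommRingCat.of R))} (w : T ⟶ W) (g : T ⟶ sp R A) :
    act (action R A B) g ((lift w g ≫ D.a) ≫ xW) = w ≫ xW := by
  have h1 : (lift w g ≫ D.a) ≫ xW = lift (w ≫ xW) g ≫ ract R A B := by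
    rw [Category.assoc, D.x, ← Category.assoc, comp_lift, lift_fst_assoc, lift_snd]
  rw [h1, act_eq_ract, lift_ract_ract, mul_inv_cancel, lift_one_ract]

/-- The point over `W × G`. -/
noncomputable abbrev x1 (xW : W ⟶ sp R B) : W ⊗ sp R A ⟶ sp R B := fst W (sp R A) ≫ xW

/-- The point over `W × G × G`. -/
noncomputable abbrev x2 (xW : W ⟶ sp R B) : (W ⊗ sp R A) ⊗ sp R A ⟶ sp R B := fst (W ⊗ sp R A) (sp R A) ≫ x1 xW

/-- The projection. -/
noncomputable def aP (xW : W ⟶ sp R B) : tx (action R A B) (x1 (A := A) xW) ⟶ tx (action R A B) xW :=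
  ar (x1 (A := A) xW) xW (fst W (sp R A)) 1 (by rw [act_one])

/-- The action. -/
noncomputable def aQ : tx (action R A B) (x1 (A := A) xW) ⟶ tx (action R A B) xW :=
  ar (x1 (A := A) xW) xW D.a (snd W (sp R A)) (by
    have := pt_act D (fst W (sp R A)) (snd W (sp R A))
    rwa [lift_fst_snd, Category.id_comp] at this)

/-- The arrows `z₂ ⟶ z₁`. -/
noncomputable def aR3 (xW : W ⟶ sp R B) : tx (action R A B) (x2 (A := A) xW) ⟶ tx (action R A B) (x1 (A := A) xW) :=
  ar (x2 (A := A) xW) (x1 (A := A) xW) (fst (W ⊗ sp R A) (sp R A)) 1 (by rw [act_one])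

noncomputable def aR1 (xW : W ⟶ sp R B) : tx (action R A B) (x2 (A := A) xW) ⟶ tx (action R A B) (x1 (A := A) xW) :=
  ar (x2 (A := A) xW) (x1 (A := A) xW)
    (lift (fst (W ⊗ sp R A) (sp R A) ≫ fst W (sp R A)) ((fst (W ⊗ sp R A) (sp R A) ≫ snd W (sp R A)) * snd (W ⊗ sp R A) (sp R A)))
    1 (by rw [act_one, lift_fst_assoc, Category.assoc])

noncomputable def aR2 : tx (action R A B) (x2 (A := A) xW) ⟶ tx (action R A B) (x1 (A := A) xW) :=
  ar (x2 (A := A) xW) (x1 (A := A) xW)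
    (lift (fst (W ⊗ sp R A) (sp R A) ≫ D.a) (snd (W ⊗ sp R A) (sp R A)))
    (fst (W ⊗ sp R A) (sp R A) ≫ snd W (sp R A)) (by
      have := pt_act D (fst (W ⊗ sp R A) (sp R A) ≫ fst W (sp R A)) (fst (W ⊗ sp R A) (sp R A) ≫ snd W (sp R A))
      rw [← comp_lift, lift_fst_snd, Category.comp_id] at this
      rw [lift_fst_assoc, this, Category.assoc])

noncomputable def aE (xW : W ⟶ sp R B) : tx (action R A B) xW ⟶ tx (action R A B) (x1 (A := A) xW) :=
  ar xW (x1 (A := A) xW) (lift (𝟙 W) 1) 1 (by rw [act_one, lift_fst_assoc, Category.id_comp])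

theorem r1q : aR1 xW ≫ aQ D = aR2 D ≫ aQ D := by
  have e : lift (fst (W ⊗ sp R A) (sp R A) ≫ fst W (sp R A)) ((fst (W ⊗ sp R A) (sp R A) ≫ snd W (sp R A)) *
      snd (W ⊗ sp R A) (sp R A)) ≫ D.a =
      lift (fst (W ⊗ sp R A) (sp R A) ≫ D.a) (snd (W ⊗ sp R A) (sp R A)) ≫ D.a := by
    rw [D.mul, ← comp_lift, lift_fst_snd, Category.comp_id]
  rw [aR1, aQ, aR2, ar_trans, ar_trans]
  apply ar_congr
  · exact e
  · rw [_root_.one_mul, lift_snd, lift_snd]

theorem r1p : aR1 (A := A) xW ≫ aP xW = aR3 xW ≫ aP xW := by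
  rw [aR1, aP, aR3, ar_trans, ar_trans]
  apply ar_congr
  · rw [lift_fst]
  · rw [comp_one, comp_one]

theorem r2p : aR2 D ≫ aP xW = aR3 xW ≫ aQ D := by
  rw [aR2, aP, aR3, aQ, ar_trans, ar_trans]
  apply ar_congr
  · rw [lift_fst]
  · rw [comp_one, _root_.one_mul, _root_.mul_one]

theorem ep : aE (A := A) xW ≫ aP xW = 𝟙 _ := by
  rw [aE, aP, ar_trans, ← ar_id xW (by rw [act_one, Category.id_comp])]
  apply ar_congr
  · rw [lift_fst]
  · rw [comp_one, _root_.one_mul]

theorem eq' : aE (A := A) xW ≫ aQ D = 𝟙 _ := by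
  rw [aE, aQ, ar_trans, ← ar_id xW (by rw [act_one, Category.id_comp])]
  apply ar_congr
  · exact D.one (𝟙 W)
  · rw [lift_snd, _root_.one_mul]

variable (hW : IsAffine W.left)

/-- The data of a quasi-coherent module. -/
noncomputable def cdat (F : QCoh (QX R A B)) :
    CDat R A Γ(W.left, ⊤) Γ((W ⊗ sp R A).left, ⊤) Γ(((W ⊗ sp R A) ⊗ sp R A).left, ⊤)
      (HM F xW) (HM F (x1 (A := A) xW)) (HM F (x2 (A := A) xW)) where
  γ := fn (snd W (sp R A))
  g' := fn (snd (W ⊗ sp R A) (sp R A))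
  p := rs F _ _ (aP xW)
  q := rs F _ _ (aQ D)
  hp := rs_rlin F _
  hq := rs_rlin F _
  σ1 := gal (bb (aR1 xW))
  σ2 := gal (bb (aR2 D))
  σ3 := gal (bb (aR3 xW))
  ε := gal (bb (aE xW))
  r1 := rs F _ _ (aR1 xW)
  r2 := rs F _ _ (aR2 D)
  r3 := rs F _ _ (aR3 xW)
  e := rs F _ _ (aE xW)
  h1 := rs_smul F _
  h2 := rs_smul F _
  h3 := rs_smul F _
  he := rs_smul F _
  r1q m := by rw [rs_comp, rs_comp, r1q]
  r1p m := by rw [rs_comp, rs_comp, r1p]
  r2p m := by rw [rs_comp, rs_comp, r2p]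
  ep m := by rw [rs_comp, ep, rs_id]
  eq' m := by rw [rs_comp, eq', rs_id]
  σ1γ a := by
    rw [← AlgHom.comp_apply, gal_fn, gal_fn, ← fn_gmul]
    exact congrArg (fun w => fn w a) (lift_snd _ _)
  σ2γ a := by
    rw [← AlgHom.comp_apply, gal_fn]
    exact congrArg (fun w => fn w a) (lift_snd _ _)
  εγ a := by
    rw [← AlgHom.comp_apply, gal_fn]
    refine (congrArg (fun w => fn w a) (lift_snd _ _)).trans ?_
    rw [fn_one]
    rfl
  bij := bij_rs F hW _ (aP xW) rfl
  inj x y h := (bij_rs F (isAffine_prod hW) _ (aR3 xW) rfl).1 h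

end Dat

section Sections

variable {Y : Over (Spec (CommRingCat.of R))} (ρ : QX R A B ⥤ᵇ AlgSt.ofSch Y) (p : sp R B ⟶ Y)
  (hρ : BasedFunctor.comp (AlgSt.quotMap Scheme.fppfPrecoverage (sp R A) (action R A B)) ρ =
    AlgSt.ofSpMap ((AlgSp.yon (Spec (CommRingCat.of R))).map p))
  {yy : (AlgSt.ofSch Y).obj} {W : Over (Spec (CommRingCat.of R))} {xW : W ⟶ sp R B} {eW : W ⟶ yy.base}
  (sq : IsPullback xW eW p yy.sec.down)

theorem act_inj {T X : Over (Spec (CommRingCat.of R))} (aX : AlgGrp.Action (sp R A) X) (g : T ⟶ sp R A) {x y : T ⟶ X}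
    (h : act aX g x = act aX g y) : x = y := by
  have h1 := congrArg (act aX g⁻¹) h
  rwa [← act_mul, ← act_mul, inv_mul_cancel, act_one, act_one] at h1

include hρ sq in
theorem exists_wact : ∃ D : WAct A xW, D.a ≫ eW = fst W (sp R A) ≫ eW := by
  have hw : (lift (fst W (sp R A) ≫ xW) (snd W (sp R A)) ≫ ract R A B) ≫ p = (fst W (sp R A) ≫ eW) ≫ yy.sec.down := by
    have h1 : lift (fst W (sp R A) ≫ xW) (snd W (sp R A)) ≫ ract R A B =
        act (action R A B) (snd W (sp R A))⁻¹ (fst W (sp R A) ≫ xW) := by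
      rw [act_eq_ract, inv_inv]
    rw [h1, p_inv ρ p hρ, Category.assoc, Category.assoc, sq.w]
  let a : W ⊗ sp R A ⟶ W := sq.lift _ _ hw
  have ha1 : a ≫ xW = lift (fst W (sp R A) ≫ xW) (snd W (sp R A)) ≫ ract R A B := sq.lift_fst _ _ _
  have ha2 : a ≫ eW = fst W (sp R A) ≫ eW := sq.lift_snd _ _ _
  have hx : ∀ {T : Over (Spec (CommRingCat.of R))} (w : T ⟶ W) (g : T ⟶ sp R A),
      (lift w g ≫ a) ≫ xW = lift (w ≫ xW) g ≫ ract R A B := by
    intro T w g
    rw [Category.assoc, ha1, ← Category.assoc, comp_lift, lift_fst_assoc, lift_snd]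
  have hy : ∀ {T : Over (Spec (CommRingCat.of R))} (w : T ⟶ W) (g : T ⟶ sp R A),
      (lift w g ≫ a) ≫ eW = w ≫ eW := by
    intro T w g
    rw [Category.assoc, ha2, lift_fst_assoc]
  refine ⟨⟨a, ha1, fun w => ?_, fun w g h => ?_⟩, ha2⟩
  · apply sq.hom_ext
    · rw [hx, lift_one_ract]
    · rw [hy]
  · apply sq.hom_ext
    · rw [hx, hx, hx, lift_ract_ract]
    · rw [hy, hy, hy]

variable (D : WAct A xW) (hD : D.a ≫ eW = fst W (sp R A) ≫ eW) (αz : ρ.obj (tx (action R A B) xW) ⟶ yy)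
  (hαz : baseOver ρ (tx (action R A B) xW) αz = eW)

include hρ sq hαz in
theorem exists_arrow {ζ : (QX R A B).obj} (s : ζ.base ⟶ ζ.P) (hs : s ≫ ζ.π = 𝟙 _) (α : ρ.obj ζ ⟶ yy) :
    ∃ a : ζ ⟶ tx (action R A B) xW, ρ.map a ≫ αz = α := by
  let f : ζ.base ⟶ W := sq.lift (s ≫ ζ.φ) (baseOver ρ ζ α) (sec_sct ρ p hρ s hs α).symm
  obtain ⟨a, ha, -⟩ := exists_hom_of_section (A := ζ) (B := tx (action R A B) xW) f s hs
    (f ≫ uno (action R A B) xW) (by rw [Category.assoc, uno_π]; exact Category.comp_id _)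
    (by rw [Category.assoc, uno_φ]; exact sq.lift_fst _ _ _)
  refine ⟨a, ?_⟩
  apply hom_ext_base
  rw [← map_comp_baseOver, hαz]
  exact (congrArg (fun t => t ≫ eW) ha).trans (sq.lift_snd _ _ _)

variable (F : QCoh (QX R A B))

include sq hD hαz in
theorem rs_eq {V : Over (Spec (CommRingCat.of R))} {x : V ⟶ sp R B}
    (k k' : tx (action R A B) x ⟶ tx (action R A B) xW) (hk : ρ.map k ≫ αz = ρ.map k' ≫ αz) (m : HM F xW)
    (hm : rs F _ _ (aQ D) m = rs F _ _ (aP xW) m) : rs F _ _ k m = rs F _ _ k' m := by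
  obtain ⟨f, g, h, rfl⟩ := exists_ar k
  obtain ⟨f', g', h', rfl⟩ := exists_ar k'
  have hf : f ≫ eW = f' ≫ eW := by
    have h1 := congrArg (baseOver ρ (tx (action R A B) x)) hk
    rw [← map_comp_baseOver, ← map_comp_baseOver, hαz] at h1
    exact h1
  let t : V ⟶ W ⊗ sp R A := lift f (g⁻¹ * g')
  have ht : t ≫ D.a = f' := by
    apply sq.hom_ext
    · apply act_inj (action R A B) (g⁻¹ * g')
      have h1 : f ≫ xW = act (action R A B) (g⁻¹ * g') (f' ≫ xW) := by
        apply act_inj (action R A B) g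
        rw [← act_mul, mul_inv_cancel_left, h, h']
      rw [← h1]
      exact pt_act D f (g⁻¹ * g')
    · rw [Category.assoc, hD, lift_fst_assoc, hf]
  let b : tx (action R A B) x ⟶ tx (action R A B) (x1 (A := A) xW) :=
    ar x (x1 (A := A) xW) t g (by rw [lift_fst_assoc]; exact h)
  have e1 : b ≫ aP xW = ar x xW f g h := by
    rw [aP, ar_trans]
    apply ar_congr
    · exact lift_fst _ _
    · rw [comp_one, _root_.mul_one]
  have e2 : b ≫ aQ D = ar x xW f' g' h' := by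
    rw [aQ, ar_trans]
    apply ar_congr
    · exact ht
    · rw [lift_snd, mul_inv_cancel_left]
  rw [← e1, ← e2, ← rs_comp, ← rs_comp, hm]

theorem isIso_of_base {a b : (QX R A B).obj} (φ : a ⟶ b) (h : IsIso φ.base) : IsIso φ := by
  have := (isFibGrpdQX R A B).isStronglyCartesian φ
  have h2 : IsIso ((QX R A B).p.map φ) := h
  exact Functor.IsStronglyCartesian.isIso_of_base_isIso (QX R A B).p ((QX R A B).p.map φ) φ

include sq hD hαz in
theorem mapTop_eq_of {ζ : (QX R A B).obj} (s : ζ.base ⟶ ζ.P) (hs : s ≫ ζ.π = 𝟙 _)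
    (k k' : ζ ⟶ tx (action R A B) xW) (hk : ρ.map k ≫ αz = ρ.map k' ≫ αz) (m : HM F xW)
    (hm : rs F _ _ (aQ D) m = rs F _ _ (aP xW) m) : F.obj.mapTop k m = F.obj.mapTop k' m := by
  obtain ⟨c, hc, -⟩ := exists_ofPt ζ s
  have hc' : IsIso c := by
    apply isIso_of_base
    have : c.base = 𝟙 ζ.base := hc.trans hs
    rw [this]
    exact IsIso.id ζ.base
  have h1 : rs F _ _ (c ≫ k) m = rs F _ _ (c ≫ k') m := by
    refine rs_eq ρ p sq D hD αz hαz F _ _ ?_ m hm
    rw [Functor.map_comp, Functor.map_comp, Category.assoc, Category.assoc, hk]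
  have h2 : F.obj.mapTop c (F.obj.mapTop k m) = F.obj.mapTop c (F.obj.mapTop k' m) := by
    rw [← Mod.mapTop_comp, ← Mod.mapTop_comp]
    exact h1
  have h3 := congrArg (F.obj.mapTop (inv c)) h2
  have h4 : ∀ y : Γ(F.obj.obj ζ, ⊤), F.obj.mapTop (inv c) (F.obj.mapTop c y) = y := by
    intro y
    rw [← Mod.mapTop_comp, IsIso.inv_hom_id, Mod.mapTop_id]
  rw [h4, h4] at h3
  exact h3

include hρ sq hαz in
/-- A section is determined by its value at the universal object. -/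
theorem sec_inj {t t' : Mod.RelSect ρ F.obj yy} (h : t.1 (tx (action R A B) xW) αz = t'.1 (tx (action R A B) xW) αz) :
    t = t' := by
  refine relSect_ext (dense_cov R A B) ρ F yy fun ζ α => ?_
  obtain ⟨s, hs⟩ := ζ.property.2
  obtain ⟨a, ha⟩ := exists_arrow ρ p hρ sq αz hαz s hs α
  rw [← ha, ← t.2, ← t'.2, h]

include hD hαz in
/-- The value of a section at the universal object is invariant. -/
theorem sec_inv (t : Mod.RelSect ρ F.obj yy) :
    rs F _ _ (aQ D) (t.1 (tx (action R A B) xW) αz : HM F xW) =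
      rs F _ _ (aP xW) (t.1 (tx (action R A B) xW) αz : HM F xW) := by
  refine (t.2 (aQ D) αz).trans (Eq.trans ?_ (t.2 (aP xW) αz).symm)
  refine congrArg (t.1 (tx (action R A B) (x1 (A := A) xW))) ?_
  apply hom_ext_base
  rw [← map_comp_baseOver, ← map_comp_baseOver, hαz]
  exact hD

include hρ sq hD hαz in
/-- Every invariant is the value of a section. -/
theorem exists_sec (m : HM F xW) (hm : rs F _ _ (aQ D) m = rs F _ _ (aP xW) m) :
    ∃ t : Mod.RelSect ρ F.obj yy, t.1 (tx (action R A B) xW) αz = m := by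
  have key : ∀ (ζ : (cov R A B).cat.obj) (α : ρ.obj ζ.obj ⟶ yy), ∃ a : ζ.obj ⟶ tx (action R A B) xW,
      ρ.map a ≫ αz = α := fun ζ α => exists_arrow ρ p hρ sq αz hαz _ ζ.property.2.choose_spec α
  choose a ha using key
  obtain ⟨t, ht⟩ := exists_relSect (dense_cov R A B) ρ F yy (fun ζ α => F.obj.mapTop (a ζ α) m) (by
    intro ζ' ζ φ α
    rw [← Mod.mapTop_comp]
    refine mapTop_eq_of ρ p sq D hD αz hαz F _ ζ'.property.2.choose_spec _ _ ?_ m hm
    rw [Functor.map_comp, Category.assoc, ha, ha])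
  refine ⟨t, ?_⟩
  have h1 : ∀ (ζ : (cov R A B).cat.obj) (c : ζ.obj ⟶ tx (action R A B) xW),
      F.obj.mapTop c (t.1 (tx (action R A B) xW) αz) = F.obj.mapTop c m := by
    intro ζ c
    rw [t.2, ht]
    refine mapTop_eq_of ρ p sq D hD αz hαz F _ ζ.property.2.choose_spec _ _ ?_ m hm
    rw [ha]
  exact sec_ext (dense_cov R A B) F _ _ h1

end Sections

end K908.QuotSec
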