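import Groth.Agent.StMod.K908.QuotCoh
import Groth.Agent.StMod.K906.UnitLoc
import Groth.Agent.StMod.K906.SectAlg

/-!
# The unit `O_Y ⟶ ρ_* O` for `ρ : [Spec B / G] ⟶ Y`
-/

set_option autoImplicit false
set_option linter.unusedVariables false
set_option linter.style.haveILetI false
set_option backward.isDefEq.respectTransparency false
set_option backward.isDefEq.respectTransparency.types false
set_option linter.dupNamespace false
set_option linter.unusedSectionVars false

universe u

open CategoryTheory CategoryTheory.Limits MonoidalCategory CartesianMonoidalCategory MonObj AlgebraicGeometry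
open Groth.Agent.CohqA.BaseChangeMod CoactBr AlgSt StMod K750.TorsPts
open scoped TensorProduct

namespace K908.QuotUnit

section Algebra

/-- A ring homomorphism is the base change of the ring along itself. -/
theorem isBC_self {A B : Type u} [CommRing A] [CommRing B] (f : A →+* B) : IsBC f f.toAddMonoidHom := by
  refine ⟨fun r x => f.map_mul r x, ?_⟩
  intro Q _ _ g hg
  refine ⟨LinearMap.toSpanSingleton B Q (g 1), ?_, ?_⟩
  · intro x
    change f x • g 1 = g x
    rw [← hg, smul_eq_mul, _root_.mul_one]
  · intro L hL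
    apply LinearMap.ext
    intro b
    change L b = b • g 1
    have h1 := hL 1
    change L (f 1) = g 1 at h1
    rw [map_one] at h1
    rw [← h1, ← map_smul, smul_eq_mul, _root_.mul_one]

variable {C C' B B' N N' : Type u} [CommRing C] [CommRing C'] [CommRing B] [CommRing B'] [CommRing N] [CommRing N']

/-- Equalizers of rings are compatible with flat base change. -/
theorem flat_equalizer (φ : C →+* C') (hφ : φ.Flat) (i : C →+* B) (i' : C' →+* B') (f : B →+* B') (g : N →+* N')
    (a b : B →+* N) (a' b' : B' →+* N') (n : C →+* N) (n' : C' →+* N')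
    (ha : a.comp i = n) (hb : b.comp i = n) (ha' : a'.comp i' = n') (hb' : b'.comp i' = n')
    (pB : IsPushout (CommRingCat.ofHom φ) (CommRingCat.ofHom i) (CommRingCat.ofHom i') (CommRingCat.ofHom f))
    (pN : IsPushout (CommRingCat.ofHom φ) (CommRingCat.ofHom n) (CommRingCat.ofHom n') (CommRingCat.ofHom g))
    (hfa : a'.comp f = g.comp a) (hfb : b'.comp f = g.comp b)
    (hinj : Function.Injective i) (hex : ∀ x, a x = b x → ∃ c, i c = x) :
    Function.Injective i' ∧ ∀ x, a' x = b' x → ∃ c, i' c = x := by
  letI : Module C B := Module.compHom B i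
  letI : Module C N := Module.compHom N n
  letI : Module C' B' := Module.compHom B' i'
  letI : Module C' N' := Module.compHom N' n'
  have hbcB : IsBC φ f.toAddMonoidHom :=
    K908.BC.isBC_of_isPushout i φ f i' pB (fun _ _ => rfl) (fun _ _ => rfl) (isBC_self f)
  have hbcN : IsBC φ g.toAddMonoidHom :=
    K908.BC.isBC_of_isPushout n φ g n' pN (fun _ _ => rfl) (fun _ _ => rfl) (isBC_self g)
  let iL : C →ₗ[C] B := { toFun := i, map_add' := i.map_add, map_smul' := fun r x => i.map_mul r x }
  let dL : B →ₗ[C] N :=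
    { toFun := fun x => a x - b x
      map_add' := fun x y => by rw [map_add, map_add]; ring
      map_smul' := fun r x => by
        change a (i r * x) - b (i r * x) = n r * (a x - b x)
        rw [map_mul, map_mul, ← RingHom.comp_apply, ← RingHom.comp_apply, ha, hb]
        ring }
  let dL' : B' →ₗ[C'] N' :=
    { toFun := fun x => a' x - b' x
      map_add' := fun x y => by rw [map_add, map_add]; ring
      map_smul' := fun r x => by
        change a' (i' r * x) - b' (i' r * x) = n' r * (a' x - b' x)
        rw [map_mul, map_mul, ← RingHom.comp_apply, ← RingHom.comp_apply, ha', hb']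
        ring }
  have hcomm : ∀ c, i' (φ c) = f (i c) := fun c => congr($(pB.w).hom c)
  let L : C' →ₗ[C'] LinearMap.ker dL' :=
    { toFun := fun c => ⟨i' c, by
        rw [LinearMap.mem_ker]
        change a' (i' c) - b' (i' c) = 0
        rw [← RingHom.comp_apply, ← RingHom.comp_apply, ha', hb', sub_self]⟩
      map_add' := fun x y => Subtype.ext (i'.map_add x y)
      map_smul' := fun r x => Subtype.ext (i'.map_mul r x) }
  let k : C →+ LinearMap.ker dL' := L.toAddMonoidHom.comp φ.toAddMonoidHom
  have hk : IsBC φ k := by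
    refine K906.SectAlg.isBC_ker hφ hbcB hbcN iL dL (LinearMap.ker dL').subtype dL' k ?_ ?_ hinj ?_
      (Submodule.subtype_injective _) (LinearMap.exact_subtype_ker_map _)
    · intro c
      exact hcomm c
    · intro x
      change a' (f x) - b' (f x) = g (a x - b x)
      rw [← RingHom.comp_apply, ← RingHom.comp_apply, hfa, hfb, map_sub]
      rfl
    · intro x
      constructor
      · intro hx
        have h1 : a x = b x := sub_eq_zero.1 hx
        obtain ⟨c, hc⟩ := hex x h1
        exact ⟨c, hc⟩
      · rintro ⟨c, rfl⟩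
        change a (i c) - b (i c) = 0
        rw [← RingHom.comp_apply, ← RingHom.comp_apply, ha, hb, sub_self]
  have hL : Function.Bijective L := (isBC_self φ).bijective_of_isBC hk L (fun x => rfl)
  constructor
  · intro x y hxy
    exact hL.1 (Subtype.ext hxy)
  · intro x hx
    obtain ⟨c, hc⟩ := hL.2 ⟨x, sub_eq_zero.2 hx⟩
    exact ⟨c, congrArg Subtype.val hc⟩

end Algebra

open K951.Pts K908.HopfBC K908.HopfDat K908.QuotAff K908.QuotPt K908.AMod K908.Desc K908.QHom K908.QSec K908.Dense
open K907.Sec K908.QuotQ K908.QuotSec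

attribute [local instance] K951.Pts.algΓ

set_option maxHeartbeats 1000000

variable {R A B : Type u} [CommRing R] [CommRing A] [HopfAlgebra R A] [Module.Flat R A]
  [CommRing B] [Algebra R B] [HopfRep.Comod R A B] [GLin.IsCoactAlg R A B]
  {Y : Over (Spec (CommRingCat.of R))} (ρ : QX R A B ⥤ᵇ AlgSt.ofSch Y) (p : sp R B ⟶ Y)
  (hρ : BasedFunctor.comp (AlgSt.quotMap Scheme.fppfPrecoverage (sp R A) (action R A B)) ρ =
    AlgSt.ofSpMap ((AlgSp.yon (Spec (CommRingCat.of R))).map p))

/-- The functions on `Y` are the invariant functions on `X`. -/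
structure Inv (p : sp R B ⟶ Y) : Prop where
  inj : Function.Injective p.left.appTop.hom
  ex : ∀ x : Γ((sp R B).left, ⊤), (ract R A B).left.appTop.hom x = (fst (sp R B) (sp R A)).left.appTop.hom x →
    ∃ c, p.left.appTop.hom c = x

/-- The square of a product with a group. -/
theorem isPullback_whisk {G W X : Over (Spec (CommRingCat.of R))} (x : W ⟶ X) :
    IsPullback (x ▷ G) (fst W G) (fst X G) x := by
  refine ⟨⟨by simp⟩, ⟨PullbackCone.IsLimit.mk _ (fun s => lift s.snd (s.fst ≫ snd X G)) ?_ ?_ ?_⟩⟩
  · intro s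
    apply CartesianMonoidalCategory.hom_ext
    · rw [Category.assoc, whiskerRight_fst, lift_fst_assoc, s.condition]
    · rw [Category.assoc, whiskerRight_snd, lift_snd]
  · intro s
    rw [lift_fst]
  · intro s m h1 h2
    apply CartesianMonoidalCategory.hom_ext
    · rw [lift_fst, h2]
    · rw [lift_snd, ← h1, Category.assoc, whiskerRight_snd]

theorem appTop_comp {T U V : Over (Spec (CommRingCat.of R))} (u : T ⟶ U) (v : U ⟶ V) :
    (u.left.appTop.hom).comp v.left.appTop.hom = (u ≫ v).left.appTop.hom := by
  rw [Over.comp_left, Scheme.Hom.comp_appTop]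
  rfl

include hρ in
/-- Bijectivity of the unit over an affine flat object. -/
theorem bijective_unitSect_pull [IsAffine Y.left] (hI : Inv (A := A) p) (yy : (AlgSt.ofSch Y).obj)
    (hyy : IsAffine yy.base.left) (hfl : Flat yy.sec.down.left) {W : Over (Spec (CommRingCat.of R))}
    {xW : W ⟶ sp R B} {eW : W ⟶ yy.base} (sq : IsPullback xW eW p yy.sec.down) (hW : IsAffine W.left) :
    Function.Bijective (unitSect ρ yy) := by
  have h0 : IsAffine (sp R B).left := inferInstanceAs (IsAffine (Spec (CommRingCat.of B)))
  have h1 : IsAffine (sp R B ⊗ sp R A).left := isAffine_prod h0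
  have h2 : IsAffine (W ⊗ sp R A).left := isAffine_prod hW
  obtain ⟨D, hD⟩ := exists_wact ρ p hρ sq
  obtain ⟨αz, hαz⟩ := exists_al ρ p hρ xW yy eW sq.w.symm
  have hpinv : ract R A B ≫ p = fst (sp R B) (sp R A) ≫ p := by
    have h3 : ract R A B = act (action R A B) (snd (sp R B) (sp R A))⁻¹ (fst (sp R B) (sp R A)) := by
      rw [act_eq_ract, inv_inv, lift_fst_snd, Category.id_comp]
    rw [h3, p_inv ρ p hρ]
  have sq2 : IsPullback (fst W (sp R A) ≫ eW) (xW ▷ sp R A) yy.sec.down (fst (sp R B) (sp R A) ≫ p) :=
    ((isPullback_whisk xW).paste_vert sq).flip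
  have hax : D.a ≫ xW = (xW ▷ sp R A) ≫ ract R A B := by
    rw [D.x]
    congr 1
  have hfl' : yy.sec.down.left.appTop.hom.Flat := (HasRingHomProperty.iff_of_isAffine (P := @Flat)).1 hfl
  have pB := isPushout_appTop_of_isPullback (K744.TorsProp.isPullback_left sq.flip)
  have pN := isPushout_appTop_of_isPullback (K744.TorsProp.isPullback_left sq2)
  have e1 : (ract R A B).left.appTop.hom.comp p.left.appTop.hom = (fst (sp R B) (sp R A) ≫ p).left.appTop.hom := by
    rw [appTop_comp, hpinv]
  have e2 : (fst (sp R B) (sp R A)).left.appTop.hom.comp p.left.appTop.hom =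
      (fst (sp R B) (sp R A) ≫ p).left.appTop.hom := by rw [appTop_comp]
  have e3 : D.a.left.appTop.hom.comp eW.left.appTop.hom = (fst W (sp R A) ≫ eW).left.appTop.hom := by
    rw [appTop_comp, hD]
  have e4 : (fst W (sp R A)).left.appTop.hom.comp eW.left.appTop.hom = (fst W (sp R A) ≫ eW).left.appTop.hom := by
    rw [appTop_comp]
  have e5 : D.a.left.appTop.hom.comp xW.left.appTop.hom =
      (xW ▷ sp R A).left.appTop.hom.comp (ract R A B).left.appTop.hom := by
    rw [appTop_comp, appTop_comp, hax]
  have e6 : (fst W (sp R A)).left.appTop.hom.comp xW.left.appTop.hom =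
      (xW ▷ sp R A).left.appTop.hom.comp (fst (sp R B) (sp R A)).left.appTop.hom := by
    rw [appTop_comp, appTop_comp, whiskerRight_fst]
  have key := flat_equalizer (C := Γ(Y.left, ⊤)) (C' := Γ(yy.base.left, ⊤)) (B := Γ((sp R B).left, ⊤))
    (B' := Γ(W.left, ⊤)) (N := Γ((sp R B ⊗ sp R A).left, ⊤)) (N' := Γ((W ⊗ sp R A).left, ⊤))
    yy.sec.down.left.appTop.hom hfl'
    p.left.appTop.hom eW.left.appTop.hom xW.left.appTop.hom (xW ▷ sp R A).left.appTop.hom
    (ract R A B).left.appTop.hom (fst (sp R B) (sp R A)).left.appTop.hom D.a.left.appTop.hom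
    (fst W (sp R A)).left.appTop.hom (fst (sp R B) (sp R A) ≫ p).left.appTop.hom (fst W (sp R A) ≫ eW).left.appTop.hom
    e1 e2 e3 e4 pB pN e5 e6 hI.inj hI.ex
  have hval : ∀ r : Γ(sch (AlgSt.ofSch Y) yy, ⊤), (unitSect ρ yy r).1 (tx (action R A B) xW) αz =
      eW.left.appTop.hom r := by
    intro r
    rw [unitSect_val, hαz]
    rfl
  constructor
  · intro r r' hr
    apply key.1
    have h5 := congrArg (fun t : Mod.RelSect ρ (O (QX R A B)) yy => t.1 (tx (action R A B) xW) αz) hr
    simp only [hval] at h5
    exact h5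
  · intro t
    have h5 := sec_inv ρ D hD αz hαz (OQ (QX R A B)) t
    obtain ⟨c, hc⟩ := key.2 (t.1 (tx (action R A B) xW) αz) h5
    refine ⟨c, ?_⟩
    apply sec_inj ρ p hρ sq αz hαz (OQ (QX R A B))
    exact (hval c).trans hc

include hρ in
theorem bijective_unitSect_aff [IsAffine Y.left] (hI : Inv (A := A) p) (yy : (AlgSt.ofSch Y).obj)
    (hyy : IsAffine yy.base.left) (hfl : Flat yy.sec.down.left) : Function.Bijective (unitSect ρ yy) := by
  have sq : IsPullback (pullback.fst p yy.sec.down) (pullback.snd p yy.sec.down) p yy.sec.down :=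
    IsPullback.of_hasPullback _ _
  have h0 : IsAffine (sp R B).left := inferInstanceAs (IsAffine (Spec (CommRingCat.of B)))
  have hW : IsAffine (pullback p yy.sec.down).left :=
    K907.Sec.isAffine_of_isPullback (K744.TorsProp.isPullback_left sq)
  exact bijective_unitSect_pull ρ p hρ hI yy hyy hfl sq hW

include hρ in
/-- The unit is an isomorphism. -/
theorem unitIsIso [IsAffine Y.left] (hI : Inv (A := A) p) : UnitIsIso ρ := by
  intro E
  have hY : FibCat.IsFibGrpd (AlgSt.ofSch Y).p := K735.Rep.isFibGrpd_ofSp _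
  have hE : Flat (etaOf E).sec.down.left := by
    have h1 : Etale (etaOf E).sec.down.left := by
      rw [← AlgSp.repWith_yon_map_iff @Etale]
      have h2 : (AlgSp.yon (Spec (CommRingCat.of R))).map (etaOf E).sec.down = E.obj.hom :=
        K906.SpGeo.toMap_etaOf E
      rw [h2]
      exact E.property
    infer_instance
  refine K906.UnitLoc.bijective_unitSect_of_charts (isFibGrpdQX R A B) hY fun yy' g hg hgo => ?_
  refine bijective_unitSect_aff ρ p hρ hI yy' hg ?_
  have h2 : g.hom ≫ (etaOf E).sec.down = yy'.sec.down := congrArg ULift.down g.map_sec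
  have h3 : IsOpenImmersion g.hom.left := hgo
  rw [← h2, Over.comp_left]
  infer_instance

end K908.QuotUnit
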